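import Mathlib.RingTheory.Localization.FractionRing
import Mathlib.RingTheory.IntegralClosure.IsIntegralClosure.Basic
import Mathlib.RingTheory.Ideal.Quotient.Operations
import Mathlib.RingTheory.Spectrum.Maximal.Basic

/-! The integral closure of a reduced ring in its total ring of fractions, split along finitely
many surjections onto domains with pairwise incomparable kernels meeting in zero. -/

namespace Groth.Agent.BrnchLib

universe u v

/-- Finitely many surjections onto domains with incomparable kernels meeting in zero. -/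
structure Comps (R : Type u) [CommRing R] {ι : Type v} (D : ι → Type u) [∀ i, CommRing (D i)] where
  π : ∀ i, R →+* D i
  surj : ∀ i, Function.Surjective (π i)
  zero : ∀ x, (∀ i, π i x = 0) → x = 0
  incomp : ∀ i j, i ≠ j → ∃ x, π i x ≠ 0 ∧ π j x = 0

variable {R : Type u} [CommRing R] {ι : Type v} [Finite ι] {D : ι → Type u} [∀ i, CommRing (D i)]
  [∀ i, IsDomain (D i)] (S : Comps R D)

namespace Comps

theorem exists_sep (i : ι) : ∃ x, S.π i x ≠ 0 ∧ ∀ j, j ≠ i → S.π j x = 0 := by
  classical
  have := Fintype.ofFinite ι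
  have : ∀ j, ∃ x, S.π i x ≠ 0 ∧ (j ≠ i → S.π j x = 0) := fun j => by
    by_cases h : j = i
    · exact ⟨1, by rw [map_one]; exact one_ne_zero, fun h' => absurd h h'⟩
    · obtain ⟨x, h1, h2⟩ := S.incomp i j (Ne.symm h)
      exact ⟨x, h1, fun _ => h2⟩
  choose x hx hx' using this
  refine ⟨∏ j, x j, ?_, fun j hj => ?_⟩
  · rw [map_prod]
    exact Finset.prod_ne_zero_iff.2 fun j _ => hx j
  · rw [map_prod]
    exact Finset.prod_eq_zero (Finset.mem_univ j) (hx' j hj)

theorem mem_nonZeroDivisors_iff {x : R} : x ∈ nonZeroDivisors R ↔ ∀ i, S.π i x ≠ 0 := by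
  refine ⟨fun h i hi => ?_, fun h => mem_nonZeroDivisors_iff_right.2 fun y hy => S.zero y fun i => ?_⟩
  · obtain ⟨y, hy, hy'⟩ := S.exists_sep i
    refine hy ?_
    have : y * x = 0 := S.zero _ fun j => by
      by_cases hj : j = i
      · subst hj; rw [map_mul, hi, mul_zero]
      · rw [map_mul, hy' j hj, zero_mul]
    rw [(mem_nonZeroDivisors_iff_right.1 h) y this, map_zero]
  · have := congrArg (S.π i) hy
    rw [map_mul, map_zero] at this
    exact (mul_eq_zero.1 this).resolve_right (h i)

/-- The map on total fraction rings. -/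
noncomputable def frac (i : ι) : FractionRing R →+* FractionRing (D i) :=
  IsLocalization.lift (M := nonZeroDivisors R)
    (g := (algebraMap (D i) (FractionRing (D i))).comp (S.π i)) fun y =>
      IsUnit.mk0 _ fun h => S.mem_nonZeroDivisors_iff.1 y.2 i
        ((map_eq_zero_iff _ (IsFractionRing.injective (D i) _)).1 h)

theorem frac_algebraMap (i : ι) (r : R) :
    S.frac i (algebraMap R _ r) = algebraMap (D i) _ (S.π i r) :=
  IsLocalization.lift_eq _ r

theorem frac_mk' (i : ι) (a : R) (s : nonZeroDivisors R) :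
    S.frac i (IsLocalization.mk' _ a s) * algebraMap (D i) _ (S.π i s) =
      algebraMap (D i) _ (S.π i a) := by
  rw [← S.frac_algebraMap, ← map_mul, IsLocalization.mk'_spec, S.frac_algebraMap]

theorem frac_ext {x y : FractionRing R} (h : ∀ i, S.frac i x = S.frac i y) : x = y := by
  rw [← sub_eq_zero]
  obtain ⟨a, s, hz⟩ := IsLocalization.exists_mk'_eq (nonZeroDivisors R) (x - y)
  rw [← hz]
  have : a = 0 := S.zero a fun i => by
    have h0 : S.frac i (x - y) = 0 := by rw [map_sub, h i, sub_self]
    have h1 := S.frac_mk' i a s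
    rw [hz, h0, zero_mul] at h1
    exact (map_eq_zero_iff _ (IsFractionRing.injective (D i) _)).1 h1.symm
  rw [this, IsLocalization.mk'_zero]

theorem frac_surj (z : ∀ i, FractionRing (D i)) : ∃ x, ∀ i, S.frac i x = z i := by
  classical
  have := Fintype.ofFinite ι
  choose s hs hs' using S.exists_sep
  have : ∀ i, ∃ a b : R, S.π i b ≠ 0 ∧
      z i * algebraMap _ _ (S.π i b) = algebraMap (D i) (FractionRing (D i)) (S.π i a) := fun i => by
    obtain ⟨⟨a, b⟩, h⟩ := IsLocalization.surj (nonZeroDivisors (D i)) (z i)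
    obtain ⟨a', ha'⟩ := S.surj i a
    obtain ⟨b', hb'⟩ := S.surj i (b : D i)
    exact ⟨a', b', hb' ▸ nonZeroDivisors.ne_zero b.2, by rw [hb', ha']; exact h⟩
  choose a b hb hab using this
  have hsum : ∀ (f : ι → R) (i : ι), S.π i (∑ j, f j * s j) = S.π i (f i) * S.π i (s i) := fun f i => by
    rw [map_sum, Finset.sum_eq_single i, map_mul]
    · intro j _ hj
      rw [map_mul, hs' j i (Ne.symm hj), mul_zero]
    · intro h; exact absurd (Finset.mem_univ i) h
  have hD : ∑ j, b j * s j ∈ nonZeroDivisors R := S.mem_nonZeroDivisors_iff.2 fun i => by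
    rw [hsum]; exact mul_ne_zero (hb i) (hs i)
  refine ⟨IsLocalization.mk' _ (∑ j, a j * s j) ⟨_, hD⟩, fun i => ?_⟩
  have h := S.frac_mk' i (∑ j, a j * s j) ⟨_, hD⟩
  rw [hsum b i, hsum a i, map_mul, map_mul, ← hab i] at h
  refine mul_right_cancel₀ ?_ (h.trans (mul_assoc _ _ _))
  exact mul_ne_zero ((map_ne_zero_iff _ (IsFractionRing.injective (D i) _)).2 (hb i))
    ((map_ne_zero_iff _ (IsFractionRing.injective (D i) _)).2 (hs i))

theorem isIntegral_of_frac {x : FractionRing R} (h : ∀ i, IsIntegral (D i) (S.frac i x)) :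
    IsIntegral R x := by
  classical
  have := Fintype.ofFinite ι
  have : ∀ i, ∃ f : Polynomial R, f.Monic ∧ (f.map (S.π i)).eval₂ (algebraMap (D i) _) (S.frac i x) = 0 := by
    intro i
    obtain ⟨g, hg, hg0⟩ := h i
    obtain ⟨f, hf, -, hfm⟩ := Polynomial.lifts_and_degree_eq_and_monic
      ((Polynomial.lifts_iff_coeff_lifts g).2 fun n => S.surj i (g.coeff n)) hg
    exact ⟨f, hfm, by rw [hf]; exact hg0⟩
  choose f hf hf0 using this
  refine ⟨∏ i, f i, Polynomial.monic_prod_of_monic _ _ fun i _ => hf i, S.frac_ext fun j => ?_⟩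
  have hc : (S.frac j).comp (algebraMap R (FractionRing R)) =
      (algebraMap (D j) (FractionRing (D j))).comp (S.π j) := RingHom.ext fun r => S.frac_algebraMap j r
  rw [map_zero, Polynomial.hom_eval₂, hc, ← Polynomial.eval₂_map, Polynomial.map_prod,
    Polynomial.eval₂_finsetProd]
  exact Finset.prod_eq_zero (Finset.mem_univ j) (hf0 j)

/-- The projection of the normalization to the normalization of a component. -/
noncomputable def proj (i : ι) :
    integralClosure R (FractionRing R) →+* integralClosure (D i) (FractionRing (D i)) :=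
  ((S.frac i).comp (integralClosure R (FractionRing R)).val.toRingHom).codRestrict _ fun x =>
    IsIntegral.map_of_comp_eq (S.π i) (S.frac i) (RingHom.ext fun r => (S.frac_algebraMap i r).symm) x.2

theorem proj_algebraMap (i : ι) (r : R) :
    S.proj i (algebraMap R _ r) = algebraMap (D i) _ (S.π i r) :=
  Subtype.ext (S.frac_algebraMap i r)

theorem proj_ext {x y : integralClosure R (FractionRing R)} (h : ∀ i, S.proj i x = S.proj i y) :
    x = y :=
  Subtype.ext (S.frac_ext fun i => congrArg Subtype.val (h i))

theorem proj_surj (z : ∀ i, integralClosure (D i) (FractionRing (D i))) :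
    ∃ x, ∀ i, S.proj i x = z i := by
  obtain ⟨x, hx⟩ := S.frac_surj fun i => (z i : FractionRing (D i))
  exact ⟨⟨x, S.isIntegral_of_frac fun i => (hx i).symm ▸ (z i).2⟩, fun i => Subtype.ext (hx i)⟩

theorem proj_surjective (i : ι) : Function.Surjective (S.proj i) := fun z => by
  classical
  obtain ⟨x, hx⟩ := S.proj_surj (Pi.single i z)
  exact ⟨x, by rw [hx i, Pi.single_eq_same]⟩

theorem exists_idem (i : ι) : ∃ e, S.proj i e = 1 ∧ ∀ j, j ≠ i → S.proj j e = 0 := by
  classical
  obtain ⟨x, hx⟩ := S.proj_surj (Pi.single i 1)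
  exact ⟨x, by rw [hx i, Pi.single_eq_same], fun j hj => by rw [hx j, Pi.single_eq_of_ne hj]⟩

/-- The maximal ideal of the normalization given by a maximal ideal of one component. -/
noncomputable def pull (m : Σ i, MaximalSpectrum (integralClosure (D i) (FractionRing (D i)))) :
    MaximalSpectrum (integralClosure R (FractionRing R)) :=
  haveI := m.2.isMaximal
  ⟨m.2.asIdeal.comap (S.proj m.1), Ideal.comap_isMaximal_of_surjective _ (S.proj_surjective m.1)⟩

theorem pull_bijective : Function.Bijective S.pull := by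
  classical
  have := Fintype.ofFinite ι
  choose e he he' using S.exists_idem
  refine ⟨?_, fun m => ?_⟩
  · rintro ⟨i, m⟩ ⟨j, n⟩ h
    have h' : m.asIdeal.comap (S.proj i) = n.asIdeal.comap (S.proj j) := congrArg MaximalSpectrum.asIdeal h
    obtain rfl : i = j := by
      by_contra hne
      have : e i ∈ n.asIdeal.comap (S.proj j) := by
        rw [Ideal.mem_comap, he' i j (Ne.symm hne)]; exact n.asIdeal.zero_mem
      rw [← h', Ideal.mem_comap, he i] at this
      exact m.isMaximal.ne_top ((Ideal.eq_top_iff_one _).2 this)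
    exact congrArg (Sigma.mk i)
      (MaximalSpectrum.ext (Ideal.comap_injective_of_surjective _ (S.proj_surjective i) h'))
  · have h1 : ∑ i, e i = 1 := S.proj_ext fun j => by
      rw [map_sum, map_one, Finset.sum_eq_single j (fun i _ hi => he' i j (Ne.symm hi))
        (fun h => absurd (Finset.mem_univ j) h), he]
    obtain ⟨i, hi⟩ : ∃ i, e i ∉ m.asIdeal := by
      by_contra! h
      exact m.isMaximal.ne_top ((Ideal.eq_top_iff_one _).2 (h1 ▸ sum_mem fun i _ => h i))
    have hker : RingHom.ker (S.proj i) ≤ m.asIdeal := fun x hx => by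
      refine ((m.isMaximal.isPrime.mem_or_mem (show e i * x ∈ m.asIdeal from ?_))).resolve_left hi
      rw [show e i * x = 0 from S.proj_ext fun j => ?_]
      · exact m.asIdeal.zero_mem
      · rw [map_mul, map_zero]
        by_cases hj : j = i
        · subst hj; rw [RingHom.mem_ker.1 hx, mul_zero]
        · rw [he' i j hj, zero_mul]
    have hc : (m.asIdeal.map (S.proj i)).comap (S.proj i) = m.asIdeal := by
      rw [Ideal.comap_map_of_surjective _ (S.proj_surjective i), sup_eq_left.2]
      rwa [← RingHom.ker_eq_comap_bot]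
    refine ⟨⟨i, ⟨m.asIdeal.map (S.proj i), ?_⟩⟩, MaximalSpectrum.ext hc⟩
    refine (Ideal.map_eq_top_or_isMaximal_of_surjective _ (S.proj_surjective i) m.isMaximal).resolve_left
      fun h => m.isMaximal.ne_top ?_
    rw [← hc, h, Ideal.comap_top]

/-- The maximal ideals of the normalization are those of the components. -/
noncomputable def maxEquiv :
    (Σ i, MaximalSpectrum (integralClosure (D i) (FractionRing (D i)))) ≃
      MaximalSpectrum (integralClosure R (FractionRing R)) :=
  Equiv.ofBijective S.pull S.pull_bijective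

/-- The residue fields agree. -/
noncomputable def resEquiv (m : Σ i, MaximalSpectrum (integralClosure (D i) (FractionRing (D i)))) :
    (integralClosure R (FractionRing R) ⧸ (S.pull m).asIdeal) ≃+*
      (integralClosure (D m.1) (FractionRing (D m.1)) ⧸ m.2.asIdeal) :=
  RingEquiv.ofBijective (Ideal.quotientMap m.2.asIdeal (S.proj m.1) le_rfl)
    ⟨Ideal.quotientMap_injective, Ideal.quotientMap_surjective (S.proj_surjective m.1)⟩

theorem resEquiv_mk (m : Σ i, MaximalSpectrum (integralClosure (D i) (FractionRing (D i))))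
    (x : integralClosure R (FractionRing R)) :
    S.resEquiv m (Ideal.Quotient.mk _ x) = Ideal.Quotient.mk _ (S.proj m.1 x) := rfl

end Comps

end Groth.Agent.BrnchLib
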