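import Groth.Prelude.Def_Brnch
import Groth.Prelude.Def_EGA4b
import Groth.Agent.BrnchLib.Split
import Mathlib.RingTheory.Ideal.MinimalPrime.Localization
import Mathlib.RingTheory.LocalRing.ResidueField.Basic
import Mathlib.FieldTheory.IsAlgClosed.AlgebraicClosure
import Mathlib.RingTheory.IntegralClosure.IsIntegralClosure.Basic
import Mathlib.SetTheory.Cardinal.Finite

/-! Branches of a local ring as the sum of those of its irreducible components. -/

namespace Groth.Agent.BrnchLib

universe u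

theorem card_sigma_eq_sum {ι : Type u} [Fintype ι] (β : ι → Type u) :
    ENat.card (Σ i, β i) = ∑ i, ENat.card (β i) := by
  classical
  suffices h : ∀ s : Finset ι, ENat.card (Σ i : {i // i ∈ s}, β i.1) = ∑ i ∈ s, ENat.card (β i) by
    rw [← h Finset.univ]
    exact ENat.card_congr (Equiv.sigmaCongrLeft (β := β)
      (Equiv.subtypeUnivEquiv (fun i => Finset.mem_univ i))).symm
  intro s
  induction s using Finset.induction_on with
  | empty => simp [ENat.card_eq_zero_iff_empty]
  | @insert a t ha ih =>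
    rw [Finset.sum_insert ha, ← ih, ← ENat.card_sum]
    refine ENat.card_congr
      { toFun := fun x => if h : x.1.1 = a then Sum.inl (h ▸ x.2)
          else Sum.inr ⟨⟨x.1.1, (Finset.mem_insert.1 x.1.2).resolve_left h⟩, x.2⟩
        invFun := fun y => y.elim (fun b => ⟨⟨a, Finset.mem_insert_self _ _⟩, b⟩)
          (fun x => ⟨⟨x.1.1, Finset.mem_insert_of_mem x.1.2⟩, x.2⟩)
        left_inv := ?_
        right_inv := ?_ }
    · rintro ⟨⟨i, hi⟩, b⟩
      by_cases h : i = a
      · subst h; simp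
      · simp [h]
    · rintro (b | ⟨⟨i, hi⟩, b⟩)
      · simp
      · have : i ≠ a := fun h => ha (h ▸ hi)
        simp [this]

theorem card_sigma_eq_finsum {ι : Type u} [Finite ι] (β : ι → Type u) :
    ENat.card (Σ i, β i) = ∑ᶠ i, ENat.card (β i) := by
  have := Fintype.ofFinite ι
  rw [finsum_eq_sum_of_fintype, card_sigma_eq_sum]

variable (A : Type u) [CommRing A]

instance instIsDomainRed (p : minimalPrimes A) :
    IsDomain (CAlg2.red (A ⧸ p.1)) := by
  haveI : p.1.IsPrime := p.2.1.1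
  haveI : (nilradical (A ⧸ p.1)).IsPrime := by
    rw [nilradical_eq_zero]; exact Ideal.isPrime_bot
  exact Ideal.Quotient.isDomain _

/-- The projection of the reduction to that of a component. -/
noncomputable def redMap (p : Ideal A) : CAlg2.red A →+* CAlg2.red (A ⧸ p) :=
  Ideal.Quotient.lift (nilradical A) ((Ideal.Quotient.mk _).comp (Ideal.Quotient.mk p)) fun a ha => by
    rw [RingHom.comp_apply, Ideal.Quotient.eq_zero_iff_mem, mem_nilradical]
    exact (mem_nilradical.1 ha).map _

theorem redMap_eq_zero_iff {p : Ideal A} [p.IsPrime] (a : A) :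
    redMap A p (Ideal.Quotient.mk _ a) = 0 ↔ a ∈ p := by
  show Ideal.Quotient.mk (nilradical (A ⧸ p)) (Ideal.Quotient.mk p a) = 0 ↔ _
  rw [Ideal.Quotient.eq_zero_iff_mem, nilradical_eq_zero, Submodule.zero_eq_bot, Ideal.mem_bot,
    Ideal.Quotient.eq_zero_iff_mem]

/-- The components of the reduction. -/
noncomputable def comps :
    Comps (CAlg2.red A) (fun p : minimalPrimes A => CAlg2.red (A ⧸ p.1)) where
  π p := redMap A p.1
  surj p := fun y => by
    obtain ⟨y, rfl⟩ := Ideal.Quotient.mk_surjective y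
    obtain ⟨a, rfl⟩ := Ideal.Quotient.mk_surjective y
    exact ⟨Ideal.Quotient.mk _ a, rfl⟩
  zero x hx := by
    obtain ⟨a, rfl⟩ := Ideal.Quotient.mk_surjective x
    rw [Ideal.Quotient.eq_zero_iff_mem, nilradical, Submodule.zero_eq_bot, ← Ideal.sInf_minimalPrimes]
    exact Submodule.mem_sInf.2 fun p hp => by
      haveI : Ideal.IsPrime p := hp.1.1
      exact (redMap_eq_zero_iff A a).1 (hx ⟨p, hp⟩)
  incomp p q hne := by
    haveI : p.1.IsPrime := p.2.1.1
    haveI : q.1.IsPrime := q.2.1.1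
    obtain ⟨a, haq, hap⟩ := SetLike.not_le_iff_exists.1 fun hle : q.1 ≤ p.1 =>
      hne (Subtype.ext (le_antisymm (p.2.2 q.2.1 hle) hle))
    exact ⟨Ideal.Quotient.mk _ a, fun h => hap ((redMap_eq_zero_iff A a).1 h),
      (redMap_eq_zero_iff A a).2 haq⟩

theorem embSubtype_equiv {A A' X X' K K' : Type u} [CommRing A] [CommRing A'] [CommRing X]
    [CommRing X'] [CommRing K] [CommRing K'] (f : A →+* X) (f' : A' →+* X') (g : A →+* K)
    (g' : A' →+* K') (q : A →+* A') (hq : Function.Surjective q) (r : X ≃+* X') (e : K ≃+* K')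
    (hr : ∀ a, r (f a) = f' (q a)) (he : ∀ a, e (g a) = g' (q a)) :
    Nonempty ({σ : X →+* K // σ.comp f = g} ≃ {σ : X' →+* K' // σ.comp f' = g'}) := by
  refine ⟨
    { toFun := fun σ => ⟨e.toRingHom.comp (σ.1.comp r.symm.toRingHom), RingHom.ext fun b => ?_⟩
      invFun := fun σ => ⟨e.symm.toRingHom.comp (σ.1.comp r.toRingHom), RingHom.ext fun a => ?_⟩
      left_inv := fun σ => Subtype.ext (RingHom.ext fun x => by simp)
      right_inv := fun σ => Subtype.ext (RingHom.ext fun x => by simp) }⟩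
  · obtain ⟨a, rfl⟩ := hq b
    show e (σ.1 (r.symm (f' (q a)))) = g' (q a)
    rw [← hr, RingEquiv.symm_apply_apply, ← he]
    exact congrArg e (RingHom.congr_fun σ.2 a)
  · show e.symm (σ.1 (r (f a))) = g a
    rw [hr, RingEquiv.symm_apply_eq, he]
    exact RingHom.congr_fun σ.2 (q a)

variable [IsLocalRing A]

/-- The residue fields of a local ring and of its quotient agree. -/
theorem exists_closureEquiv (p : Ideal A) [IsLocalRing (A ⧸ p)] :
    ∃ e : AlgebraicClosure (IsLocalRing.ResidueField A) ≃+*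
        AlgebraicClosure (IsLocalRing.ResidueField (A ⧸ p)),
      ∀ a, e (Brnch.toClosure A a) = Brnch.toClosure (A ⧸ p) (Ideal.Quotient.mk p a) := by
  haveI : IsLocalHom (Ideal.Quotient.mk p) :=
    IsLocalHom.of_surjective _ Ideal.Quotient.mk_surjective
  let ψ := IsLocalRing.ResidueField.map (Ideal.Quotient.mk p)
  have hψ : Function.Bijective ψ := ⟨ψ.injective, fun y => by
    obtain ⟨y, rfl⟩ := IsLocalRing.residue_surjective y
    obtain ⟨a, rfl⟩ := Ideal.Quotient.mk_surjective y
    exact ⟨IsLocalRing.residue A a, rfl⟩⟩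
  refine ⟨IsAlgClosure.equivOfEquiv _ _ (RingEquiv.ofBijective ψ hψ), fun a => ?_⟩
  exact IsAlgClosure.equivOfEquiv_algebraMap _ _ (RingEquiv.ofBijective ψ hψ) (IsLocalRing.residue A a)

/-- Embeddings of residue fields of the normalization, component by component. -/
theorem card_emb [Finite (minimalPrimes A)] (p : minimalPrimes A) [IsLocalRing (A ⧸ p.1)]
    (m : MaximalSpectrum (CAlg2.normRed (A ⧸ p.1))) :
    Nonempty (Brnch.Emb A ((comps A).pull ⟨p, m⟩) ≃ Brnch.Emb (A ⧸ p.1) m) := by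
  obtain ⟨e, he⟩ := exists_closureEquiv A p.1
  let r := (comps A).resEquiv ⟨p, m⟩
  have hr : ∀ a, r (Brnch.toResidue A ((comps A).pull ⟨p, m⟩) a) =
      Brnch.toResidue (A ⧸ p.1) m (Ideal.Quotient.mk p.1 a) := fun a => by
    show Ideal.Quotient.mk _ ((comps A).proj p (algebraMap _ _ (Ideal.Quotient.mk (nilradical A) a))) = _
    rw [Comps.proj_algebraMap]
    rfl
  exact embSubtype_equiv (X := CAlg2.normRed A ⧸ ((comps A).pull ⟨p, m⟩).asIdeal)
    (X' := CAlg2.normRed (A ⧸ p.1) ⧸ m.asIdeal) (Brnch.toResidue A ((comps A).pull ⟨p, m⟩)) (Brnch.toResidue (A ⧸ p.1) m)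
    (Brnch.toClosure A)
    (Brnch.toClosure (A ⧸ p.1)) (Ideal.Quotient.mk p.1) Ideal.Quotient.mk_surjective r e hr he

theorem numBranches_quot (p : minimalPrimes A) [IsLocalRing (A ⧸ p.1)] :
    Brnch.numBranches (A ⧸ p.1) = ENat.card (MaximalSpectrum (CAlg2.normRed (A ⧸ p.1))) ∧
      Brnch.numGeomBranches (A ⧸ p.1) =
        ENat.card (Σ m : MaximalSpectrum (CAlg2.normRed (A ⧸ p.1)), Brnch.Emb (A ⧸ p.1) m) := by
  haveI : p.1.IsPrime := p.2.1.1
  have hfin : (minimalPrimes (A ⧸ p.1)).Finite := by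
    refine (Set.finite_singleton ⊥).subset fun q hq => ?_
    exact le_antisymm (hq.2 ⟨Ideal.isPrime_bot, le_rfl⟩ bot_le) bot_le
  exact ⟨if_pos hfin, if_pos hfin⟩

theorem numBranches_eq_finsum (h : (minimalPrimes A).Finite) :
    Brnch.numBranches A = ∑ᶠ p : minimalPrimes A,
      haveI : p.1.IsPrime := p.2.1.1
      Brnch.numBranches (A ⧸ p.1) := by
  haveI := h.to_subtype
  rw [Brnch.numBranches, if_pos h, ← ENat.card_congr (comps A).maxEquiv, card_sigma_eq_finsum]
  refine finsum_congr fun p => ?_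
  haveI : p.1.IsPrime := p.2.1.1
  exact ((numBranches_quot A p).1).symm

theorem numGeomBranches_eq_finsum (h : (minimalPrimes A).Finite) :
    Brnch.numGeomBranches A = ∑ᶠ p : minimalPrimes A,
      haveI : p.1.IsPrime := p.2.1.1
      Brnch.numGeomBranches (A ⧸ p.1) := by
  haveI := h.to_subtype
  rw [Brnch.numGeomBranches, if_pos h,
    ← ENat.card_congr (Equiv.sigmaCongrLeft (β := Brnch.Emb A) (comps A).maxEquiv),
    ENat.card_congr (Equiv.sigmaAssoc fun p m => Brnch.Emb A ((comps A).maxEquiv ⟨p, m⟩)),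
    card_sigma_eq_finsum]
  refine finsum_congr fun p => ?_
  haveI : p.1.IsPrime := p.2.1.1
  rw [(numBranches_quot A p).2]
  exact ENat.card_congr (Equiv.sigmaCongrRight fun m => (card_emb A p m).some)

end Groth.Agent.BrnchLib
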