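import Groth.Agent.BrnchLib.HenzMin
import Groth.Agent.BrnchLib.Count
import Mathlib.RingTheory.Localization.AtPrime.Basic

/-! The normalization of a reduced local ring with finitely many components as the cover of `HenzMin`. -/

noncomputable section

namespace Groth.Agent.BrnchLib

universe u v

set_option linter.style.haveILetI false

section comps

variable {R : Type u} [CommRing R] {ι : Type v} [Finite ι] {D : ι → Type u} [∀ i, CommRing (D i)]
  [∀ i, IsDomain (D i)] (S : Comps R D)

theorem exists_ker_le (P : Ideal (integralClosure R (FractionRing R))) [hP : P.IsPrime] :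
    ∃ i, RingHom.ker (S.proj i) ≤ P := by
  classical
  have := Fintype.ofFinite ι
  choose e he he' using S.exists_idem
  have h1 : ∑ i, e i = 1 := S.proj_ext fun j => by
    rw [map_sum, map_one, Finset.sum_eq_single j (fun i _ hi => he' i j (Ne.symm hi))
      (fun h => absurd (Finset.mem_univ j) h), he]
  obtain ⟨i, hi⟩ : ∃ i, e i ∉ P := by
    by_contra! h
    exact hP.ne_top ((Ideal.eq_top_iff_one _).2 (h1 ▸ sum_mem fun i _ => h i))
  refine ⟨i, fun x hx => (hP.mem_or_mem (show e i * x ∈ P from ?_)).resolve_left hi⟩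
  rw [show e i * x = 0 from S.proj_ext fun j => ?_]
  · exact P.zero_mem
  · rw [map_mul, map_zero]
    by_cases hj : j = i
    · subst hj; rw [RingHom.mem_ker.1 hx, mul_zero]
    · rw [he' i j hj, zero_mul]

instance isPrime_ker_proj (i : ι) : (RingHom.ker (S.proj i)).IsPrime := RingHom.ker_isPrime _

theorem ker_le_ker_imp {i j : ι} (h : RingHom.ker (S.proj i) ≤ RingHom.ker (S.proj j)) : i = j := by
  by_contra hne
  obtain ⟨e, he, he'⟩ := S.exists_idem j
  have := h (RingHom.mem_ker.2 (he' i hne))
  rw [RingHom.mem_ker, he] at this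
  exact one_ne_zero this

theorem mem_minimalPrimes_iff (P : Ideal (integralClosure R (FractionRing R))) :
    P ∈ minimalPrimes (integralClosure R (FractionRing R)) ↔ ∃ i, P = RingHom.ker (S.proj i) := by
  constructor
  · intro hP
    haveI := hP.1.1
    obtain ⟨i, hi⟩ := exists_ker_le S P
    exact ⟨i, le_antisymm (hP.2 ⟨inferInstance, bot_le⟩ hi) hi⟩
  · rintro ⟨i, rfl⟩
    refine ⟨⟨inferInstance, bot_le⟩, fun Q ⟨hQ, _⟩ hle => ?_⟩
    haveI := hQ
    obtain ⟨j, hj⟩ := exists_ker_le S Q
    obtain rfl := ker_le_ker_imp S (hj.trans hle)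
    exact hj

include S in
theorem isDomain_normal_localization (m : Ideal (integralClosure R (FractionRing R))) [hm : m.IsMaximal] :
    IsDomain (Localization.AtPrime m) ∧ IsIntegrallyClosed (Localization.AtPrime m) := by
  classical
  obtain ⟨⟨i, mi⟩, hpull⟩ := S.pull_bijective.2 ⟨m, hm⟩
  haveI := mi.isMaximal
  have hmi : mi.asIdeal.comap (S.proj i) = m := congrArg MaximalSpectrum.asIdeal hpull
  obtain ⟨e, he, he'⟩ := S.exists_idem i
  let Di := integralClosure (D i) (FractionRing (D i))
  let L := Localization.AtPrime mi.asIdeal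
  haveI : IsIntegrallyClosed Di := integralClosure.isIntegrallyClosedOfFiniteExtension (FractionRing (D i))
  haveI : IsIntegrallyClosed L :=
    isIntegrallyClosed_of_isLocalization L mi.asIdeal.primeCompl mi.asIdeal.primeCompl_le_nonZeroDivisors
  haveI : IsDomain L := IsLocalization.isDomain_localization mi.asIdeal.primeCompl_le_nonZeroDivisors
  letI : Algebra (integralClosure R (FractionRing R)) L := ((algebraMap Di L).comp (S.proj i)).toAlgebra
  have hmem : ∀ y, S.proj i y ∈ mi.asIdeal ↔ y ∈ m := fun y => by rw [← hmi, Ideal.mem_comap]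
  haveI : IsLocalization m.primeCompl L := {
    map_units := fun y => IsLocalization.map_units L (⟨S.proj i y, fun h => y.2 ((hmem _).1 h)⟩ : mi.asIdeal.primeCompl)
    surj := fun z => by
      obtain ⟨⟨a, s⟩, h⟩ := IsLocalization.surj mi.asIdeal.primeCompl z
      obtain ⟨a', ha'⟩ := S.proj_surjective i a
      obtain ⟨s', hs'⟩ := S.proj_surjective i s
      refine ⟨⟨a', ⟨s', fun hh => s.2 (hs' ▸ (hmem s').2 hh)⟩⟩, ?_⟩
      show z * algebraMap Di L (S.proj i s') = algebraMap Di L (S.proj i a')
      rw [ha', hs']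
      exact h
    exists_of_eq := fun {x y} h => by
      obtain ⟨c, hc⟩ := IsLocalization.exists_of_eq (M := mi.asIdeal.primeCompl) (S := L) h
      obtain ⟨c', hc'⟩ := S.proj_surjective i c
      refine ⟨⟨c' * e, fun hh => c.2 ?_⟩, S.proj_ext fun j => ?_⟩
      · have := (hmem _).2 hh
        rwa [map_mul, he, mul_one, hc'] at this
      · show S.proj j (c' * e * x) = S.proj j (c' * e * y)
        simp only [map_mul]
        by_cases hj : j = i
        · subst hj; rw [he, mul_one, hc']; exact hc
        · rw [he' j hj, mul_zero, zero_mul, zero_mul] }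
  let φ := (IsLocalization.algEquiv m.primeCompl L (Localization.AtPrime m)).toRingEquiv
  exact ⟨φ.symm.toMulEquiv.isDomain _, IsIntegrallyClosed.of_equiv (R := L) φ⟩

end comps

variable (A : Type u) [CommRing A]

theorem proj_algebraMap' [Finite (minimalPrimes A)] (p : minimalPrimes A) (a : A) :
    (comps A).proj p (algebraMap A (CAlg2.normRed A) a) =
      algebraMap (CAlg2.red (A ⧸ p.1)) _ (redMap A p.1 (Ideal.Quotient.mk _ a)) := by
  rw [IsScalarTower.algebraMap_apply A (CAlg2.red A) (CAlg2.normRed A)]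
  exact (comps A).proj_algebraMap p _

theorem comap_ker_proj [Finite (minimalPrimes A)] (p : minimalPrimes A) :
    (RingHom.ker ((comps A).proj p)).comap (algebraMap A (CAlg2.normRed A)) = p.1 := by
  haveI : p.1.IsPrime := p.2.1.1
  ext a
  rw [Ideal.mem_comap, RingHom.mem_ker, proj_algebraMap', map_eq_zero_iff _ (fun x y h =>
    IsFractionRing.injective (CAlg2.red (A ⧸ p.1)) (FractionRing (CAlg2.red (A ⧸ p.1))) (congrArg Subtype.val h)),
    redMap_eq_zero_iff]

instance isIntegral_normRed : Algebra.IsIntegral A (CAlg2.normRed A) := by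
  haveI : Algebra.IsIntegral A (CAlg2.red A) := inferInstance
  exact Algebra.IsIntegral.trans (CAlg2.red A)

theorem bijOn_normRed [Finite (minimalPrimes A)] :
    Set.BijOn (Ideal.comap (algebraMap A (CAlg2.normRed A))) (minimalPrimes (CAlg2.normRed A)) (minimalPrimes A) := by
  refine ⟨fun P hP => ?_, fun P hP Q hQ h => ?_, fun p hp => ?_⟩
  · obtain ⟨p, rfl⟩ := (mem_minimalPrimes_iff (comps A) P).1 hP
    rw [comap_ker_proj]
    exact p.2
  · obtain ⟨p, rfl⟩ := (mem_minimalPrimes_iff (comps A) P).1 hP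
    obtain ⟨q, rfl⟩ := (mem_minimalPrimes_iff (comps A) Q).1 hQ
    rw [comap_ker_proj, comap_ker_proj] at h
    rw [Subtype.ext h]
  · exact ⟨RingHom.ker ((comps A).proj ⟨p, hp⟩), (mem_minimalPrimes_iff (comps A) _).2 ⟨_, rfl⟩, comap_ker_proj A ⟨p, hp⟩⟩

theorem birational_normRed [Finite (minimalPrimes A)] :
    ∀ P ∈ minimalPrimes (CAlg2.normRed A), ∀ b : CAlg2.normRed A, ∃ a a₀ : A,
      algebraMap A (CAlg2.normRed A) a ∉ P ∧ algebraMap A (CAlg2.normRed A) a * b - algebraMap A _ a₀ ∈ P := by
  intro P hP b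
  obtain ⟨p, rfl⟩ := (mem_minimalPrimes_iff (comps A) P).1 hP
  haveI : p.1.IsPrime := p.2.1.1
  obtain ⟨⟨x, d⟩, hxd⟩ := IsLocalization.surj (nonZeroDivisors (CAlg2.red (A ⧸ p.1))) ((comps A).proj p b).1
  obtain ⟨a₀, ha₀⟩ := (comps A).surj p x
  obtain ⟨a₀, rfl⟩ := Ideal.Quotient.mk_surjective a₀
  obtain ⟨a, ha⟩ := (comps A).surj p (d : CAlg2.red (A ⧸ p.1))
  obtain ⟨a, rfl⟩ := Ideal.Quotient.mk_surjective a
  refine ⟨a, a₀, ?_, ?_⟩
  · rw [← Ideal.mem_comap, comap_ker_proj, ← redMap_eq_zero_iff A a]
    intro h0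
    exact nonZeroDivisors.ne_zero d.2 (ha.symm.trans h0)
  · rw [RingHom.mem_ker, map_sub, map_mul, proj_algebraMap', proj_algebraMap', sub_eq_zero]
    refine Subtype.ext ?_
    change algebraMap _ (FractionRing (CAlg2.red (A ⧸ p.1))) (redMap A p.1 _) * _ = algebraMap _ _ (redMap A p.1 _)
    rw [show redMap A p.1 (Ideal.Quotient.mk _ a) = (d : CAlg2.red (A ⧸ p.1)) from ha,
      show redMap A p.1 (Ideal.Quotient.mk _ a₀) = x from ha₀, mul_comm]
    exact hxd

/-- Minimal primes of a henselization are counted by the branches. -/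
theorem card_minimalPrimes_henselization [IsLocalRing A] (S : Type u) [CommRing S] [IsLocalRing S] [Algebra A S]
    [IsLocalHom (algebraMap A S)] [_root_.Hensel.IsHenselization A S] :
    ENat.card (minimalPrimes S) = Brnch.numBranches A := by
  unfold Brnch.numBranches
  by_cases hfin : (minimalPrimes A).Finite
  · rw [if_pos hfin]
    haveI : Finite (minimalPrimes A) := hfin.to_subtype
    obtain ⟨e⟩ := nonempty_minimalPrimes_equiv_maximalSpectrum A S (CAlg2.normRed A)
      (fun m _ => isDomain_normal_localization (comps A) m) (bijOn_normRed A) (birational_normRed A)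
    exact ENat.card_congr e
  · rw [if_neg hfin]
    have hH := Groth.Agent.Hensel.isHenzLike_of_isHenselization A S
    haveI : Infinite (minimalPrimes A) := Set.infinite_coe_iff.2 hfin
    haveI : Infinite (minimalPrimes S) := Infinite.of_surjective
      (fun q : minimalPrimes S => (⟨q.1.comap (algebraMap A S),
        haveI : q.1.IsPrime := q.2.1.1
        (mem_minimalPrimes_iff_comap hH).1 q.2⟩ : minimalPrimes A)) fun p => by
      obtain ⟨q, hq, hqp⟩ := exists_minimalPrimes_over hH p.2
      exact ⟨⟨q, hq⟩, Subtype.ext hqp⟩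
    exact ENat.card_eq_top_of_infinite

end Groth.Agent.BrnchLib
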