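import Groth.Agent.BrnchLib.Compl
import Groth.Agent.BrnchLib.NormBij
import Groth.Agent.Hensel.TensorHenzFinite
import Mathlib.RingTheory.Ideal.MinimalPrime.Localization

/-! Minimal primes of the completion over those of the henselization. -/

noncomputable section

namespace Groth.Agent.BrnchLib

universe u

open IsLocalRing Groth.Agent.Hensel

set_option linter.style.haveILetI false

variable {S T : Type u} [CommRing S] [CommRing T] (ψ : S →+* T)
  (hψ : letI := ψ.toAlgebra; Module.FaithfullyFlat S T)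

include hψ

theorem comap_mem_minimalPrimes {P : Ideal T} (hP : P ∈ minimalPrimes T) : P.comap ψ ∈ minimalPrimes S := by
  letI := ψ.toAlgebra
  haveI := hψ
  haveI := hP.1.1
  refine ⟨⟨Ideal.IsPrime.comap ψ, bot_le⟩, fun q ⟨hq, _⟩ hle => ?_⟩
  haveI := hq
  haveI : P.LiesOver (P.comap ψ) := ⟨rfl⟩
  obtain ⟨P', hP'le, hP', ho⟩ := Ideal.exists_ideal_le_liesOver_of_le (p := q) (q := P.comap ψ) P hle
  rw [ho.over]
  exact Ideal.comap_mono (hP.2 ⟨hP', bot_le⟩ hP'le)

theorem surjOn_minimalPrimes : Set.SurjOn (Ideal.comap ψ) (minimalPrimes T) (minimalPrimes S) := by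
  letI := ψ.toAlgebra
  haveI := hψ
  intro q hq
  obtain ⟨Q, hQ⟩ := PrimeSpectrum.comap_surjective_of_faithfullyFlat (B := T) (⟨q, hq.1.1⟩ : PrimeSpectrum S)
  have hQ' : Q.asIdeal.comap ψ = q := congr(($hQ).asIdeal)
  obtain ⟨P, hP, hPle⟩ := Ideal.exists_minimalPrimes_le (I := (⊥ : Ideal T)) (J := Q.asIdeal) bot_le
  have hle : P.comap ψ ≤ q := (Ideal.comap_mono hPle).trans hQ'.le
  haveI := hP.1.1
  exact ⟨P, hP, le_antisymm hle (hq.2 ⟨Ideal.IsPrime.comap ψ, bot_le⟩ hle)⟩

/-- The minimal primes over an extended minimal prime are the minimal primes contracting to it. -/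
theorem mem_minimalPrimes_map_iff {q : Ideal S} (hq : q ∈ minimalPrimes S) {P : Ideal T} :
    P ∈ (q.map ψ).minimalPrimes ↔ P ∈ minimalPrimes T ∧ P.comap ψ = q := by
  constructor
  · intro hP
    haveI := hP.1.1
    obtain ⟨P₀, hP₀, hle⟩ := Ideal.exists_minimalPrimes_le (I := (⊥ : Ideal T)) (J := P) bot_le
    haveI := hP₀.1.1
    letI := ψ.toAlgebra
    haveI := hψ
    haveI := hq.1.1
    haveI : P.LiesOver (P.comap ψ) := ⟨rfl⟩
    obtain ⟨P', hP'le, hP', ho⟩ := Ideal.exists_ideal_le_liesOver_of_le (p := q) (q := P.comap ψ) P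
      (Ideal.map_le_iff_le_comap.1 hP.1.2)
    have e : P = P' := le_antisymm (hP.2 ⟨hP', Ideal.map_le_iff_le_comap.2 ho.over.le⟩ hP'le) hP'le
    have hc : P.comap ψ = q := e ▸ ho.over.symm
    have h0 : P₀.comap ψ = q := le_antisymm ((Ideal.comap_mono hle).trans hc.le)
      (hq.2 ⟨Ideal.IsPrime.comap ψ, bot_le⟩ ((Ideal.comap_mono hle).trans hc.le))
    rw [le_antisymm (hP.2 ⟨inferInstance, Ideal.map_le_iff_le_comap.2 h0.ge⟩ hle) hle]
    exact ⟨hP₀, h0⟩
  · rintro ⟨hP, hc⟩
    exact ⟨⟨hP.1.1, Ideal.map_le_iff_le_comap.2 hc.ge⟩, fun Q ⟨hQ, _⟩ hle => hP.2 ⟨hQ, bot_le⟩ hle⟩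

/-- The branches of source and target agree iff the extended minimal primes have prime radical. -/
theorem card_eq_iff_radical_prime [IsNoetherianRing T] :
    ENat.card (minimalPrimes S) = ENat.card (minimalPrimes T) ↔ ∀ q ∈ minimalPrimes S, (q.map ψ).radical.IsPrime := by
  let f : minimalPrimes T → minimalPrimes S := fun P => ⟨P.1.comap ψ, comap_mem_minimalPrimes ψ hψ P.2⟩
  have hf : Function.Surjective f := fun q => by
    obtain ⟨P, hP, h⟩ := surjOn_minimalPrimes ψ hψ q.2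
    exact ⟨⟨P, hP⟩, Subtype.ext h⟩
  haveI : Finite (minimalPrimes T) := (minimalPrimes.finite_of_isNoetherianRing T).to_subtype
  haveI : Finite (minimalPrimes S) := Finite.of_surjective f hf
  constructor
  · intro hcard q hq
    have hinj : Function.Injective f := by
      rw [ENat.card_eq_coe_natCard, ENat.card_eq_coe_natCard, Nat.cast_inj] at hcard
      exact ((Nat.bijective_iff_surjective_and_card f).2 ⟨hf, hcard.symm⟩).1
    obtain ⟨P, hP, hc⟩ := surjOn_minimalPrimes ψ hψ hq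
    have : (q.map ψ).minimalPrimes = {P} := by
      ext Q
      rw [mem_minimalPrimes_map_iff ψ hψ hq, Set.mem_singleton_iff]
      exact ⟨fun h => congrArg Subtype.val (hinj (a₁ := ⟨Q, h.1⟩) (a₂ := ⟨P, hP⟩) (Subtype.ext (h.2.trans hc.symm))),
        fun h => h ▸ ⟨hP, hc⟩⟩
    rw [← Ideal.sInf_minimalPrimes, this, sInf_singleton]
    exact hP.1.1
  · intro h
    refine (ENat.card_congr (Equiv.ofBijective f ⟨fun P P' he => ?_, hf⟩)).symm
    have hp := h _ (f P).2
    have hm : ∀ Q : minimalPrimes T, Q.1.comap ψ = (f P).1 → Q.1 = (Ideal.map ψ (f P).1).radical := fun Q hQ => by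
      have hQm := (mem_minimalPrimes_map_iff ψ hψ (f P).2).2 ⟨Q.2, hQ⟩
      have hle : (Ideal.map ψ (f P).1).radical ≤ Q.1 := (hQm.1.1.radical_le_iff).2 hQm.1.2
      exact le_antisymm (hQm.2 ⟨hp, Ideal.le_radical⟩ hle) hle
    exact Subtype.ext ((hm P rfl).trans (hm P' (congrArg Subtype.val he).symm).symm)

end Groth.Agent.BrnchLib
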