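import Groth.Agent.BrnchLib.Count
import Mathlib.FieldTheory.PurelyInseparable.Basic

/-! One branch means unibranch. -/

namespace Groth.Agent.BrnchLib

universe u

variable (A : Type u) [CommRing A]

theorem finite_of_isDomain_red (h : IsDomain (CAlg2.red A)) : (minimalPrimes A).Finite := by
  have hp : (nilradical A).IsPrime := (Ideal.Quotient.isDomain_iff_prime _).1 h
  exact (Set.finite_singleton (nilradical A)).subset fun q hq =>
    le_antisymm (hq.2 ⟨hp, bot_le⟩ (nilradical_le_prime q (H := hq.1.1))) (nilradical_le_prime q (H := hq.1.1))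

variable [IsLocalRing A]

theorem isUnibranch_iff :
    Brnch.numBranches A = 1 ↔ CAlg2.IsUnibranch A := by
  constructor
  · intro h1
    have hfin : (minimalPrimes A).Finite := by
      by_contra hinf
      rw [Brnch.numBranches, if_neg hinf] at h1
      exact ENat.top_ne_one h1
    rw [Brnch.numBranches, if_pos hfin, ENat.card_eq_one_iff_unique] at h1
    obtain ⟨hu⟩ := h1
    haveI := hfin.to_subtype
    have hsub : ∀ p q : minimalPrimes A, p = q := fun p q => by
      haveI : p.1.IsPrime := p.2.1.1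
      haveI : q.1.IsPrime := q.2.1.1
      obtain ⟨mp⟩ : Nonempty (MaximalSpectrum (CAlg2.normRed (A ⧸ p.1))) := inferInstance
      obtain ⟨mq⟩ : Nonempty (MaximalSpectrum (CAlg2.normRed (A ⧸ q.1))) := inferInstance
      have : (⟨p, mp⟩ : Σ p : minimalPrimes A, MaximalSpectrum (CAlg2.normRed (A ⧸ p.1))) = ⟨q, mq⟩ :=
        (comps A).maxEquiv.injective (Subsingleton.elim _ _)
      exact congrArg Sigma.fst this
    obtain ⟨p, hp, -⟩ := Ideal.exists_minimalPrimes_le
      (bot_le : (⊥ : Ideal A) ≤ IsLocalRing.maximalIdeal A)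
    have hnil : nilradical A = p := by
      refine le_antisymm (nilradical_le_prime p (H := hp.1.1)) ?_
      rw [nilradical, Submodule.zero_eq_bot, ← Ideal.sInf_minimalPrimes]
      exact le_sInf fun q hq => le_of_eq (congrArg Subtype.val (hsub ⟨p, hp⟩ ⟨q, hq⟩))
    refine ⟨(Ideal.Quotient.isDomain_iff_prime _).2 (hnil ▸ hp.1.1), ?_⟩
    haveI : Nontrivial (CAlg2.normRed A) := by
      obtain ⟨m⟩ : Nonempty (MaximalSpectrum (CAlg2.normRed A)) := ⟨hu.default⟩
      exact ⟨1, 0, fun h => m.isMaximal.ne_top ((Ideal.eq_top_iff_one _).2 (h ▸ m.asIdeal.zero_mem))⟩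
    exact IsLocalRing.of_unique_max_ideal ⟨hu.default.asIdeal, hu.default.isMaximal, fun I hI =>
      congrArg MaximalSpectrum.asIdeal (hu.uniq ⟨I, hI⟩)⟩
  · rintro ⟨hdom, hloc⟩
    rw [Brnch.numBranches, if_pos (finite_of_isDomain_red A hdom), ENat.card_eq_one_iff_unique]
    exact ⟨⟨⟨⟨_, IsLocalRing.maximalIdeal.isMaximal _⟩⟩,
      fun m => MaximalSpectrum.ext (IsLocalRing.eq_maximalIdeal m.isMaximal)⟩⟩

theorem toResidue_isIntegral (m : MaximalSpectrum (CAlg2.normRed A)) :
    (Brnch.toResidue A m).IsIntegral :=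
  ((RingHom.isIntegral_of_surjective _ Ideal.Quotient.mk_surjective).trans _ _
    (Algebra.IsIntegral.isIntegral (R := CAlg2.red A))).trans _ _
    (RingHom.isIntegral_of_surjective _ Ideal.Quotient.mk_surjective)

/-- One embedding means purely inseparable. -/
theorem subsingleton_emb_iff (m : MaximalSpectrum (CAlg2.normRed A)) :
    Nonempty (Brnch.Emb A m) ∧ (Subsingleton (Brnch.Emb A m) ↔
      ∀ x : CAlg2.normRed A ⧸ m.asIdeal,
        ∃ n : ℕ, x ^ (ringExpChar (CAlg2.normRed A ⧸ m.asIdeal)) ^ n ∈ (Brnch.toResidue A m).range) := by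
  haveI := m.isMaximal
  letI : Field (CAlg2.normRed A ⧸ m.asIdeal) := Ideal.Quotient.field _
  let E := CAlg2.normRed A ⧸ m.asIdeal
  let F := IsLocalRing.ResidueField A
  have hint := toResidue_isIntegral A m
  have hker : RingHom.ker (Brnch.toResidue A m) = IsLocalRing.maximalIdeal A := by
    refine IsLocalRing.eq_maximalIdeal ?_
    letI := (Brnch.toResidue A m).toAlgebra
    haveI : Algebra.IsIntegral A E := ⟨hint⟩
    haveI : (⊥ : Ideal E).IsMaximal := Ideal.bot_isMaximal
    have := Ideal.isMaximal_comap_of_isIntegral_of_isMaximal (R := A) (S := E) (⊥ : Ideal E)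
    rwa [← RingHom.ker_eq_comap_bot] at this
  let φ : F →+* E := Ideal.Quotient.lift _ (Brnch.toResidue A m) fun a ha => by
    rwa [← hker, RingHom.mem_ker] at ha
  letI : Algebra F E := φ.toAlgebra
  haveI : Algebra.IsIntegral F E := ⟨fun x => by
    obtain ⟨P, hP, hP0⟩ := hint x
    refine ⟨P.map (IsLocalRing.residue A), hP.map _, ?_⟩
    rw [Polynomial.eval₂_map]
    exact hP0⟩
  haveI : Algebra.IsAlgebraic F E := Algebra.IsIntegral.isAlgebraic
  let e : Brnch.Emb A m ≃ (E →ₐ[F] AlgebraicClosure F) :=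
    { toFun := fun σ => AlgHom.mk σ.1 fun c => by
        obtain ⟨a, rfl⟩ := IsLocalRing.residue_surjective c
        exact RingHom.congr_fun σ.2 a
      invFun := fun τ => ⟨τ.toRingHom, RingHom.ext fun a => τ.commutes (IsLocalRing.residue A a)⟩
      left_inv := fun σ => rfl
      right_inv := fun τ => rfl }
  let e' : Brnch.Emb A m ≃ Field.Emb F E := e.trans (Field.embEquivOfIsAlgClosed F E _).symm
  refine ⟨e.nonempty_congr.2 ⟨IsAlgClosed.lift⟩, ?_⟩
  rw [e'.subsingleton_congr, ← isPurelyInseparable_iff_subsingleton_emb]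
  haveI : ExpChar F (ringExpChar E) := by
    haveI : ExpChar F (ringExpChar F) := ringExpChar.expChar F
    haveI : ExpChar E (ringExpChar F) := expChar_of_injective_ringHom φ.injective _
    rw [ringExpChar.eq E (ringExpChar F)]
    infer_instance
  rw [isPurelyInseparable_iff_pow_mem F (ringExpChar E)]
  have hrange : (algebraMap F E).range = (Brnch.toResidue A m).range := by
    ext x
    constructor
    · rintro ⟨c, rfl⟩
      obtain ⟨a, rfl⟩ := IsLocalRing.residue_surjective c
      exact ⟨a, rfl⟩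
    · rintro ⟨a, rfl⟩
      exact ⟨IsLocalRing.residue A a, rfl⟩
  exact forall_congr' fun x => exists_congr fun n => by rw [hrange]

theorem isGeomUnibranch_iff :
    Brnch.numGeomBranches A = 1 ↔ CAlg2.IsGeomUnibranch A := by
  constructor
  · intro h1
    have hfin : (minimalPrimes A).Finite := by
      by_contra hinf
      rw [Brnch.numGeomBranches, if_neg hinf] at h1
      exact ENat.top_ne_one h1
    rw [Brnch.numGeomBranches, if_pos hfin, ENat.card_eq_one_iff_unique] at h1
    obtain ⟨hu⟩ := h1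
    have huni : Brnch.numBranches A = 1 := by
      rw [Brnch.numBranches, if_pos hfin, ENat.card_eq_one_iff_unique]
      refine ⟨⟨⟨hu.default.1⟩, fun m => ?_⟩⟩
      exact congrArg Sigma.fst (hu.uniq ⟨m, (subsingleton_emb_iff A m).1.some⟩)
    refine ⟨(isUnibranch_iff A).1 huni, fun m hm => ?_⟩
    refine (subsingleton_emb_iff A ⟨m, hm⟩).2.1 ⟨fun σ τ => ?_⟩
    exact eq_of_heq (Sigma.mk.inj ((hu.uniq ⟨⟨m, hm⟩, σ⟩).trans (hu.uniq ⟨⟨m, hm⟩, τ⟩).symm)).2
  · rintro ⟨huni, hpi⟩
    have h1 := (isUnibranch_iff A).2 huni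
    have hfin := finite_of_isDomain_red A huni.1
    rw [Brnch.numBranches, if_pos hfin, ENat.card_eq_one_iff_unique] at h1
    obtain ⟨hu⟩ := h1
    rw [Brnch.numGeomBranches, if_pos hfin, ENat.card_eq_one_iff_unique]
    haveI := hu.default.isMaximal
    haveI : Subsingleton (Brnch.Emb A hu.default) :=
      (subsingleton_emb_iff A hu.default).2.2 (hpi hu.default.asIdeal)
    obtain ⟨σ⟩ := (subsingleton_emb_iff A hu.default).1
    refine ⟨⟨⟨⟨hu.default, σ⟩⟩, fun x => ?_⟩⟩
    obtain ⟨m, τ⟩ := x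
    obtain rfl := hu.uniq m
    exact congrArg (Sigma.mk _) (Subsingleton.elim τ σ)

end Groth.Agent.BrnchLib
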