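import Groth.Agent.BrnchLib.HenzMinGen
import Groth.Agent.BrnchLib.NormBij
import Mathlib.FieldTheory.PurelyInseparable.Basic
import Mathlib.FieldTheory.IsAlgClosed.Basic

/-! Minimal primes of a strict henselization and geometric branches. -/

noncomputable section

namespace Groth.Agent.BrnchLib

universe u

open IsLocalRing TensorProduct Groth.Agent.Hensel

set_option linter.style.haveILetI false

section

variable (A : Type u) [CommRing A] [IsLocalRing A] (S : Type u) [CommRing S] [IsLocalRing S] [Algebra A S]
  [IsLocalHom (algebraMap A S)]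
  (B : Type u) [CommRing B] [Algebra A B] [Algebra.IsIntegral A B]

local notation "C" => S ⊗[A] B

/-- The maximal ideals of the base change to a ring with separably closed residue field are the points in an
algebraically closed field. -/
theorem nonempty_maximalSpectrum_tensor_equiv [IsSepClosed (ResidueField S)] (K : Type u) [Field K] [IsAlgClosed K]
    (j : ResidueField S →+* K) (jA : A →+* K) (hj : (j.comp (residue S)).comp (algebraMap A S) = jA) :
    Nonempty (MaximalSpectrum (S ⊗[A] B) ≃
      Σ m : MaximalSpectrum B, {σ : B ⧸ m.asIdeal →+* K // σ.comp ((Ideal.Quotient.mk m.asIdeal).comp (algebraMap A B)) = jA}) := by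
  classical
  letI : Algebra A K := jA.toAlgebra
  let fS : S →ₐ[A] K := { j.comp (residue S) with commutes' := fun a => RingHom.congr_fun hj a }
  let fB : ∀ (p : Σ m : MaximalSpectrum B, {σ : B ⧸ m.asIdeal →+* K // σ.comp ((Ideal.Quotient.mk m.asIdeal).comp (algebraMap A B)) = jA}), B →ₐ[A] K :=
    fun p => { p.2.1.comp (Ideal.Quotient.mk _) with commutes' := fun a => RingHom.congr_fun p.2.2 a }
  let ψ := fun p => Algebra.TensorProduct.lift fS (fB p) fun _ _ => Commute.all _ _
  haveI hkerS : ∀ f : S ⊗[A] B →ₐ[A] K, (∀ s, f (s ⊗ₜ 1) = fS s) → (RingHom.ker f).IsMaximal := fun f hf => by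
    haveI : (RingHom.ker f).IsPrime := RingHom.ker_isPrime f
    refine Ideal.isMaximal_of_isIntegral_of_isMaximal_comap (R := S) _ ?_
    have : (RingHom.ker f).comap (algebraMap S (S ⊗[A] B)) = maximalIdeal S := by
      ext s
      rw [Ideal.mem_comap, RingHom.mem_ker, Algebra.TensorProduct.algebraMap_apply, Algebra.algebraMap_self,
        RingHom.id_apply, hf]
      change j (residue S s) = 0 ↔ _
      rw [map_eq_zero, residue_eq_zero_iff]
    rw [this]
    infer_instance
  let F : (Σ m : MaximalSpectrum B, {σ : B ⧸ m.asIdeal →+* K // σ.comp ((Ideal.Quotient.mk m.asIdeal).comp (algebraMap A B)) = jA}) →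
      MaximalSpectrum (S ⊗[A] B) := fun p => ⟨RingHom.ker (ψ p), hkerS _ fun s => by simp [ψ]⟩
  refine ⟨(Equiv.ofBijective F ⟨fun p q h => ?_, fun n => ?_⟩).symm⟩
  · obtain ⟨m, σ⟩ := p
    obtain ⟨m', σ'⟩ := q
    have hk : RingHom.ker (ψ ⟨m, σ⟩) = RingHom.ker (ψ ⟨m', σ'⟩) := congrArg MaximalSpectrum.asIdeal h
    have hm : m = m' := by
      refine MaximalSpectrum.ext (Ideal.ext fun b => ?_)
      have h1 := SetLike.ext_iff.1 hk (1 ⊗ₜ[A] b)
      letI := Ideal.Quotient.field m.asIdeal
      letI := Ideal.Quotient.field m'.asIdeal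
      simpa [ψ, fB, map_eq_zero, Ideal.Quotient.eq_zero_iff_mem] using h1
    subst hm
    let n := RingHom.ker (ψ ⟨m, σ⟩)
    haveI : n.IsMaximal := hkerS _ fun s => by simp [ψ]
    letI := Ideal.Quotient.field n
    let g₁ : S ⊗[A] B ⧸ n →+* K := Ideal.Quotient.lift n (ψ ⟨m, σ⟩).toRingHom fun a ha => ha
    let g₂ : S ⊗[A] B ⧸ n →+* K := Ideal.Quotient.lift n (ψ ⟨m, σ'⟩).toRingHom fun a ha => hk.le ha
    have hn : n.comap (algebraMap S (S ⊗[A] B)) = maximalIdeal S :=
      IsLocalRing.eq_maximalIdeal (Ideal.isMaximal_comap_of_isIntegral_of_isMaximal n)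
    letI : Algebra (ResidueField S) (S ⊗[A] B ⧸ n) :=
      (Ideal.Quotient.lift (maximalIdeal S) ((Ideal.Quotient.mk n).comp (algebraMap S (S ⊗[A] B))) fun s hs =>
        Ideal.Quotient.eq_zero_iff_mem.2 (hn.ge hs)).toAlgebra
    haveI : IsScalarTower S (ResidueField S) (S ⊗[A] B ⧸ n) := .of_algebraMap_eq fun _ => rfl
    haveI : Algebra.IsIntegral (ResidueField S) (S ⊗[A] B ⧸ n) := Algebra.IsIntegral.tower_top (R := S)
    haveI : Algebra.IsAlgebraic (ResidueField S) (S ⊗[A] B ⧸ n) := inferInstance
    haveI : IsPurelyInseparable (ResidueField S) (S ⊗[A] B ⧸ n) := Algebra.IsAlgebraic.isPurelyInseparable_of_isSepClosed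
    letI : Algebra (ResidueField S) K := j.toAlgebra
    have hc : ∀ (g : S ⊗[A] B ⧸ n →+* K), (∀ s, g (Ideal.Quotient.mk n (s ⊗ₜ 1)) = fS s) →
        ∀ x, g (algebraMap (ResidueField S) (S ⊗[A] B ⧸ n) x) = algebraMap (ResidueField S) K x := fun g hg x => by
      obtain ⟨s, rfl⟩ := residue_surjective x
      exact hg s
    let a₁ : S ⊗[A] B ⧸ n →ₐ[ResidueField S] K := { g₁ with commutes' := hc g₁ fun s => by simp [g₁, ψ] }
    let a₂ : S ⊗[A] B ⧸ n →ₐ[ResidueField S] K := { g₂ with commutes' := hc g₂ fun s => by simp [g₂, ψ] }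
    have he : a₁ = a₂ := Subsingleton.elim _ _
    refine congrArg (Sigma.mk m) (Subtype.ext (Ideal.Quotient.ringHom_ext (RingHom.ext fun b => ?_)))
    have := AlgHom.congr_fun he (Ideal.Quotient.mk n (1 ⊗ₜ b))
    simpa [a₁, a₂, g₁, g₂, ψ, fB] using this
  · haveI := n.isMaximal
    letI := Ideal.Quotient.field n.asIdeal
    have hn : n.asIdeal.comap (algebraMap S (S ⊗[A] B)) = maximalIdeal S :=
      IsLocalRing.eq_maximalIdeal (Ideal.isMaximal_comap_of_isIntegral_of_isMaximal n.asIdeal)
    letI : Algebra (ResidueField S) (S ⊗[A] B ⧸ n.asIdeal) :=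
      (Ideal.Quotient.lift (maximalIdeal S) ((Ideal.Quotient.mk n.asIdeal).comp (algebraMap S (S ⊗[A] B))) fun s hs =>
        Ideal.Quotient.eq_zero_iff_mem.2 (hn.ge hs)).toAlgebra
    haveI : IsScalarTower S (ResidueField S) (S ⊗[A] B ⧸ n.asIdeal) := .of_algebraMap_eq fun _ => rfl
    haveI : Algebra.IsIntegral (ResidueField S) (S ⊗[A] B ⧸ n.asIdeal) := Algebra.IsIntegral.tower_top (R := S)
    haveI : Algebra.IsAlgebraic (ResidueField S) (S ⊗[A] B ⧸ n.asIdeal) := inferInstance
    letI : Algebra (ResidueField S) K := j.toAlgebra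
    let g : S ⊗[A] B ⧸ n.asIdeal →ₐ[ResidueField S] K := IsAlgClosed.lift
    have hgS : ∀ s, g (Ideal.Quotient.mk n.asIdeal (s ⊗ₜ 1)) = fS s := fun s => g.commutes (residue S s)
    let iR : B →+* S ⊗[A] B := (Algebra.TensorProduct.includeRight : B →ₐ[A] S ⊗[A] B).toRingHom
    have hm : (n.asIdeal.comap iR).IsMaximal := by
      refine Ideal.isMaximal_of_isIntegral_of_isMaximal_comap (R := A) _ ?_
      rw [Ideal.comap_comap, show iR.comp (algebraMap A B) = (algebraMap S (S ⊗[A] B)).comp (algebraMap A S) from
        RingHom.ext fun a => by simp only [iR, AlgHom.toRingHom_eq_coe, RingHom.comp_apply, RingHom.coe_coe, AlgHom.commutes, ← IsScalarTower.algebraMap_apply],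
        ← Ideal.comap_comap, hn, IsLocalRing.maximalIdeal_comap]
      infer_instance
    let σ : B ⧸ n.asIdeal.comap iR →+* K := g.toRingHom.comp (Ideal.quotientMap n.asIdeal iR le_rfl)
    have hσ : σ.comp ((Ideal.Quotient.mk (n.asIdeal.comap iR)).comp (algebraMap A B)) = jA := RingHom.ext fun a => by
      change g (Ideal.Quotient.mk n.asIdeal (iR (algebraMap A B a))) = _
      rw [show iR (algebraMap A B a) = (algebraMap A S a) ⊗ₜ[A] (1 : B) by
        simp [iR, Algebra.algebraMap_eq_smul_one, TensorProduct.smul_tmul'], hgS]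
      exact fS.commutes a
    refine ⟨⟨⟨_, hm⟩, σ, hσ⟩, MaximalSpectrum.ext ?_⟩
    let G : S ⊗[A] B →ₐ[A] K :=
      { toRingHom := g.toRingHom.comp (Ideal.Quotient.mk n.asIdeal)
        commutes' := fun a => by
          change g (Ideal.Quotient.mk n.asIdeal (algebraMap A (S ⊗[A] B) a)) = _
          rw [Algebra.TensorProduct.algebraMap_apply, hgS]
          exact fS.commutes a }
    have hψ : ψ ⟨⟨_, hm⟩, σ, hσ⟩ = G := Algebra.TensorProduct.ext (AlgHom.ext fun s => by
          simpa [ψ, G] using (hgS s).symm) (AlgHom.ext fun b => by simp [ψ, fB, σ, iR, G]; rfl)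
    change RingHom.ker (ψ ⟨⟨_, hm⟩, σ, hσ⟩) = n.asIdeal
    rw [hψ]
    ext x
    exact (map_eq_zero g).trans Ideal.Quotient.eq_zero_iff_mem

/-- The local rings of the base change to a strict henselization of a normal ring are domains. -/
theorem isDomain_localization_tensor_strict [_root_.Hensel.IsStrictHenselization A S]
    (hN : ∀ m : Ideal B, ∀ [m.IsMaximal], IsDomain (Localization.AtPrime m) ∧ IsIntegrallyClosed (Localization.AtPrime m))
    (n : Ideal (S ⊗[A] B)) [hn : n.IsMaximal] : IsDomain (Localization.AtPrime n) := by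
  classical
  let iR : B →+* S ⊗[A] B := (Algebra.TensorProduct.includeRight : B →ₐ[A] S ⊗[A] B).toRingHom
  let q : Ideal B := n.comap iR
  have hnS : n.comap (algebraMap S (S ⊗[A] B)) = maximalIdeal S :=
    IsLocalRing.eq_maximalIdeal (Ideal.isMaximal_comap_of_isIntegral_of_isMaximal n)
  have hcomm : iR.comp (algebraMap A B) = (algebraMap S (S ⊗[A] B)).comp (algebraMap A S) := RingHom.ext fun a => by
    simp only [iR, AlgHom.toRingHom_eq_coe, RingHom.comp_apply, RingHom.coe_coe, AlgHom.commutes, ← IsScalarTower.algebraMap_apply]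
  have hqA : q.comap (algebraMap A B) = maximalIdeal A := by
    rw [Ideal.comap_comap, hcomm, ← Ideal.comap_comap, hnS, IsLocalRing.maximalIdeal_comap]
  haveI : q.IsMaximal := Ideal.isMaximal_of_isIntegral_of_isMaximal_comap (R := A) q (hqA ▸ inferInstance)
  haveI : q.LiesOver (maximalIdeal A) := ⟨hqA.symm⟩
  let p := maximalIdeal A
  have hu : ∀ y : p.primeCompl, IsUnit (algebraMap A S y) := fun y => (IsLocalRing.notMem_maximalIdeal.1 y.2).map _
  letI : Algebra (Localization.AtPrime p) S := (IsLocalization.lift hu).toAlgebra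
  haveI : IsScalarTower A (Localization.AtPrime p) S := .of_algebraMap_eq fun a => (IsLocalization.lift_eq hu a).symm
  haveI : IsLocalHom (algebraMap (Localization.AtPrime p) S) := ⟨fun x hx => by
    obtain ⟨a, s, rfl⟩ := IsLocalization.exists_mk'_eq p.primeCompl x
    rw [IsLocalization.AtPrime.isUnit_mk'_iff]
    intro ha
    have h1 : algebraMap A S a = algebraMap A S s * algebraMap (Localization.AtPrime p) S (IsLocalization.mk' _ a s) := by
      rw [IsScalarTower.algebraMap_apply A (Localization.AtPrime p) S, IsScalarTower.algebraMap_apply A (Localization.AtPrime p) S,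
        ← map_mul, IsLocalization.mk'_spec']
    have : IsUnit (algebraMap A S a) := h1 ▸ (hu s).mul hx
    exact ha (isUnit_of_map_unit _ _ this)⟩
  haveI : _root_.Hensel.IsStrictHenselization (Localization.AtPrime p) S := by
    have hS := (inferInstance : _root_.Hensel.IsStrictHenselization A S)
    have hsep := hS.isSepClosure
    haveI := hsep.sep_closed
    haveI : Algebra.IsSeparable (ResidueField A) (ResidueField S) := hsep.separable
    refine ⟨hS.henselian, ⟨inferInstance, ?_⟩, fun T _ _ f _ τ hτ => ?_⟩
    · have hl : IsLocalHom (algebraMap A (Localization.AtPrime p)) := ⟨fun a ha =>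
        IsLocalRing.notMem_maximalIdeal.1 ((IsLocalization.AtPrime.isUnit_to_map_iff (Localization.AtPrime p) p a).1 ha)⟩
      letI : Algebra (ResidueField A) (ResidueField (Localization.AtPrime p)) :=
        (ResidueField.map (algebraMap A (Localization.AtPrime p))).toAlgebra
      haveI : IsScalarTower (ResidueField A) (ResidueField (Localization.AtPrime p)) (ResidueField S) :=
        .of_algebraMap_eq fun x => by
          obtain ⟨a, rfl⟩ := residue_surjective x
          exact congrArg (residue S) (IsScalarTower.algebraMap_apply A (Localization.AtPrime p) S a)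
      exact Algebra.isSeparable_tower_top_of_isSeparable (ResidueField A) _ _
    · have hl : IsLocalHom (algebraMap A (Localization.AtPrime p)) := ⟨fun a ha =>
        IsLocalRing.notMem_maximalIdeal.1 ((IsLocalization.AtPrime.isUnit_to_map_iff (Localization.AtPrime p) p a).1 ha)⟩
      haveI : IsLocalHom (f.comp (algebraMap A (Localization.AtPrime p))) := RingHom.isLocalHom_comp _ _
      obtain ⟨g, ⟨hg, hgr⟩, huniq⟩ := hS.universal T (f.comp (algebraMap A (Localization.AtPrime p))) τ (by
        refine RingHom.ext fun x => ?_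
        obtain ⟨a, rfl⟩ := residue_surjective x
        have := RingHom.congr_fun hτ (residue _ (algebraMap A (Localization.AtPrime p) a))
        rw [RingHom.comp_apply, ResidueField.map_residue, ResidueField.map_residue,
          ← IsScalarTower.algebraMap_apply] at this
        exact this)
      refine ⟨g, ⟨IsLocalization.ringHom_ext p.primeCompl (by rw [RingHom.comp_assoc, ← IsScalarTower.algebraMap_eq, hg]), hgr⟩,
        fun g' hg' => huniq g' ⟨by rw [← hg'.1, RingHom.comp_assoc, ← IsScalarTower.algebraMap_eq], hg'.2⟩⟩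
  let Sh := StrictHenz (Localization.AtPrime q)
  haveI hSh : _root_.Hensel.IsStrictHenselization (Localization.AtPrime q) Sh := isStrictHenselization_strictHenz _
  haveI : HenselianLocalRing Sh := hSh.henselian
  letI : Algebra B Sh := ((algebraMap (Localization.AtPrime q) Sh).comp (algebraMap B _)).toAlgebra
  haveI : IsScalarTower B (Localization.AtPrime q) Sh := .of_algebraMap_eq fun _ => rfl
  letI : Algebra A Sh := ((algebraMap B Sh).comp (algebraMap A B)).toAlgebra
  haveI : IsScalarTower A B Sh := .of_algebraMap_eq fun _ => rfl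
  have hBq : (maximalIdeal Sh).comap (algebraMap B Sh) = q := comap_algebraMap_atPrime B q Sh
  -- the residue field of `n` inside that of `Sh`
  letI := Ideal.Quotient.field n
  letI : Algebra (B ⧸ q) (S ⊗[A] B ⧸ n) := (Ideal.quotientMap n iR le_rfl).toAlgebra
  letI := Ideal.Quotient.field q
  letI : Algebra (B ⧸ q) (ResidueField Sh) :=
    (Ideal.Quotient.lift q ((residue Sh).comp (algebraMap B Sh)) fun b hb =>
      (residue_eq_zero_iff _).2 (hBq.ge hb)).toAlgebra
  haveI : IsSepClosed (ResidueField Sh) := hSh.isSepClosure.sep_closed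
  let iS : ResidueField S →+* S ⊗[A] B ⧸ n :=
    Ideal.Quotient.lift (maximalIdeal S) ((Ideal.Quotient.mk n).comp (algebraMap S (S ⊗[A] B))) fun s hs =>
      Ideal.Quotient.eq_zero_iff_mem.2 (hnS.ge hs)
  haveI : Algebra.IsSeparable (B ⧸ q) (S ⊗[A] B ⧸ n) := by
    have hS := (inferInstance : _root_.Hensel.IsStrictHenselization A S)
    haveI : Algebra.IsSeparable (ResidueField A) (ResidueField S) := hS.isSepClosure.separable
    letI : Algebra (ResidueField A) (B ⧸ q) := (Ideal.quotientMap q (algebraMap A B) hqA.ge).toAlgebra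
    letI : Algebra (ResidueField A) (S ⊗[A] B ⧸ n) := ((algebraMap (B ⧸ q) _).comp (algebraMap (ResidueField A) (B ⧸ q))).toAlgebra
    haveI : IsScalarTower (ResidueField A) (B ⧸ q) (S ⊗[A] B ⧸ n) := .of_algebraMap_eq fun _ => rfl
    let iS' : ResidueField S →ₐ[ResidueField A] S ⊗[A] B ⧸ n :=
      { toRingHom := iS
        commutes' := fun x => by
          obtain ⟨a, rfl⟩ := residue_surjective x
          exact congrArg (Ideal.Quotient.mk n) (RingHom.congr_fun hcomm a).symm }
    have hsepS : ∀ s, IsSeparable (B ⧸ q) (iS (residue S s)) := fun s =>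
      (IsSeparable.map iS' iS'.toRingHom.injective (Algebra.IsSeparable.isSeparable (ResidueField A) (residue S s))).tower_top (B ⧸ q)
    refine ⟨fun z => ?_⟩
    obtain ⟨x, rfl⟩ := Ideal.Quotient.mk_surjective z
    induction x using TensorProduct.induction_on with
    | zero => rw [map_zero, ← map_zero (algebraMap (B ⧸ q) (S ⊗[A] B ⧸ n))]; exact isSeparable_algebraMap _
    | tmul s b =>
      rw [show Ideal.Quotient.mk n (s ⊗ₜ[A] b) = iS (residue S s) * algebraMap (B ⧸ q) _ (Ideal.Quotient.mk q b) by
        change _ = Ideal.Quotient.mk n (algebraMap S _ s) * Ideal.Quotient.mk n (iR b)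
        rw [← map_mul]; congr 1; simp [iR]]
      exact Field.isSeparable_mul (hsepS s) (isSeparable_algebraMap _)
    | add x y hx hy => rw [map_add]; exact Field.isSeparable_add hx hy
  let θ : S ⊗[A] B ⧸ n →ₐ[B ⧸ q] ResidueField Sh := IsSepClosed.lift
  have hθB : ∀ b, θ (Ideal.Quotient.mk n (iR b)) = residue Sh (algebraMap B Sh b) := fun b => θ.commutes (Ideal.Quotient.mk q b)
  have hAS : (maximalIdeal Sh).comap (algebraMap A Sh) = p := by
    rw [IsScalarTower.algebraMap_eq A B Sh, ← Ideal.comap_comap, hBq]
    exact hqA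
  let τ : ResidueField S →+* ResidueField Sh := θ.toRingHom.comp iS
  obtain ⟨g, hg, hgl, hgres⟩ := strict_lift (p := p) (Rh := S) (algebraMap A Sh) hAS τ fun a => by
    change θ (Ideal.Quotient.mk n (algebraMap S (S ⊗[A] B) (algebraMap A S a))) = _
    rw [show algebraMap S (S ⊗[A] B) (algebraMap A S a) = iR (algebraMap A B a) from (RingHom.congr_fun hcomm a).symm,
      hθB, ← IsScalarTower.algebraMap_apply]
  letI : Algebra S Sh := g.toAlgebra
  haveI : IsScalarTower A S Sh := .of_algebraMap_eq fun a => (RingHom.congr_fun hg a).symm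
  have hres : ∀ x, residue Sh (tensorPt A B S Sh x) = θ (Ideal.Quotient.mk n x) := fun x => by
    induction x using TensorProduct.induction_on with
    | zero => rw [map_zero (tensorPt A B S Sh), map_zero (residue Sh), map_zero (Ideal.Quotient.mk n), map_zero θ]
    | tmul s b =>
      rw [Algebra.TensorProduct.lift_tmul, map_mul,
        show s ⊗ₜ[A] b = algebraMap S (S ⊗[A] B) s * iR b by simp [iR], map_mul, map_mul, hθB]
      exact congrArg (· * _) (hgres s)
    | add x y hx hy => rw [map_add (tensorPt A B S Sh), map_add (residue Sh), map_add (Ideal.Quotient.mk n), map_add θ, hx, hy]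
  have htp : tensorPrime A B S Sh = n := by
    ext x
    change tensorPt A B S Sh x ∈ maximalIdeal Sh ↔ _
    rw [← residue_eq_zero_iff, hres, map_eq_zero, Ideal.Quotient.eq_zero_iff_mem]
  let E := StrictHenz (Localization.AtPrime (tensorPrime A B S Sh))
  haveI : _root_.Hensel.IsStrictHenselization (Localization.AtPrime (tensorPrime A B S Sh)) E := isStrictHenselization_strictHenz _
  obtain ⟨e, -⟩ := strict_tensor A B p q S Sh E
  obtain ⟨_, _⟩ := hN q
  have hdom : IsDomain Sh :=
    ((isHenzLike_of_isStrictHenselization (Localization.AtPrime q) Sh).normal_iff.1 ⟨inferInstance, inferInstance⟩).1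
  have : IsDomain E := e.toMulEquiv.isDomain _
  have := (isHenzLike_of_isStrictHenselization (Localization.AtPrime (tensorPrime A B S Sh)) E).faithfullyFlat
  have := (FaithfulSMul.algebraMap_injective (Localization.AtPrime (tensorPrime A B S Sh)) E).isDomain _
  exact (show ∀ (I : Ideal (S ⊗[A] B)) [I.IsPrime], I = n → IsDomain (Localization.AtPrime I) →
    IsDomain (Localization.AtPrime n) from fun I _ h => by subst h; exact id) _ htp this

end

/-- Minimal primes of a strict henselization are counted by the geometric branches. -/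
theorem card_minimalPrimes_strictHenselization (A : Type u) [CommRing A] [IsLocalRing A] (S : Type u) [CommRing S]
    [IsLocalRing S] [Algebra A S] [IsLocalHom (algebraMap A S)] [hS : _root_.Hensel.IsStrictHenselization A S] :
    ENat.card (minimalPrimes S) = Brnch.numGeomBranches A := by
  have hH := Groth.Agent.Hensel.isHenzLike_of_isStrictHenselization A S
  unfold Brnch.numGeomBranches
  by_cases hfin : (minimalPrimes A).Finite
  · rw [if_pos hfin]
    haveI : Finite (minimalPrimes A) := hfin.to_subtype
    haveI : HenselianLocalRing S := hS.henselian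
    haveI : IsSepClosed (ResidueField S) := hS.isSepClosure.sep_closed
    haveI : Algebra.IsSeparable (ResidueField A) (ResidueField S) := hS.isSepClosure.separable
    let j : ResidueField S →ₐ[ResidueField A] AlgebraicClosure (ResidueField A) := IsAlgClosed.lift
    have hj : (j.toRingHom.comp (residue S)).comp (algebraMap A S) = Brnch.toClosure A :=
      RingHom.ext fun a => j.commutes (residue A a)
    obtain ⟨e⟩ := nonempty_minimalPrimes_equiv_tensor A S hH (CAlg2.normRed A)
      (fun n _ => isDomain_localization_tensor_strict A S (CAlg2.normRed A)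
        (fun m _ => isDomain_normal_localization (comps A) m) n)
      (bijOn_normRed A) (birational_normRed A)
    obtain ⟨e'⟩ := nonempty_maximalSpectrum_tensor_equiv A S (CAlg2.normRed A) (AlgebraicClosure (ResidueField A))
      j.toRingHom (Brnch.toClosure A) hj
    refine ENat.card_congr ((e.trans e').trans (Equiv.sigmaCongrRight fun m => Equiv.subtypeEquivRight fun σ => ?_))
    rw [show Brnch.toResidue A m = (Ideal.Quotient.mk m.asIdeal).comp (algebraMap A (CAlg2.normRed A)) from
      congrArg (RingHom.comp _) (IsScalarTower.algebraMap_eq A (CAlg2.red A) (CAlg2.normRed A)).symm]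
  · rw [if_neg hfin]
    haveI : Infinite (minimalPrimes A) := Set.infinite_coe_iff.2 hfin
    haveI : Infinite (minimalPrimes S) := Infinite.of_surjective
      (fun q : minimalPrimes S => (⟨q.1.comap (algebraMap A S),
        haveI : q.1.IsPrime := q.2.1.1
        (mem_minimalPrimes_iff_comap hH).1 q.2⟩ : minimalPrimes A)) fun p => by
      obtain ⟨q, hq, hqp⟩ := exists_minimalPrimes_over hH p.2
      exact ⟨⟨q, hq⟩, Subtype.ext hqp⟩
    exact ENat.card_eq_top_of_infinite

end Groth.Agent.BrnchLib
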