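import Mathlib.RingTheory.Flat.Basic
import Mathlib.RingTheory.TensorProduct.Quotient
import Mathlib.RingTheory.Ideal.Colon
import Mathlib.LinearAlgebra.TensorProduct.Pi

/-!
# Finite colon ideals under flat ring maps
-/

universe u

open TensorProduct

namespace Groth.Agent.BrnchLib

theorem mem_map_colon_of_flat {A B : Type u} [CommRing A] [CommRing B] [Algebra A B] [Module.Flat A B]
    (K : Ideal A) {ι : Type u} [Fintype ι] (x : ι → A) (y : B)
    (hy : ∀ i, y * algebraMap A B (x i) ∈ K.map (algebraMap A B)) :
    y ∈ (K.colon (Set.range x)).map (algebraMap A B) := by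
  classical
  let c : Ideal A := K.colon (Set.range x)
  let μ : A →ₗ[A] (ι → A ⧸ K) := LinearMap.pi fun i => K.mkQ.comp (LinearMap.toSpanSingleton _ _ (x i))
  have hex : Function.Exact c.subtype μ := by
    rw [LinearMap.exact_iff, Submodule.range_subtype]
    ext r
    simp [μ, c, Submodule.mem_colon, funext_iff, ← map_mul, Ideal.Quotient.eq_zero_iff_mem]
  have h0 : μ.lTensor B (y ⊗ₜ 1) = 0 := by
    apply (TensorProduct.piRight A A B fun _ : ι => A ⧸ K).injective
    rw [map_zero]
    funext i
    apply (Algebra.TensorProduct.quotIdealMapEquivTensorQuot B K).symm.injective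
    rw [Pi.zero_apply, map_zero]
    change (Algebra.TensorProduct.quotIdealMapEquivTensorQuot B K).symm (y ⊗ₜ[A] Ideal.Quotient.mk K ((1 : A) • x i)) = 0
    rw [one_smul, Algebra.TensorProduct.quotIdealMapEquivTensorQuot_symm_tmul, Submodule.Quotient.mk_eq_zero,
      Algebra.smul_def, mul_comm]
    exact hy i
  obtain ⟨z, hz⟩ := (Module.Flat.lTensor_exact B hex _).mp h0
  have e : y = TensorProduct.rid A B (c.subtype.lTensor B z) := by simp [hz]
  rw [e]
  clear hz e
  induction z with
  | zero => simp
  | tmul b r =>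
    rw [LinearMap.lTensor_tmul, TensorProduct.rid_tmul, Algebra.smul_def]
    exact Ideal.mul_mem_right _ _ (Ideal.mem_map_of_mem _ r.2)
  | add a b ha hb => simpa only [map_add] using add_mem ha hb

end Groth.Agent.BrnchLib
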