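import Groth.Agent.BrnchLib.HenzMin
import Mathlib.RingTheory.AdicCompletion.LocalRing
import Mathlib.RingTheory.AdicCompletion.AsTensorProduct
import Mathlib.RingTheory.AdicCompletion.Algebra
import Mathlib.RingTheory.Henselian

/-! The completion of a Noetherian local ring is the completion of its henselization. -/

noncomputable section

namespace Groth.Agent.BrnchLib

universe u

open IsLocalRing Groth.Agent.Hensel

set_option linter.style.haveILetI false

variable (A : Type u) [CommRing A] [IsLocalRing A] (S : Type u) [CommRing S] [IsLocalRing S] [Algebra A S]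
  [IsLocalHom (algebraMap A S)] [_root_.Hensel.IsHenselization A S]


theorem henselianLocalRing_completion [IsNoetherianRing A] : HenselianLocalRing (AdicCompletion (maximalIdeal A) A) where
  is_henselian f hf a₀ h₁ h₂ :=
    (IsAdicComplete.henselianRing (AdicCompletion (maximalIdeal A) A) (maximalIdeal (AdicCompletion (maximalIdeal A) A))).is_henselian f hf a₀ h₁ (h₂.map _)

/-- The quotients of a henselization by powers of the maximal ideal are those of the ring. -/
def quotEquiv (n : ℕ) : A ⧸ maximalIdeal A ^ n ≃+* S ⧸ maximalIdeal S ^ n :=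
  (RingEquiv.ofBijective _ (bijective_quotientMap_pow_of_isHenselization A S n)).trans
    (Ideal.quotEquivOfEq (by rw [Ideal.map_pow, map_maximalIdeal_of_isHenselization]))

theorem quotEquiv_mk (n : ℕ) (a : A) :
    quotEquiv A S n (Ideal.Quotient.mk _ a) = Ideal.Quotient.mk _ (algebraMap A S a) := rfl

theorem quotEquiv_factor {m n : ℕ} (h : m ≤ n) (x : A ⧸ maximalIdeal A ^ n) :
    Ideal.Quotient.factorPow (maximalIdeal S) h (quotEquiv A S n x) =
      quotEquiv A S m (Ideal.Quotient.factorPow (maximalIdeal A) h x) := by
  obtain ⟨a, rfl⟩ := Ideal.Quotient.mk_surjective x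
  rw [quotEquiv_mk]
  exact (quotEquiv_mk A S m a).symm

theorem quotEquiv_symm_factor {m n : ℕ} (h : m ≤ n) (y : S ⧸ maximalIdeal S ^ n) :
    Ideal.Quotient.factorPow (maximalIdeal A) h ((quotEquiv A S n).symm y) =
      (quotEquiv A S m).symm (Ideal.Quotient.factorPow (maximalIdeal S) h y) := by
  apply (quotEquiv A S m).injective
  rw [← quotEquiv_factor, RingEquiv.apply_symm_apply, RingEquiv.apply_symm_apply]

theorem evalₐ_factor {R : Type u} [CommRing R] (I : Ideal R) {m n : ℕ} (h : m ≤ n) (x : AdicCompletion I R) :
    Ideal.Quotient.factorPow I h (AdicCompletion.evalₐ I n x) = AdicCompletion.evalₐ I m x := by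
  rw [← AdicCompletion.factor_eval_eq_evalₐ I x (le_of_eq (Ideal.mul_top _)),
    ← AdicCompletion.factor_eval_eq_evalₐ I x (le_of_eq (Ideal.mul_top _))]
  obtain ⟨a, ha⟩ := Submodule.Quotient.mk_surjective _ (x.val n)
  change Ideal.Quotient.factorPow I h (Submodule.factor _ (x.val n)) = Submodule.factor _ (x.val m)
  rw [← x.2 h, ← ha]
  rfl

theorem compat_symm {m n : ℕ} (h : m ≤ n) : (Ideal.Quotient.factorPow (maximalIdeal A) h).comp
      ((quotEquiv A S n).symm.toRingHom.comp (AdicCompletion.evalₐ (maximalIdeal S) n).toRingHom) =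
      (quotEquiv A S m).symm.toRingHom.comp (AdicCompletion.evalₐ (maximalIdeal S) m).toRingHom :=
  RingHom.ext fun x => by
    change Ideal.Quotient.factorPow (maximalIdeal A) h ((quotEquiv A S n).symm (AdicCompletion.evalₐ (maximalIdeal S) n x)) = _
    rw [quotEquiv_symm_factor, evalₐ_factor]
    rfl

theorem compat {m n : ℕ} (h : m ≤ n) : (Ideal.Quotient.factorPow (maximalIdeal S) h).comp
      ((quotEquiv A S n).toRingHom.comp (AdicCompletion.evalₐ (maximalIdeal A) n).toRingHom) =
      (quotEquiv A S m).toRingHom.comp (AdicCompletion.evalₐ (maximalIdeal A) m).toRingHom :=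
  RingHom.ext fun x => by
    change Ideal.Quotient.factorPow (maximalIdeal S) h (quotEquiv A S n (AdicCompletion.evalₐ (maximalIdeal A) n x)) = _
    rw [quotEquiv_factor, evalₐ_factor]
    rfl

/-- The completion of a henselization is the completion. -/
def complEquiv : AdicCompletion (maximalIdeal S) S ≃+* (AdicCompletion (maximalIdeal A) A) :=
  RingEquiv.ofRingHom (AdicCompletion.liftRingHom (maximalIdeal A) _ (compat_symm A S)) (AdicCompletion.liftRingHom (maximalIdeal S) _ (compat A S))
    (RingHom.ext fun x => AdicCompletion.ext_evalₐ fun n => by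
      rw [RingHom.comp_apply, RingHom.id_apply, AdicCompletion.evalₐ_liftRingHom _ _ (compat_symm A S)]
      change (quotEquiv A S n).symm (AdicCompletion.evalₐ (maximalIdeal S) n (AdicCompletion.liftRingHom (maximalIdeal S) _ (compat A S) x)) = _
      rw [AdicCompletion.evalₐ_liftRingHom _ _ (compat A S)]
      exact (quotEquiv A S n).symm_apply_apply _)
    (RingHom.ext fun x => AdicCompletion.ext_evalₐ fun n => by
      rw [RingHom.comp_apply, RingHom.id_apply, AdicCompletion.evalₐ_liftRingHom _ _ (compat A S)]
      change quotEquiv A S n (AdicCompletion.evalₐ (maximalIdeal A) n (AdicCompletion.liftRingHom (maximalIdeal A) _ (compat_symm A S) x)) = _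
      rw [AdicCompletion.evalₐ_liftRingHom _ _ (compat_symm A S)]
      exact (quotEquiv A S n).apply_symm_apply _)

theorem complEquiv_comp_algebraMap (a : A) :
    complEquiv A S (algebraMap S (AdicCompletion (maximalIdeal S) S) (algebraMap A S a)) = algebraMap A (AdicCompletion (maximalIdeal A) A) a := by
  refine AdicCompletion.ext_evalₐ fun n => ?_
  change AdicCompletion.evalₐ (maximalIdeal A) n (AdicCompletion.liftRingHom (maximalIdeal A) _ (compat_symm A S) _) = _
  refine (AdicCompletion.evalₐ_liftRingHom _ _ _ n _).trans ?_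
  change (quotEquiv A S n).symm (AdicCompletion.evalₐ (maximalIdeal S) n (algebraMap S _ (algebraMap A S a))) = _
  rw [RingEquiv.symm_apply_eq]
  change AdicCompletion.evalₐ (maximalIdeal S) n (algebraMap S _ (algebraMap A S a)) = _
  rw [AlgHom.commutes, AlgHom.commutes]
  exact (quotEquiv_mk A S n a).symm

variable [IsNoetherianRing A] (ψ : S →+* (AdicCompletion (maximalIdeal A) A)) (hψ : ψ.comp (algebraMap A S) = algebraMap A (AdicCompletion (maximalIdeal A) A))

include hψ

theorem psi_eq : ψ = (complEquiv A S).toRingHom.comp (algebraMap S (AdicCompletion (maximalIdeal S) S)) := by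
  haveI := henselianLocalRing_completion A
  obtain ⟨g, -, huniq⟩ := _root_.Hensel.IsHenselization.universal (R := A) (S := S) (AdicCompletion (maximalIdeal A) A) (algebraMap A (AdicCompletion (maximalIdeal A) A)) inferInstance
  exact (huniq ψ hψ).trans (huniq _ (RingHom.ext fun a => complEquiv_comp_algebraMap A S a)).symm

/-- The map from the henselization to the completion is faithfully flat. -/
theorem faithfullyFlat_psi : letI := ψ.toAlgebra; Module.FaithfullyFlat S (AdicCompletion (maximalIdeal A) A) := by
  haveI : IsNoetherianRing S := (isHenzLike_of_isHenselization A S).isNoetherianRing_iff.1 inferInstance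
  haveI : Module.FaithfullyFlat S (AdicCompletion (maximalIdeal S) S) := Module.FaithfullyFlat.of_flat_of_isLocalHom
  letI := ψ.toAlgebra
  let e : AdicCompletion (maximalIdeal S) S ≃ₗ[S] (AdicCompletion (maximalIdeal A) A) :=
    { (complEquiv A S).toAddEquiv with
      map_smul' := fun s x => by
        change complEquiv A S (s • x) = ψ s * complEquiv A S x
        rw [psi_eq A S ψ hψ, Algebra.smul_def, map_mul]
        rfl }
  exact Module.FaithfullyFlat.of_linearEquiv S _ e.symm

end Groth.Agent.BrnchLib
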