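import Groth.Agent.BrnchLib.LeCompletion
import Groth.Agent.S0538
import Groth.Agent.S0540
import Groth.Agent.S0541
import Groth.Agent.S0547
import Groth.Agent.FormalFib6.Cplt

/-!
# Branches of one-dimensional local rings are seen in the completion
-/

universe u

set_option linter.style.haveILetI false

open IsLocalRing Polynomial

namespace Groth.Agent.BrnchLib

section

variable {S T : Type u} [CommRing S] [CommRing T] [IsLocalRing T] (ψ : S →+* T)

theorem exists_sub_mem_map_pow [IsLocalRing S] (hm : (maximalIdeal S).map ψ = maximalIdeal T)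
    (hres : ∀ y : T, ∃ s, y - ψ s ∈ maximalIdeal T) (N : ℕ) (y : T) :
    ∃ s, y - ψ s ∈ (maximalIdeal S ^ N).map ψ := by
  induction N generalizing y with
  | zero => exact ⟨0, by rw [pow_zero, Ideal.one_eq_top, Ideal.map_top]; trivial⟩
  | succ N ih =>
    obtain ⟨s, hs⟩ := ih y
    suffices h : ∀ r ∈ Ideal.span (ψ '' (maximalIdeal S ^ N : Ideal S)),
        ∃ s', r - ψ s' ∈ (maximalIdeal S ^ (N + 1)).map ψ by
      obtain ⟨s', hs'⟩ := h _ hs
      exact ⟨s + s', by rwa [map_add, ← sub_sub]⟩
    intro r hr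
    induction hr using Submodule.span_induction with
    | mem r hr =>
      obtain ⟨a, -, rfl⟩ := hr
      exact ⟨a, by rw [sub_self]; exact zero_mem _⟩
    | zero => exact ⟨0, by rw [map_zero, sub_zero]; exact zero_mem _⟩
    | add r r' _ _ h h' =>
      obtain ⟨s₁, h₁⟩ := h
      obtain ⟨s₂, h₂⟩ := h'
      refine ⟨s₁ + s₂, ?_⟩
      have : r + r' - ψ (s₁ + s₂) = (r - ψ s₁) + (r' - ψ s₂) := by rw [map_add]; ring
      rw [this]; exact add_mem h₁ h₂
    | smul c r hr h =>
      obtain ⟨s', h'⟩ := h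
      obtain ⟨sc, hc⟩ := hres c
      refine ⟨sc * s', ?_⟩
      have : c • r - ψ (sc * s') = (c - ψ sc) * r + ψ sc * (r - ψ s') := by
        rw [map_mul, smul_eq_mul]; ring
      rw [this]
      refine add_mem ?_ (Ideal.mul_mem_left _ _ h')
      rw [pow_succ', Ideal.map_mul, hm]
      exact Ideal.mul_mem_mul hc hr

/-- Over a one-dimensional base, minimal primes of the completion are determined by their traces. -/
theorem injOn_comap_minimalPrimes [HenselianLocalRing S] [IsNoetherianRing S] [IsNoetherianRing T]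
    (hψ : letI := ψ.toAlgebra; Module.FaithfullyFlat S T)
    (hm : (maximalIdeal S).map ψ = maximalIdeal T)
    (hres : ∀ y : T, ∃ s, y - ψ s ∈ maximalIdeal T) [Ring.KrullDimLE 1 T] :
    Set.InjOn (Ideal.comap ψ) (minimalPrimes T) := by
  classical
  intro P hP Q hQ hPQ
  by_contra hne
  have hcomap : ∀ I : Ideal S, (I.map ψ).comap ψ = I := fun I => by
    letI := ψ.toAlgebra
    haveI := hψ
    exact Ideal.comap_map_eq_self_of_faithfullyFlat (B := T) I
  have hmT : (maximalIdeal T).comap ψ = maximalIdeal S := by rw [← hm, hcomap]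
  have hdim : ∀ R : Ideal T, R.IsPrime → R ∈ minimalPrimes T ∨ R = maximalIdeal T := fun R hR => by
    rcases Ring.krullDimLE_one_iff.1 ‹_› R hR with h | h
    · exact Or.inl h
    · exact Or.inr (IsLocalRing.eq_maximalIdeal h)
  haveI := hP.1.1
  haveI := hQ.1.1
  let q := P.comap ψ
  have hqmin : q ∈ minimalPrimes S := comap_mem_minimalPrimes ψ hψ hP
  by_cases hqm : q = maximalIdeal S
  · have hP' : P = maximalIdeal T := (IsLocalRing.le_maximalIdeal hP.1.1.ne_top).antisymm
      (hm ▸ Ideal.map_le_iff_le_comap.2 hqm.ge)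
    have hQ' : Q = maximalIdeal T := (IsLocalRing.le_maximalIdeal hQ.1.1.ne_top).antisymm
      (hm ▸ Ideal.map_le_iff_le_comap.2 (hqm.symm.le.trans hPQ.le))
    exact hne (hP'.trans hQ'.symm)
  obtain ⟨t, htm, htq⟩ := SetLike.exists_of_lt (lt_of_le_of_ne (IsLocalRing.le_maximalIdeal hqmin.1.1.ne_top) hqm)
  let J := q.map ψ
  have hJ : ∀ {R : Ideal T}, R ∈ J.minimalPrimes ↔ R ∈ minimalPrimes T ∧ R.comap ψ = q :=
    mem_minimalPrimes_map_iff ψ hψ hqmin
  have hfin : J.minimalPrimes.Finite := Ideal.finite_minimalPrimes_of_isNoetherianRing T J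
  let O := hfin.toFinset.erase P
  let Q' : Ideal T := O.inf id
  have hQ'Q : Q' ≤ Q :=
    Finset.inf_le (f := id) (Finset.mem_erase.2 ⟨Ne.symm hne, hfin.mem_toFinset.2 (hJ.2 ⟨hQ, hPQ.symm⟩)⟩)
  have hrad : ψ t ∈ (P ⊔ Q').radical := by
    rw [Ideal.radical_eq_sInf, Ideal.mem_sInf]
    rintro R ⟨hR, hRp⟩
    rcases hdim R hRp with h | rfl
    · exfalso
      have hRP : R = P := (h.2 ⟨hP.1.1, bot_le⟩ (le_sup_left.trans hR)).antisymm (le_sup_left.trans hR)
      obtain ⟨P', hP'O, hP'⟩ := (Ideal.IsPrime.inf_le' hRp).1 (le_sup_right.trans hR : O.inf id ≤ R)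
      obtain ⟨hne', hP'J⟩ := Finset.mem_erase.1 hP'O
      subst hRP
      have hm' := (hJ.1 (hfin.mem_toFinset.1 hP'J)).1
      exact hne' (le_antisymm hP' (hP.2 ⟨hm'.1.1, bot_le⟩ hP'))
    · rw [← Ideal.mem_comap, hmT]; exact htm
  obtain ⟨n₀, hn₀⟩ := hrad
  obtain ⟨p, hp, q', hq', hsum⟩ := Submodule.mem_sup.1 hn₀
  have hpq : p * q' ∈ J.radical := by
    rw [← Ideal.sInf_minimalPrimes, Ideal.mem_sInf]
    intro R hR
    by_cases hRP : R = P
    · exact hRP ▸ Ideal.mul_mem_right _ _ hp
    · exact Ideal.mul_mem_left _ _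
        ((Finset.inf_le (f := id) (Finset.mem_erase.2 ⟨hRP, hfin.mem_toFinset.2 hR⟩) : Q' ≤ R) hq')
  obtain ⟨k, hk⟩ := hpq
  let n := n₀ * (2 * (k + 1))
  obtain ⟨α, β, hαβ⟩ := Ideal.mem_span_pair.1 (show ψ t ^ n ∈ Ideal.span {p ^ (k + 1), q' ^ (k + 1)} by
    rw [pow_mul, ← hsum]
    exact Ideal.add_pow_mem_of_pow_mem_of_le _ (Ideal.subset_span (Set.mem_insert _ _))
      (Ideal.subset_span (Set.mem_insert_of_mem _ rfl)) (by omega))
  let a := α * p ^ (k + 1)
  let a' := β * q' ^ (k + 1)
  have haP : a ∈ P := Ideal.mul_mem_left _ _ (Ideal.pow_mem_of_mem _ hp _ (by omega))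
  have ha'Q : a' ∈ Q := Ideal.mul_mem_left _ _ (Ideal.pow_mem_of_mem _ (hQ'Q hq') _ (by omega))
  have haa' : a * a' ∈ J := by
    have : a * a' = α * β * (p * q') * (p * q') ^ k := by simp only [a, a']; ring
    rw [this]; exact Ideal.mul_mem_left _ _ hk
  -- approximate `a` by an element of the base
  let I := q ⊔ Ideal.span {t ^ (2 * n + 1)}
  obtain ⟨N, hN⟩ := Ideal.exists_pow_le_of_le_radical_of_fg (I := maximalIdeal S) (J := I) (by
    rw [Ideal.radical_eq_sInf]
    refine le_sInf fun R ⟨hR, hRp⟩ => ?_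
    obtain ⟨R', hR'⟩ := (letI := ψ.toAlgebra; haveI := hψ;
      PrimeSpectrum.comap_surjective_of_faithfullyFlat (B := T) (⟨R, hRp⟩ : PrimeSpectrum S))
    have hR'c : R'.asIdeal.comap ψ = R := congr(($hR').asIdeal)
    rcases hdim R'.asIdeal R'.isPrime with h | h
    · exfalso
      refine htq ?_
      have hRm := comap_mem_minimalPrimes ψ hψ h
      rw [hR'c] at hRm
      exact hRm.2 ⟨hqmin.1.1, bot_le⟩ (le_sup_left.trans hR)
        (hRp.mem_of_pow_mem _ (hR (Ideal.mem_sup_right (Ideal.mem_span_singleton_self _))))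
    · rw [← hR'c, h, hmT]) (IsNoetherian.noetherian _)
  obtain ⟨b, hb⟩ := exists_sub_mem_map_pow ψ hm hres N a
  have hb' : a - ψ b ∈ J ⊔ Ideal.span {ψ t ^ (2 * n + 1)} := by
    have h := Ideal.map_mono hN hb
    rwa [Ideal.map_sup, Ideal.map_span, Set.image_singleton, map_pow] at h
  have hh : b * (b - t ^ n) ∈ I := by
    rw [← hcomap I, Ideal.mem_comap, Ideal.map_sup, Ideal.map_span, Set.image_singleton, map_pow,
      map_mul, map_sub, map_pow]
    have : ψ b * (ψ b - ψ t ^ n) = -(a * a') + (a - ψ b) * (ψ t ^ n - a - ψ b) := by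
      rw [← hαβ]; simp only [a, a']; ring
    rw [this]
    exact add_mem (neg_mem (Ideal.mem_sup_left haa')) (Ideal.mul_mem_right _ _ hb')
  obtain ⟨u, hu, v, hv, huv⟩ := Submodule.mem_sup.1 hh
  obtain ⟨d, rfl⟩ := Ideal.mem_span_singleton'.1 hv
  obtain ⟨c₀, hc₀, -⟩ := HenselianLocalRing.is_henselian (X ^ 2 - X - C (t * d)) (by monicity!) 0
    (by simpa using Ideal.mul_mem_right d _ htm) (by simp)
  simp only [IsRoot, eval_sub, eval_pow, eval_X, eval_C] at hc₀
  have hprod : (b - t ^ n * c₀) * (b - t ^ n * (1 - c₀)) ∈ q := by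
    have : (b - t ^ n * c₀) * (b - t ^ n * (1 - c₀)) = u := by
      linear_combination -huv + (-(t ^ (2 * n))) * hc₀
    rwa [this]
  obtain ⟨c, hc⟩ : ∃ c, b - t ^ n * c ∈ q := by
    rcases hqmin.1.1.mem_or_mem hprod with h | h
    · exact ⟨_, h⟩
    · exact ⟨_, h⟩
  obtain ⟨j, hj, z, hz, hjz⟩ := Submodule.mem_sup.1 hb'
  obtain ⟨w, rfl⟩ := Ideal.mem_span_singleton'.1 hz
  let ε := ψ c + w * ψ t ^ (n + 1)
  have hε : a - ψ t ^ n * ε ∈ J := by
    have : a - ψ t ^ n * ε = j + ψ (b - t ^ n * c) := by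
      simp only [ε, map_sub, map_mul, map_pow]
      linear_combination -hjz
    rw [this]
    exact add_mem hj (Ideal.mem_map_of_mem ψ hc)
  have htP : ψ t ^ n ∉ P := fun h => htq (hP.1.1.mem_of_pow_mem _ h)
  have htQ : ψ t ^ n ∉ Q := fun h => htq (show t ∈ P.comap ψ from hPQ ▸ hQ.1.1.mem_of_pow_mem _ h)
  have hεP : ε ∈ P := by
    refine (hP.1.1.mem_or_mem ?_).resolve_left htP
    have := P.sub_mem haP (Ideal.map_le_iff_le_comap.2 le_rfl hε)
    rwa [sub_sub_cancel] at this
  have hεQ : 1 - ε ∈ Q := by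
    refine (hQ.1.1.mem_or_mem ?_).resolve_left htQ
    have : ψ t ^ n * (1 - ε) = (a - ψ t ^ n * ε) + a' := by
      linear_combination -hαβ
    rw [this]
    exact Q.add_mem (Ideal.map_le_iff_le_comap.2 hPQ.le hε) ha'Q
  rcases IsLocalRing.isUnit_or_isUnit_one_sub_self ε with h | h
  · exact hP.1.1.ne_top (Ideal.eq_top_of_isUnit_mem _ hεP h)
  · exact hQ.1.1.ne_top (Ideal.eq_top_of_isUnit_mem _ hεQ h)

theorem card_eq_of_dim_one [HenselianLocalRing S] [IsNoetherianRing S] [IsNoetherianRing T]
    (hψ : letI := ψ.toAlgebra; Module.FaithfullyFlat S T)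
    (hm : (maximalIdeal S).map ψ = maximalIdeal T)
    (hres : ∀ y : T, ∃ s, y - ψ s ∈ maximalIdeal T) [Ring.KrullDimLE 1 T] :
    ENat.card (minimalPrimes T) = ENat.card (minimalPrimes S) :=
  ENat.card_congr (Equiv.ofBijective
    (fun P : minimalPrimes T => (⟨P.1.comap ψ, comap_mem_minimalPrimes ψ hψ P.2⟩ : minimalPrimes S))
    ⟨fun P P' h => Subtype.ext (injOn_comap_minimalPrimes ψ hψ hm hres P.2 P'.2 (congrArg Subtype.val h)),
     fun q => by
      obtain ⟨P, hP, h⟩ := surjOn_minimalPrimes ψ hψ q.2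
      exact ⟨⟨P, hP⟩, Subtype.ext h⟩⟩)

end

variable (A : Type u) [CommRing A] [IsLocalRing A] [IsNoetherianRing A]

theorem numBranches_completion_eq (hA : ringKrullDim A = 1) :
    Brnch.numBranches (AdicCompletion (maximalIdeal A) A) = Brnch.numBranches A := by
  let S := Groth.Agent.Hensel.LocalHenz A
  let T := AdicCompletion (maximalIdeal A) A
  haveI hT := henselianLocalRing_completion A
  haveI : HenselianLocalRing S := _root_.Hensel.IsHenselization.henselian A
  haveI : IsNoetherianRing T := Groth.Agent.FormalFib6.isNoetherianRing_adicCompletion A _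
  haveI : IsNoetherianRing S :=
    (Groth.Agent.Hensel.isHenzLike_of_isHenselization A S).isNoetherianRing_iff.1 inferInstance
  haveI : Ring.KrullDimLE 1 T := Ring.krullDimLE_iff.2 ((S0547.result A).trans hA).le
  obtain ⟨ψ, hψ, -⟩ := _root_.Hensel.IsHenselization.universal (R := A) (S := S) T (algebraMap A T) inferInstance
  haveI hl : IsLocalHom (algebraMap T T) := ⟨fun _ hu => hu⟩
  haveI := Groth.Agent.Hensel.isHenselization_self T hT
  rw [← card_minimalPrimes_henselization A S, ← card_minimalPrimes_henselization T T]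
  refine card_eq_of_dim_one ψ (faithfullyFlat_psi A S ψ hψ) ?_ fun y => ?_
  · rw [← Groth.Agent.Hensel.map_maximalIdeal_of_isHenselization (R := A) (S := S), Ideal.map_map, hψ]
    exact AdicCompletion.maximalIdeal_eq_map.symm
  · obtain ⟨c, hc⟩ := (AdicCompletion.residueField_map_bijective_of_fg
      (R := A) (maximalIdeal A).fg_of_isNoetherianRing).2 (residue T y)
    obtain ⟨a, rfl⟩ := residue_surjective c
    rw [ResidueField.map_residue] at hc
    refine ⟨algebraMap A S a, ?_⟩
    rw [← residue_eq_zero_iff, map_sub, ← RingHom.comp_apply ψ, hψ, hc, sub_self]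

/-- A local map of strict henselizations inducing a bijection on residue fields downstairs is
surjective on residue fields. -/
theorem residue_surjective_strict (A B : Type u) [CommRing A] [IsLocalRing A] [CommRing B] [IsLocalRing B]
    [Algebra A B] [IsLocalHom (algebraMap A B)]
    (hAB : Function.Surjective (ResidueField.map (algebraMap A B)))
    (S T : Type u) [CommRing S] [IsLocalRing S] [Algebra A S] [IsLocalHom (algebraMap A S)]
    [_root_.Hensel.IsStrictHenselization A S]
    [CommRing T] [IsLocalRing T] [Algebra B T] [IsLocalHom (algebraMap B T)]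
    [_root_.Hensel.IsStrictHenselization B T]
    (g : S →+* T) [IsLocalHom g] (hg : g.comp (algebraMap A S) = (algebraMap B T).comp (algebraMap A B))
    (y : T) : ∃ s, y - g s ∈ maximalIdeal T := by
  letI : Algebra (ResidueField S) (ResidueField T) := (ResidueField.map g).toAlgebra
  letI : Algebra (ResidueField A) (ResidueField T) :=
    ((ResidueField.map (algebraMap B T)).comp (ResidueField.map (algebraMap A B))).toAlgebra
  haveI : IsScalarTower (ResidueField A) (ResidueField B) (ResidueField T) :=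
    IsScalarTower.of_algebraMap_eq fun _ => rfl
  haveI : IsScalarTower (ResidueField A) (ResidueField S) (ResidueField T) :=
    IsScalarTower.of_algebraMap_eq fun c => by
      obtain ⟨a, rfl⟩ := residue_surjective c
      exact congrArg (residue T) (RingHom.congr_fun hg a).symm
  haveI hS := _root_.Hensel.IsStrictHenselization.isSepClosure (R := A) (S := S)
  haveI hT := _root_.Hensel.IsStrictHenselization.isSepClosure (R := B) (S := T)
  haveI : IsSepClosed (ResidueField S) := hS.sep_closed
  haveI := hT.separable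
  haveI : Algebra.IsSeparable (ResidueField A) (ResidueField B) := ⟨fun c => by
    obtain ⟨c, rfl⟩ := hAB c
    exact isSeparable_algebraMap (K := ResidueField B) c⟩
  haveI := Algebra.IsSeparable.trans (ResidueField A) (ResidueField B) (ResidueField T)
  haveI := Algebra.isSeparable_tower_top_of_isSeparable (ResidueField A) (ResidueField S) (ResidueField T)
  obtain ⟨c, hc⟩ := IsSepClosed.algebraMap_surjective (ResidueField S) (ResidueField T) (residue T y)
  obtain ⟨s, rfl⟩ := residue_surjective c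
  refine ⟨s, ?_⟩
  rw [← residue_eq_zero_iff, map_sub, ← hc]
  exact sub_self _

theorem numGeomBranches_completion_eq (hA : ringKrullDim A = 1) :
    Brnch.numGeomBranches (AdicCompletion (maximalIdeal A) A) = Brnch.numGeomBranches A := by
  let B := AdicCompletion (maximalIdeal A) A
  haveI : IsNoetherianRing B := Groth.Agent.FormalFib6.isNoetherianRing_adicCompletion A _
  haveI : Module.Flat A B := AdicCompletion.flat_of_isNoetherian _
  obtain ⟨S, _, _, _, _, hS⟩ := exists_strictHenselization A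
  obtain ⟨T, _, _, _, _, hT⟩ := exists_strictHenselization B
  obtain ⟨g, hg, hl, hff⟩ := exists_faithfullyFlat_strict A B S T
  haveI := hl
  haveI : HenselianLocalRing S := _root_.Hensel.IsStrictHenselization.henselian A
  haveI : IsNoetherianRing S := (S0540.result A S).1 inferInstance
  haveI : IsNoetherianRing T := (S0540.result B T).1 inferInstance
  haveI : Ring.KrullDimLE 1 T :=
    Ring.krullDimLE_iff.2 ((S0541.result B T).trans ((S0547.result A).trans hA)).le
  rw [← card_minimalPrimes_strictHenselization A S, ← card_minimalPrimes_strictHenselization B T]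
  refine card_eq_of_dim_one g hff ?_ (residue_surjective_strict A B
    (AdicCompletion.residueField_map_bijective_of_fg (R := A) (maximalIdeal A).fg_of_isNoetherianRing).2 S T g hg)
  rw [← S0538.result A S, Ideal.map_map, hg, ← Ideal.map_map, ← AdicCompletion.maximalIdeal_eq_map]
  exact S0538.result B T

end Groth.Agent.BrnchLib
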