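import Groth.Agent.BrnchLib.EtNbhdAlg
import Groth.Agent.S2284
import Groth.Prelude.Def_Hens2
import Mathlib.AlgebraicGeometry.Morphisms.Etale
import Mathlib.AlgebraicGeometry.Morphisms.FormallyUnramified
import Mathlib.AlgebraicGeometry.ResidueField

/-!
# Branches of a scheme through etale neighbourhoods

For a point `x` of a scheme and an ideal `J` of its local ring, the largest number of minimal primes over `J` in the
local rings of etale neighbourhoods is the number of geometric branches of the quotient; with trivial residue field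
extension it is the number of branches.
-/

set_option backward.isDefEq.respectTransparency false
set_option backward.isDefEq.respectTransparency.types false
set_option linter.style.haveILetI false

noncomputable section

universe u

open CategoryTheory Limits AlgebraicGeometry IsLocalRing
open Groth.Agent.Hensel (Henz)

namespace Groth.Agent.BrnchLib.EtNbhd

theorem encard_components_eq (X : Scheme.{u}) (x : X) :
    {Z : Set ↥X | Z ∈ irreducibleComponents ↥X ∧ x ∈ Z}.encard =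
      (minimalPrimes ↥(X.presheaf.stalk x)).encard := by
  have h := Groth.Agent.S2284.result X x
  rw [← h.image_eq, h.injOn.encard_image]
  let f : ↥(Spec (X.presheaf.stalk x)) → Ideal ↥(X.presheaf.stalk x) := fun z => PrimeSpectrum.asIdeal z
  have hf : Function.Injective f := fun a b hab => PrimeSpectrum.ext hab
  have key : ∀ z : PrimeSpectrum ↥(X.presheaf.stalk x),
      closure ({z} : Set _) ∈ irreducibleComponents (PrimeSpectrum ↥(X.presheaf.stalk x)) ↔
        z.asIdeal ∈ minimalPrimes ↥(X.presheaf.stalk x) := fun z => by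
    rw [← PrimeSpectrum.vanishingIdeal_mem_minimalPrimes, PrimeSpectrum.vanishingIdeal_singleton]
  have himg : f '' {z | closure ({z} : Set (Spec (X.presheaf.stalk x))) ∈
        irreducibleComponents (Spec (X.presheaf.stalk x) : Type u)} = minimalPrimes ↥(X.presheaf.stalk x) := by
    ext I
    constructor
    · rintro ⟨z, hz, rfl⟩
      exact (key z).1 hz
    · intro hI
      exact ⟨(⟨I, hI.1.1⟩ : PrimeSpectrum _), (key _).2 hI, rfl⟩
  rw [← himg, hf.injOn.encard_image]

/-- The map of local rings of a morphism at a point over `x`. -/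
abbrev stMap {U X : Scheme.{u}} (g : U ⟶ X) (u : U) {x : X} (h : g u = x) :
    X.presheaf.stalk x →+* U.presheaf.stalk u :=
  (X.presheaf.stalkSpecializes (specializes_of_eq h) ≫ g.stalkMap u).hom

theorem stMap_rfl {U X : Scheme.{u}} (g : U ⟶ X) (u : U) : stMap g u rfl = (g.stalkMap u).hom := by
  simp [stMap, TopCat.Presheaf.stalkSpecializes_refl]

section Henz

variable {X : Scheme.{u}} {V : X.Opens} (hV : IsAffineOpen V) {K : Type u} [Field K] [Algebra Γ(X, V) K]

include hV in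
/-- The local ring of an etale neighbourhood with a point in `K` maps to the universal one. -/
theorem exists_sigma {U : Scheme.{u}} (g : U ⟶ X) [Etale g] (u : U) (hxV : g u ∈ V)
    (fl : X.presheaf.stalk (g u) →+* Henz Γ(X, V) K)
    (hfl : ∀ a, fl (X.presheaf.germ V (g u) hxV a) = algebraMap _ _ a)
    (W : U.Opens) (hW : IsAffineOpen W) (e : W ≤ g ⁻¹ᵁ V) (huW : u ∈ W) [Algebra Γ(X, V) Γ(U, W)]
    (halg : algebraMap Γ(X, V) Γ(U, W) = (g.appLE V W e).hom) [Algebra.Etale Γ(X, V) Γ(U, W)] (τ : Γ(U, W) →ₐ[Γ(X, V)] K)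
    (hτ : ∀ b, τ b = 0 ↔ u ∉ U.basicOpen b) :
    ∃ σ : U.presheaf.stalk u →+* Henz Γ(X, V) K,
      (letI := σ.toAlgebra; Module.FaithfullyFlat (U.presheaf.stalk u) (Henz Γ(X, V) K)) ∧ IsLocalHom σ ∧
      σ.comp (g.stalkMap u).hom = fl ∧ ∀ (hu' : u ∈ W) b, σ (U.presheaf.germ W u hu' b) = Henz.ofNbhd Γ(U, W) τ b := by
  letI aU : Algebra Γ(U, W) (U.presheaf.stalk u) := (U.presheaf.germ W u huW).hom.toAlgebra
  let q := (hW.primeIdealOf ⟨u, huW⟩).asIdeal
  haveI : IsLocalization.AtPrime (U.presheaf.stalk u) q := hW.isLocalization_stalk ⟨u, huW⟩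
  obtain ⟨σ, hff, hl, hσ⟩ := exists_ff Γ(X, V) K Γ(U, W) τ q (fun b => by
    rw [hτ, U.mem_basicOpen (hx := huW)]
    show ¬ IsUnit (algebraMap Γ(U, W) (U.presheaf.stalk u) b) ↔ _
    rw [IsLocalization.AtPrime.isUnit_to_map_iff (U.presheaf.stalk u) q b]
    exact not_not) (U.presheaf.stalk u)
  refine ⟨σ, hff, hl, ?_, fun _ b => hσ b⟩
  letI aX : Algebra Γ(X, V) (X.presheaf.stalk (g u)) := (X.presheaf.germ V (g u) hxV).hom.toAlgebra
  haveI : IsLocalization.AtPrime (X.presheaf.stalk (g u)) (hV.primeIdealOf ⟨g u, hxV⟩).asIdeal :=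
    hV.isLocalization_stalk ⟨g u, hxV⟩
  refine IsLocalization.ringHom_ext (hV.primeIdealOf ⟨g u, hxV⟩).asIdeal.primeCompl (RingHom.ext fun a => ?_)
  show σ ((g.stalkMap u).hom (X.presheaf.germ V (g u) hxV a)) = fl (X.presheaf.germ V (g u) hxV a)
  rw [hfl, ← (Henz.ofNbhd Γ(U, W) τ).commutes a, ← hσ]
  refine congrArg σ ?_
  show _ = U.presheaf.germ W u huW (algebraMap Γ(X, V) Γ(U, W) a)
  rw [halg, Scheme.Hom.germ_stalkMap_apply, Scheme.Hom.appLE, CommRingCat.comp_apply,
    TopCat.Presheaf.germ_res_apply]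

variable {x : X} (hxV : x ∈ V) (fl : X.presheaf.stalk x →+* Henz Γ(X, V) K)
  (hfl : ∀ a, fl (X.presheaf.germ V x hxV a) = algebraMap _ _ a)
  (ι : X.presheaf.stalk x →+* K) (hι : ∀ a, ι (X.presheaf.germ V x hxV a) = algebraMap _ _ a)

include hV hfl hι in
theorem proj_fl : (Henz.proj Γ(X, V) K).toRingHom.comp fl = ι := by
  letI aX : Algebra Γ(X, V) (X.presheaf.stalk x) := (X.presheaf.germ V x hxV).hom.toAlgebra
  haveI : IsLocalization.AtPrime (X.presheaf.stalk x) (hV.primeIdealOf ⟨x, hxV⟩).asIdeal :=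
    hV.isLocalization_stalk ⟨x, hxV⟩
  refine IsLocalization.ringHom_ext (hV.primeIdealOf ⟨x, hxV⟩).asIdeal.primeCompl (RingHom.ext fun a => ?_)
  show Henz.proj _ K (fl (X.presheaf.germ V x hxV a)) = ι (X.presheaf.germ V x hxV a)
  rw [hfl, hι, AlgHom.commutes]

include hV hfl hι in
/-- An etale neighbourhood has no more minimal primes over `J` than the universal one. -/
theorem encard_le_henz {U : Scheme.{u}} (g : U ⟶ X) [Etale g] (u : U) (hgu : g u = x)
    (τ : U.presheaf.stalk u →+* K) [IsLocalHom τ] (hτ : τ.comp (stMap g u hgu) = ι)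
    (J : Ideal (X.presheaf.stalk x)) :
    (J.map (stMap g u hgu)).minimalPrimes.encard ≤ (J.map fl).minimalPrimes.encard := by
  subst hgu
  rw [stMap_rfl] at hτ ⊢
  obtain ⟨W, hW, huW, hWV⟩ := exists_isAffineOpen_mem_and_subset (U := g ⁻¹ᵁ V) (x := u) hxV
  letI : Algebra Γ(X, V) Γ(U, W) := (g.appLE V W hWV).hom.toAlgebra
  let τB : Γ(U, W) →ₐ[Γ(X, V)] K := { τ.comp (U.presheaf.germ W u huW).hom with
    commutes' := fun a => by
      show τ (U.presheaf.germ W u huW ((g.appLE V W hWV).hom a)) = _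
      rw [← hι, ← congr($hτ (X.presheaf.germ V (g u) hxV a)), RingHom.comp_apply,
        Scheme.Hom.germ_stalkMap_apply, Scheme.Hom.appLE, CommRingCat.comp_apply,
        TopCat.Presheaf.germ_res_apply] }
  haveI : Algebra.Etale Γ(X, V) Γ(U, W) := RingHom.etale_algebraMap.1
    (HasRingHomProperty.appLE (P := @Etale) g ‹_› ⟨V, hV⟩ ⟨W, hW⟩ hWV)
  obtain ⟨σ, hff, -, hσ, -⟩ := exists_sigma hV g u hxV fl hfl W hW hWV huW rfl τB fun b => by
    rw [U.mem_basicOpen (hx := huW), ← isUnit_map_iff τ, isUnit_iff_ne_zero, not_not]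
    rfl
  rw [← hσ, ← Ideal.map_map]
  exact encard_le σ hff _

include hV hfl hι in
/-- Finitely many minimal primes over `J` stay apart in some etale neighbourhood. -/
theorem exists_le_henz [IsLocalHom ι] (J : Ideal (X.presheaf.stalk x)) (n : ℕ) (hn : (n : ℕ∞) ≤ (J.map fl).minimalPrimes.encard) :
    ∃ (U : Scheme.{u}) (g : U ⟶ X) (u : U) (hgu : g u = x), Etale g ∧
      (∃ τ : U.presheaf.stalk u →+* K, IsLocalHom τ ∧ τ.comp (stMap g u hgu) = ι) ∧
      (n : ℕ∞) ≤ (J.map (stMap g u hgu)).minimalPrimes.encard := by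
  classical
  obtain ⟨T₀, hT₀, hT₀n⟩ := Set.exists_subset_encard_eq hn
  have hfin : T₀.Finite := Set.finite_of_encard_eq_coe hT₀n
  let T := hfin.toFinset
  let P := (T ×ˢ T).filter fun p => ¬ p.1 ≤ p.2
  have hsep : ∀ p : P, ∃ z, z ∈ p.1.1 ∧ z ∉ p.1.2 := fun p =>
    SetLike.not_le_iff_exists.1 (Finset.mem_filter.1 p.2).2
  choose z hz₁ hz₂ using hsep
  obtain ⟨B, _, _, _, τ, hB⟩ := exists_fractions Γ(X, V) K (Finset.univ.image z)
  let q : Ideal B := RingHom.ker τ
  haveI hqp : q.IsPrime := RingHom.ker_isPrime τ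
  let U : Scheme.{u} := Spec (CommRingCat.of B)
  let g : U ⟶ X := Spec.map (CommRingCat.ofHom (algebraMap Γ(X, V) B)) ≫ hV.fromSpec
  haveI : Etale (Spec.map (CommRingCat.ofHom (algebraMap Γ(X, V) B))) :=
    (HasRingHomProperty.Spec_iff (P := @Etale)).2 (RingHom.etale_algebraMap.2 inferInstance)
  haveI : Etale g := inferInstance
  let u : U := (⟨q, hqp⟩ : PrimeSpectrum B)
  letI aX : Algebra Γ(X, V) (X.presheaf.stalk x) := (X.presheaf.germ V x hxV).hom.toAlgebra
  haveI : IsLocalization.AtPrime (X.presheaf.stalk x) (hV.primeIdealOf ⟨x, hxV⟩).asIdeal :=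
    hV.isLocalization_stalk ⟨x, hxV⟩
  have hp : q.comap (algebraMap Γ(X, V) B) = (hV.primeIdealOf ⟨x, hxV⟩).asIdeal := by
    ext a
    show τ (algebraMap Γ(X, V) B a) = 0 ↔ _
    rw [τ.commutes, ← hι]
    have h := IsLocalization.AtPrime.isUnit_to_map_iff (X.presheaf.stalk x) (hV.primeIdealOf ⟨x, hxV⟩).asIdeal a
    rw [← isUnit_map_iff ι, isUnit_iff_ne_zero] at h
    exact not_iff_not.1 h
  have hgu : g u = x := by
    refine Eq.trans ?_ (hV.fromSpec_primeIdealOf ⟨x, hxV⟩)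
    exact congrArg hV.fromSpec (show PrimeSpectrum.comap (algebraMap Γ(X, V) B) (⟨q, hqp⟩ : PrimeSpectrum B) =
      hV.primeIdealOf ⟨x, hxV⟩ from PrimeSpectrum.ext hp)
  subst hgu
  have hWV : (⊤ : U.Opens) ≤ g ⁻¹ᵁ V := fun y _ =>
    hV.range_fromSpec.le ⟨Spec.map (CommRingCat.ofHom (algebraMap Γ(X, V) B)) y, rfl⟩
  have happ : g.appLE V ⊤ hWV ≫ (Scheme.ΓSpecIso (CommRingCat.of B)).hom =
      CommRingCat.ofHom (algebraMap Γ(X, V) B) := by
    have h1 : g.appLE V ⊤ hWV = hV.fromSpec.appLE V ⊤ hV.fromSpec_preimage_self.ge ≫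
        (Spec.map (CommRingCat.ofHom (algebraMap Γ(X, V) B))).appLE ⊤ ⊤ le_top :=
      (Scheme.Hom.appLE_comp_appLE _ _ V ⊤ ⊤ _ _).symm
    have h2 : hV.fromSpec.appLE V ⊤ hV.fromSpec_preimage_self.ge = (Scheme.ΓSpecIso Γ(X, V)).inv := by
      rw [Scheme.Hom.appLE, hV.fromSpec_app_self, Category.assoc, ← Functor.map_comp]
      exact (congrArg _ (CategoryTheory.Functor.map_id _ _)).trans (Category.comp_id _)
    have h3 : (Spec.map (CommRingCat.ofHom (algebraMap Γ(X, V) B))).appLE ⊤ ⊤ le_top =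
        (Spec.map (CommRingCat.ofHom (algebraMap Γ(X, V) B))).appTop :=
      (Scheme.Hom.app_eq_appLE _).symm
    rw [h1, h2, h3, Category.assoc, Scheme.ΓSpecIso_naturality]
    exact Iso.inv_hom_id_assoc (Scheme.ΓSpecIso Γ(X, V)) _
  letI : Algebra Γ(X, V) Γ(U, ⊤) := (g.appLE V ⊤ hWV).hom.toAlgebra
  let eB : Γ(U, ⊤) ≃ₐ[Γ(X, V)] B :=
    AlgEquiv.ofRingEquiv (f := (Scheme.ΓSpecIso (CommRingCat.of B)).commRingCatIsoToRingEquiv)
      fun a => congr($happ a)
  haveI : Algebra.Etale Γ(X, V) Γ(U, ⊤) := Algebra.Etale.of_equiv eB.symm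
  let τ' : Γ(U, ⊤) →ₐ[Γ(X, V)] K := τ.comp eB.toAlgHom
  have hbo : ∀ b, τ' b = 0 ↔ u ∉ U.basicOpen b := fun b => by
    have h : U.basicOpen b = PrimeSpectrum.basicOpen (eB b) := by
      conv_lhs => rw [show b = (Scheme.ΓSpecIso (CommRingCat.of B)).inv (eB b) from
        (CategoryTheory.Iso.hom_inv_id_apply (Scheme.ΓSpecIso (CommRingCat.of B)) b).symm]
      exact basicOpen_eq_of_affine _
    rw [h]
    exact not_not.symm
  obtain ⟨σ, hff, hl, hσ, hσb⟩ := exists_sigma hV g u hxV fl hfl ⊤ (isAffineOpen_top U) hWV trivial rfl τ' hbo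
  have hrange : ∀ p, z p ∈ Set.range σ := fun p => by
    obtain ⟨b, s, hs, he⟩ := hB (z p) (Finset.mem_image_of_mem z (Finset.mem_univ p))
    have hval : ∀ c, σ (U.presheaf.germ ⊤ u trivial (eB.symm c)) = Henz.ofNbhd B τ c := fun c => by
      rw [hσb trivial]
      refine congr($(algHom_ext Γ(X, V) K ((Henz.ofNbhd Γ(U, ⊤) τ').comp eB.symm.toAlgHom) (Henz.ofNbhd B τ)
        fun d => ?_) c)
      simp [τ']
    have hu : IsUnit (U.presheaf.germ ⊤ u trivial (eB.symm s)) := by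
      rw [← U.mem_basicOpen_top]
      by_contra h
      refine hs ?_
      have := (hbo _).2 h
      simpa [τ'] using this
    obtain ⟨w, hw⟩ := hu
    refine ⟨U.presheaf.germ ⊤ u trivial (eB.symm b) * ↑w⁻¹, ?_⟩
    rw [map_mul, hval, ← he, ← hval, ← hw, mul_assoc, ← map_mul, Units.mul_inv, map_one, mul_one]
  haveI hl' := hl
  refine ⟨U, g, u, rfl, inferInstance, ⟨(Henz.proj Γ(X, V) K).toRingHom.comp σ, ?_, ?_⟩, ?_⟩
  · exact ⟨fun r hr => hl.map_nonunit r (AlgSpDec.EtHenz.isUnit_iff.2 hr.ne_zero)⟩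
  · rw [stMap_rfl, RingHom.comp_assoc, hσ, proj_fl hV hxV fl hfl ι hι]
  rw [stMap_rfl]
  have hinj : ∀ I ∈ T, ∀ I' ∈ T, I.comap σ = I'.comap σ → I ≤ I' := fun I hI I' hI' h => by
    by_contra hne
    let p : P := ⟨(I, I'), Finset.mem_filter.2 ⟨Finset.mem_product.2 ⟨hI, hI'⟩, hne⟩⟩
    obtain ⟨b, hb⟩ := hrange p
    refine hz₂ p ?_
    have h5 : b ∈ I.comap σ := show σ b ∈ I from hb.symm ▸ hz₁ p
    rw [h] at h5
    exact hb ▸ h5
  calc (n : ℕ∞) = ((Ideal.comap σ '' ↑T) : Set _).encard := by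
        rw [Set.InjOn.encard_image fun I hI I' hI' h => le_antisymm (hinj I hI I' hI' h) (hinj I' hI' I hI h.symm),
          hfin.coe_toFinset, hT₀n]
    _ ≤ _ := Set.encard_le_encard fun Q ⟨I, hI, hIQ⟩ => hIQ ▸ comap_mem σ hff _ (by
        rw [Ideal.map_map, hσ]
        exact hT₀ (hfin.mem_toFinset.1 hI))

end Henz

section Model

variable {X : Scheme.{u}} {x : X} {V : X.Opens} (hV : IsAffineOpen V) (hxV : x ∈ V) (K : Type u) [Field K]
  [Algebra Γ(X, V) K] (ι : X.presheaf.stalk x →+* K) [hl : IsLocalHom ι]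
  (hι : ∀ a, ι (X.presheaf.germ V x hxV a) = algebraMap _ _ a)

include hV hι hl in
theorem exists_model_geom [IsAlgClosed K] :
    ∃ fl : X.presheaf.stalk x →+* Henz Γ(X, V) K, (∀ a, fl (X.presheaf.germ V x hxV a) = algebraMap _ _ a) ∧
      ∀ (J : Ideal (X.presheaf.stalk x)) [IsLocalRing (X.presheaf.stalk x ⧸ J)],
        (J.map fl).minimalPrimes.encard = Brnch.numGeomBranches (X.presheaf.stalk x ⧸ J) := by
  letI aX : Algebra Γ(X, V) (X.presheaf.stalk x) := (X.presheaf.germ V x hxV).hom.toAlgebra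
  haveI : IsLocalization.AtPrime (X.presheaf.stalk x) (hV.primeIdealOf ⟨x, hxV⟩).asIdeal :=
    hV.isLocalization_stalk ⟨x, hxV⟩
  letI : Algebra (X.presheaf.stalk x) K := ι.toAlgebra
  haveI : IsScalarTower Γ(X, V) (X.presheaf.stalk x) K := .of_algebraMap_eq fun a => (hι a).symm
  haveI : IsLocalHom (algebraMap (X.presheaf.stalk x) K) := hl
  let M := (hV.primeIdealOf ⟨x, hxV⟩).asIdeal.primeCompl
  let fl := AlgSpDec.EtHenz.fromLocal Γ(X, V) (X.presheaf.stalk x) K M
  letI := fl.toRingHom.toAlgebra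
  obtain ⟨hlH, hH⟩ := AlgSpDec.EtHenz.isStrictHenselization Γ(X, V) (X.presheaf.stalk x) K M
  exact ⟨fl.toRingHom, fl.commutes, fun J _ => encard_eq_numGeomBranches (X.presheaf.stalk x) _ J⟩

include hV hι hl in
theorem exists_model (hK : Function.Surjective ι) :
    ∃ fl : X.presheaf.stalk x →+* Henz Γ(X, V) K, (∀ a, fl (X.presheaf.germ V x hxV a) = algebraMap _ _ a) ∧
      ∀ (J : Ideal (X.presheaf.stalk x)) [IsLocalRing (X.presheaf.stalk x ⧸ J)],
        (J.map fl).minimalPrimes.encard = Brnch.numBranches (X.presheaf.stalk x ⧸ J) := by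
  letI aX : Algebra Γ(X, V) (X.presheaf.stalk x) := (X.presheaf.germ V x hxV).hom.toAlgebra
  haveI : IsLocalization.AtPrime (X.presheaf.stalk x) (hV.primeIdealOf ⟨x, hxV⟩).asIdeal :=
    hV.isLocalization_stalk ⟨x, hxV⟩
  letI : Algebra (X.presheaf.stalk x) K := ι.toAlgebra
  haveI : IsScalarTower Γ(X, V) (X.presheaf.stalk x) K := .of_algebraMap_eq fun a => (hι a).symm
  haveI : IsLocalHom (algebraMap (X.presheaf.stalk x) K) := hl
  let M := (hV.primeIdealOf ⟨x, hxV⟩).asIdeal.primeCompl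
  let fl := AlgSpDec.EtHenz.fromLocal Γ(X, V) (X.presheaf.stalk x) K M
  letI := fl.toRingHom.toAlgebra
  obtain ⟨hlH, hH⟩ := isHenselization Γ(X, V) K (X.presheaf.stalk x) M hK
  exact ⟨fl.toRingHom, fl.commutes, fun J _ => encard_eq_numBranches (X.presheaf.stalk x) _ J⟩

end Model

theorem isLocalHom_residue_comp {O : Type u} [CommRing O] [IsLocalRing O] {K : Type u} [Field K]
    (f : ResidueField O →+* K) : IsLocalHom (f.comp (residue O)) := ⟨fun a ha => by
  by_contra h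
  exact ha.ne_zero (by rw [RingHom.comp_apply, (residue_eq_zero_iff a).2 h, map_zero])⟩

/-- An etale neighbourhood has at most as many minimal primes over `J` as geometric branches. -/
theorem geom_le {U X : Scheme.{u}} (g : U ⟶ X) [Etale g] (u : U) {x : X} (hgu : g u = x)
    (J : Ideal (X.presheaf.stalk x)) [IsLocalRing (X.presheaf.stalk x ⧸ J)] :
    (J.map (stMap g u hgu)).minimalPrimes.encard ≤ Brnch.numGeomBranches (X.presheaf.stalk x ⧸ J) := by
  subst hgu
  obtain ⟨V, hV, hxV, -⟩ := exists_isAffineOpen_mem_and_subset (U := (⊤ : X.Opens)) (x := g u) trivial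
  let K := AlgebraicClosure (ResidueField (U.presheaf.stalk u))
  let τ : U.presheaf.stalk u →+* K := (algebraMap (ResidueField (U.presheaf.stalk u)) K).comp (residue _)
  haveI : IsLocalHom τ := isLocalHom_residue_comp _
  let ι := τ.comp (stMap g u rfl)
  haveI : IsLocalHom ι := by
    show IsLocalHom (τ.comp (stMap g u rfl))
    rw [stMap_rfl]
    exact RingHom.isLocalHom_comp τ (g.stalkMap u).hom
  letI : Algebra Γ(X, V) K := (ι.comp (X.presheaf.germ V (g u) hxV).hom).toAlgebra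
  obtain ⟨fl, hfl, hN⟩ := exists_model_geom hV hxV K ι fun _ => rfl
  rw [← hN J]
  exact encard_le_henz hV hxV fl hfl ι (fun _ => rfl) g u rfl τ rfl J

/-- An elementary etale neighbourhood has at most as many minimal primes over `J` as branches. -/
theorem elem_le {U X : Scheme.{u}} (g : U ⟶ X) [Etale g] (u : U) {x : X} (hgu : g u = x)
    (hκ : Function.Bijective (g.residueFieldMap u).hom) (J : Ideal (X.presheaf.stalk x))
    [IsLocalRing (X.presheaf.stalk x ⧸ J)] :
    (J.map (stMap g u hgu)).minimalPrimes.encard ≤ Brnch.numBranches (X.presheaf.stalk x ⧸ J) := by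
  subst hgu
  obtain ⟨V, hV, hxV, -⟩ := exists_isAffineOpen_mem_and_subset (U := (⊤ : X.Opens)) (x := g u) trivial
  let K := ResidueField (U.presheaf.stalk u)
  let τ : U.presheaf.stalk u →+* K := residue _
  let ι := τ.comp (stMap g u rfl)
  haveI : IsLocalHom ι := by
    show IsLocalHom (τ.comp (stMap g u rfl))
    rw [stMap_rfl]
    exact RingHom.isLocalHom_comp τ (g.stalkMap u).hom
  have hs : Function.Surjective ι := fun y => by
    obtain ⟨c, hc⟩ := hκ.2 y
    obtain ⟨a, rfl⟩ := residue_surjective c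
    refine ⟨a, ?_⟩
    show τ (stMap g u rfl a) = y
    rw [stMap_rfl]
    exact hc
  letI : Algebra Γ(X, V) K := (ι.comp (X.presheaf.germ V (g u) hxV).hom).toAlgebra
  obtain ⟨fl, hfl, hN⟩ := exists_model hV hxV K ι (fun _ => rfl) hs
  rw [← hN J]
  exact encard_le_henz hV hxV fl hfl ι (fun _ => rfl) g u rfl τ rfl J

/-- Geometric branches are separated by an etale neighbourhood. -/
theorem geom_exists {X : Scheme.{u}} (x : X) (J : Ideal (X.presheaf.stalk x))
    [IsLocalRing (X.presheaf.stalk x ⧸ J)] (n : ℕ)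
    (hn : (n : ℕ∞) ≤ Brnch.numGeomBranches (X.presheaf.stalk x ⧸ J)) :
    ∃ (U : Scheme.{u}) (g : U ⟶ X) (u : U) (hgu : g u = x), Etale g ∧
      (n : ℕ∞) ≤ (J.map (stMap g u hgu)).minimalPrimes.encard := by
  obtain ⟨V, hV, hxV, -⟩ := exists_isAffineOpen_mem_and_subset (U := (⊤ : X.Opens)) (x := x) trivial
  let K := AlgebraicClosure (ResidueField (X.presheaf.stalk x))
  let ι : X.presheaf.stalk x →+* K := (algebraMap (ResidueField (X.presheaf.stalk x)) K).comp (residue _)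
  haveI : IsLocalHom ι := isLocalHom_residue_comp _
  letI : Algebra Γ(X, V) K := (ι.comp (X.presheaf.germ V x hxV).hom).toAlgebra
  obtain ⟨fl, hfl, hN⟩ := exists_model_geom hV hxV K ι fun _ => rfl
  obtain ⟨U, g, u, hgu, hg, -, h⟩ := exists_le_henz hV hxV fl hfl ι (fun _ => rfl) J n (hn.trans (hN J).ge)
  exact ⟨U, g, u, hgu, hg, h⟩

/-- Branches are separated by an elementary etale neighbourhood. -/
theorem elem_exists {X : Scheme.{u}} (x : X) (J : Ideal (X.presheaf.stalk x))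
    [IsLocalRing (X.presheaf.stalk x ⧸ J)] (n : ℕ)
    (hn : (n : ℕ∞) ≤ Brnch.numBranches (X.presheaf.stalk x ⧸ J)) :
    ∃ (U : Scheme.{u}) (g : U ⟶ X) (u : U) (hgu : g u = x), Hens2.IsEtaleNbhd g u x ∧
      (n : ℕ∞) ≤ (J.map (stMap g u hgu)).minimalPrimes.encard := by
  obtain ⟨V, hV, hxV, -⟩ := exists_isAffineOpen_mem_and_subset (U := (⊤ : X.Opens)) (x := x) trivial
  let K := ResidueField (X.presheaf.stalk x)
  let ι : X.presheaf.stalk x →+* K := residue _
  letI : Algebra Γ(X, V) K := (ι.comp (X.presheaf.germ V x hxV).hom).toAlgebra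
  obtain ⟨fl, hfl, hN⟩ := exists_model hV hxV K ι (fun _ => rfl) residue_surjective
  obtain ⟨U, g, u, hgu, hg, ⟨τ, hτl, hτ⟩, h⟩ :=
    exists_le_henz hV hxV fl hfl ι (fun _ => rfl) J n (hn.trans (hN J).ge)
  refine ⟨U, g, u, hgu, ⟨hg, hgu, ?_⟩, h⟩
  subst hgu
  rw [stMap_rfl] at hτ
  haveI := hτl
  let τ' : ResidueField (U.presheaf.stalk u) →+* K :=
    IsLocalRing.ResidueField.lift τ
  refine ⟨(g.residueFieldMap u).hom.injective, fun y => ?_⟩
  obtain ⟨a, ha⟩ := residue_surjective (τ' y)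
  refine ⟨residue _ a, τ'.injective ?_⟩
  show τ ((g.stalkMap u).hom a) = τ' y
  rw [← RingHom.comp_apply, hτ]
  exact ha

theorem isLocalRing_quotient {O : Type u} [CommRing O] [IsLocalRing O] (J : Ideal O) (h : J ≤ maximalIdeal O) :
    IsLocalRing (O ⧸ J) :=
  haveI : Nontrivial (O ⧸ J) := Ideal.Quotient.nontrivial_iff.2
    fun e => (maximalIdeal.isMaximal O).ne_top (top_le_iff.1 (e.ge.trans h))
  IsLocalRing.of_surjective' _ Ideal.Quotient.mk_surjective

/-- The ideal of the fibre in the local ring. -/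
abbrev fibIdeal {X S : Scheme.{u}} (f : X ⟶ S) (x : X) : Ideal (X.presheaf.stalk x) :=
  (maximalIdeal (S.presheaf.stalk (f x))).map (f.stalkMap x).hom

theorem fibIdeal_le {X S : Scheme.{u}} (f : X ⟶ S) (x : X) : fibIdeal f x ≤ maximalIdeal (X.presheaf.stalk x) :=
  ((IsLocalRing.local_hom_TFAE (f.stalkMap x).hom).out 0 2).1 (inferInstance : IsLocalHom (f.stalkMap x).hom)

end Groth.Agent.BrnchLib.EtNbhd
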