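import Groth.Agent.BrnchLib.Compl
import Groth.Agent.BrnchLib.ComplMin
import Groth.Agent.BrnchLib.NormBij
import Groth.Agent.BrnchLib.HenzStrict
import Groth.Agent.AlgSpDec.EtHenzField
import Groth.Agent.WEtLib.Basic
import Groth.Agent.S12237
import Groth.Agent.S0736
import Groth.Agent.S0539

/-!
# A local ring has at most as many branches as its completion
-/

universe u

set_option linter.style.haveILetI false

open IsLocalRing

namespace Groth.Agent.BrnchLib

theorem exists_strictHenselization (A : Type u) [CommRing A] [IsLocalRing A] :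
    ∃ (S : Type u) (_ : CommRing S) (_ : IsLocalRing S) (_ : Algebra A S) (_ : IsLocalHom (algebraMap A S)),
      _root_.Hensel.IsStrictHenselization A S := by
  let K := AlgebraicClosure (ResidueField A)
  haveI : IsLocalHom (algebraMap A K) := ⟨fun r hr => by
    rw [IsScalarTower.algebraMap_apply A (ResidueField A) K] at hr
    by_contra hu
    exact hr.ne_zero (by rw [ResidueField.algebraMap_eq, (residue_eq_zero_iff r).2 hu, map_zero])⟩
  haveI : IsLocalization (⊥ : Submonoid A) A := IsLocalization.self fun x hx => by
    rw [Submonoid.mem_bot] at hx; rw [hx]; exact isUnit_one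
  letI : Algebra A (Groth.Agent.Hensel.Henz A K) :=
    (AlgSpDec.EtHenz.fromLocal A A K (⊥ : Submonoid A)).toRingHom.toAlgebra
  obtain ⟨h, hs⟩ := AlgSpDec.EtHenz.isStrictHenselization A A K (⊥ : Submonoid A)
  exact ⟨_, inferInstance, inferInstance, _, h, hs⟩

/-- The map of strict henselizations along a flat local homomorphism is faithfully flat. -/
theorem exists_faithfullyFlat_strict (A B : Type u) [CommRing A] [IsLocalRing A] [CommRing B] [IsLocalRing B]
    [Algebra A B] [IsLocalHom (algebraMap A B)] [Module.Flat A B]
    (S T : Type u) [CommRing S] [IsLocalRing S] [Algebra A S] [IsLocalHom (algebraMap A S)]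
    [_root_.Hensel.IsStrictHenselization A S]
    [CommRing T] [IsLocalRing T] [Algebra B T] [IsLocalHom (algebraMap B T)]
    [_root_.Hensel.IsStrictHenselization B T] :
    ∃ g : S →+* T, g.comp (algebraMap A S) = (algebraMap B T).comp (algebraMap A B) ∧ IsLocalHom g ∧
      (letI := g.toAlgebra; Module.FaithfullyFlat S T) := by
  haveI : HenselianLocalRing T := _root_.Hensel.IsStrictHenselization.henselian B
  letI : Algebra A T := ((algebraMap B T).comp (algebraMap A B)).toAlgebra
  haveI : IsScalarTower A B T := IsScalarTower.of_algebraMap_eq fun _ => rfl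
  haveI : IsLocalHom (algebraMap A T) :=
    inferInstanceAs (IsLocalHom ((algebraMap B T).comp (algebraMap A B)))
  haveI hS := _root_.Hensel.IsStrictHenselization.isSepClosure (R := A) (S := S)
  haveI hT := _root_.Hensel.IsStrictHenselization.isSepClosure (R := B) (S := T)
  haveI := hS.separable
  haveI : IsSepClosed (ResidueField T) := hT.sep_closed
  let τ : ResidueField S →ₐ[ResidueField A] ResidueField T := IsSepClosed.lift
  obtain ⟨g, ⟨hg, hgr⟩, -⟩ := _root_.Hensel.IsStrictHenselization.universal (R := A) (S := S) T
    (algebraMap A T) τ.toRingHom (RingHom.ext fun c => τ.commutes c)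
  refine ⟨g, hg, ?_⟩
  letI := g.toAlgebra
  haveI : IsScalarTower A S T := IsScalarTower.of_algebraMap_eq fun a => (RingHom.congr_fun hg a).symm
  haveI : IsLocalHom (algebraMap S T) := ⟨fun x hx => by
    have h1 : τ (residue S x) ≠ 0 := by
      rw [← show residue T (g x) = τ (residue S x) from hgr x, Ne, residue_eq_zero_iff]
      exact fun hm => hm hx
    by_contra hu
    exact h1 (by rw [(residue_eq_zero_iff x).2 hu, map_zero])⟩
  haveI : Algebra.WeaklyEtale A S := S0736.result _ _ (S12237.result A S)
  haveI : Module.FaithfullyFlat B T := S0539.result B T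
  haveI : Module.Flat A T := Module.Flat.trans A B T
  haveI : Module.Flat S T := WEtLib.flat_of_flat (A := A) T
  exact ⟨‹IsLocalHom (algebraMap S T)›, Module.FaithfullyFlat.of_flat_of_isLocalHom⟩

theorem card_le_of_surjOn {S T : Type u} [CommRing S] [CommRing T] (ψ : S →+* T)
    (hψ : letI := ψ.toAlgebra; Module.FaithfullyFlat S T) :
    ENat.card (minimalPrimes S) ≤ ENat.card (minimalPrimes T) := by
  choose P hP hPq using fun q : minimalPrimes S => surjOn_minimalPrimes ψ hψ q.2
  exact ENat.card_le_card_of_injective (f := fun q => (⟨P q, hP q⟩ : minimalPrimes T)) fun q q' h =>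
    Subtype.ext (by rw [← hPq q, ← hPq q', show P q = P q' from congrArg Subtype.val h])

variable (A : Type u) [CommRing A] [IsLocalRing A] [IsNoetherianRing A]

theorem numBranches_le_completion :
    Brnch.numBranches A ≤ Brnch.numBranches (AdicCompletion (maximalIdeal A) A) := by
  let S := Groth.Agent.Hensel.LocalHenz A
  haveI hT := henselianLocalRing_completion A
  obtain ⟨ψ, hψ, -⟩ := _root_.Hensel.IsHenselization.universal (R := A) (S := S) (AdicCompletion (maximalIdeal A) A)
    (algebraMap A (AdicCompletion (maximalIdeal A) A)) inferInstance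
  haveI hl : IsLocalHom (algebraMap (AdicCompletion (maximalIdeal A) A) (AdicCompletion (maximalIdeal A) A)) :=
    ⟨fun _ hu => hu⟩
  haveI := Groth.Agent.Hensel.isHenselization_self (AdicCompletion (maximalIdeal A) A) hT
  rw [← card_minimalPrimes_henselization A S,
    ← card_minimalPrimes_henselization (AdicCompletion (maximalIdeal A) A) (AdicCompletion (maximalIdeal A) A)]
  exact card_le_of_surjOn ψ (faithfullyFlat_psi A S ψ hψ)

theorem numGeomBranches_le_completion :
    Brnch.numGeomBranches A ≤ Brnch.numGeomBranches (AdicCompletion (maximalIdeal A) A) := by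
  obtain ⟨S, _, _, _, _, hS⟩ := exists_strictHenselization A
  obtain ⟨T, _, _, _, _, hT⟩ := exists_strictHenselization (AdicCompletion (maximalIdeal A) A)
  haveI : Module.Flat A (AdicCompletion (maximalIdeal A) A) := AdicCompletion.flat_of_isNoetherian _
  obtain ⟨g, -, -, hg⟩ := exists_faithfullyFlat_strict A (AdicCompletion (maximalIdeal A) A) S T
  rw [← card_minimalPrimes_strictHenselization A S,
    ← card_minimalPrimes_strictHenselization (AdicCompletion (maximalIdeal A) A) T]
  exact card_le_of_surjOn g hg

end Groth.Agent.BrnchLib
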