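import Groth.Agent.BrnchLib.SmoothUnib
import Groth.Agent.BrnchLib.NormBij
import Groth.Agent.BrnchLib.HenzStrict
import Groth.Agent.Unib7.Smooth
import Groth.Agent.Hensel.TensorHenz
import Groth.Agent.Hensel.HenselizationMisc
import Groth.Agent.S13598
import Groth.Prelude.Def_CAlgX
import Mathlib

/-! Branches along smooth maps. -/

set_option autoImplicit false
set_option linter.style.haveILetI false

universe u

open IsLocalRing TensorProduct

namespace Groth.Agent.BrnchLib

theorem isUnibranch_of_equiv {A A' : Type u} [CommRing A] [CommRing A'] [IsLocalRing A] [IsLocalRing A']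
    (e : A ≃+* A') (h : CAlg2.IsUnibranch A) : CAlg2.IsUnibranch A' := by
  have hnil : nilradical A' = (nilradical A).map (e : A →+* A') := by
    refine le_antisymm (fun x hx => ?_) (Ideal.map_le_iff_le_comap.mpr fun x hx => ?_)
    · rw [← e.apply_symm_apply x]
      exact Ideal.mem_map_of_mem _ (mem_nilradical.mpr ((mem_nilradical.mp hx).map e.symm))
    · exact mem_nilradical.mpr ((mem_nilradical.mp hx).map e)
  let r : CAlg2.red A ≃+* CAlg2.red A' := Ideal.quotientEquiv (nilradical A) (nilradical A') e hnil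
  haveI : IsDomain (CAlg2.red A) := h.1
  haveI hd : IsDomain (CAlg2.red A') := r.symm.toMulEquiv.isDomain _
  refine ⟨hd, ?_⟩
  let F : FractionRing (CAlg2.red A) ≃+* FractionRing (CAlg2.red A') := IsFractionRing.ringEquivOfRingEquiv r
  have hF : ∀ a, F (algebraMap _ _ a) = algebraMap _ _ (r a) := IsFractionRing.ringEquivOfRingEquiv_algebraMap r
  have hcomp : (F.toRingHom.comp (algebraMap (CAlg2.red A) (FractionRing (CAlg2.red A)))) =
      (algebraMap (CAlg2.red A') (FractionRing (CAlg2.red A'))).comp r.toRingHom := RingHom.ext hF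
  have hmap : ∀ c : CAlg2.normRed A,
      F (c : FractionRing (CAlg2.red A)) ∈ integralClosure (CAlg2.red A') (FractionRing (CAlg2.red A')) := by
    intro c
    obtain ⟨p, hp, hp0⟩ := c.2
    refine ⟨p.map r.toRingHom, hp.map _, ?_⟩
    rw [Polynomial.eval₂_map, ← hcomp]
    show Polynomial.eval₂ _ (F.toRingHom _) p = 0
    rw [← Polynomial.hom_eval₂, hp0, map_zero]
  let g : CAlg2.normRed A →+* CAlg2.normRed A' :=
    ((F.toRingHom).comp (integralClosure (CAlg2.red A) (FractionRing (CAlg2.red A))).val.toRingHom).codRestrict _ hmap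
  haveI : IsLocalRing (CAlg2.normRed A) := h.2
  haveI : Nontrivial (CAlg2.normRed A') := inferInstance
  refine IsLocalRing.of_surjective' g fun c => ?_
  obtain ⟨p, hp, hp0⟩ := c.2
  refine ⟨⟨F.symm c, p.map r.symm.toRingHom, hp.map _, F.injective ?_⟩, Subtype.ext (F.apply_symm_apply _)⟩
  rw [map_zero, Polynomial.eval₂_map]
  refine Eq.trans ?_ hp0
  show F.toRingHom _ = _
  rw [Polynomial.hom_eval₂, ← RingHom.comp_assoc, hcomp]
  refine congrArg₂ (fun f x => Polynomial.eval₂ f x p) (RingHom.ext fun a => ?_) (F.apply_symm_apply _)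
  show algebraMap _ _ (r (r.symm a)) = _
  rw [r.apply_symm_apply]

theorem hasUniqueMinimalPrime_iff_card {S : Type u} [CommRing S] :
    CAlgX.HasUniqueMinimalPrime S ↔ ENat.card (minimalPrimes S) = 1 := by
  unfold CAlgX.HasUniqueMinimalPrime
  rw [ENat.card_eq_one_iff_unique]
  constructor
  · rintro ⟨x, hx, hu⟩
    exact ⟨⟨⟨⟨x, hx⟩⟩, fun a => Subtype.ext (hu a.1 a.2)⟩⟩
  · rintro ⟨hs⟩
    exact ⟨hs.default.1, hs.default.2, fun y hy => congrArg Subtype.val (hs.uniq ⟨y, hy⟩)⟩

/-- Contraction along a faithfully flat map is bijective on minimal primes when every minimal prime extends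
to an ideal with one minimal prime over it. -/
theorem bijOn_minimalPrimes_of_unique {A B : Type u} [CommRing A] [CommRing B] [Algebra A B]
    [Module.FaithfullyFlat A B]
    (huniq : ∀ P ∈ minimalPrimes A, CAlgX.HasUniqueMinimalPrime (B ⧸ P.map (algebraMap A B))) :
    Set.BijOn (Ideal.comap (algebraMap A B)) (minimalPrimes B) (minimalPrimes A) := by
  have hmaps : Set.MapsTo (Ideal.comap (algebraMap A B)) (minimalPrimes B) (minimalPrimes A) := fun Q hQ => by
    haveI := hQ.1.1
    haveI : (Q.comap (algebraMap A B)).IsPrime := Ideal.IsPrime.comap _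
    refine ⟨⟨inferInstance, bot_le⟩, fun P ⟨hP, _⟩ hle => ?_⟩
    haveI := hP
    haveI : Q.LiesOver (Q.comap (algebraMap A B)) := ⟨rfl⟩
    obtain ⟨Q', hQ'le, hQ', ho⟩ := Ideal.exists_ideal_le_liesOver_of_le (p := P) (q := Q.comap (algebraMap A B)) Q hle
    rw [ho.over]
    exact Ideal.comap_mono (hQ.2 ⟨hQ', bot_le⟩ hQ'le)
  refine ⟨hmaps, fun Q hQ Q' hQ' h => ?_, fun P hP => ?_⟩
  · let I := (Q.comap (algebraMap A B)).map (algebraMap A B)
    have hmin : ∀ T ∈ minimalPrimes B, I ≤ T → T.map (Ideal.Quotient.mk I) ∈ minimalPrimes (B ⧸ I) := by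
      intro T hT hle
      haveI := hT.1.1
      haveI : (T.map (Ideal.Quotient.mk I)).IsPrime :=
        Ideal.map_isPrime_of_surjective Ideal.Quotient.mk_surjective (by rwa [Ideal.mk_ker])
      refine ⟨⟨inferInstance, bot_le⟩, fun U ⟨hU, _⟩ hUle => ?_⟩
      haveI := hU
      have h1 : U.comap (Ideal.Quotient.mk I) ≤ T := (Ideal.comap_mono hUle).trans
        (by rw [Ideal.comap_map_of_surjective _ Ideal.Quotient.mk_surjective, ← RingHom.ker_eq_comap_bot,
          Ideal.mk_ker, sup_eq_left.2 hle])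
      exact Ideal.map_le_iff_le_comap.2 (hT.2 ⟨Ideal.IsPrime.comap _, bot_le⟩ h1)
    have h1 : I ≤ Q := Ideal.map_comap_le
    have h2 : I ≤ Q' := Ideal.map_le_iff_le_comap.2 h.le
    obtain ⟨z, -, hz⟩ := huniq _ (hmaps hQ)
    have := (hz _ (hmin Q hQ h1)).trans (hz _ (hmin Q' hQ' h2)).symm
    calc Q = (Q.map (Ideal.Quotient.mk I)).comap (Ideal.Quotient.mk I) := by
          rw [Ideal.comap_map_of_surjective _ Ideal.Quotient.mk_surjective, ← RingHom.ker_eq_comap_bot,
            Ideal.mk_ker, sup_eq_left.2 h1]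
      _ = Q' := by
          rw [this, Ideal.comap_map_of_surjective _ Ideal.Quotient.mk_surjective, ← RingHom.ker_eq_comap_bot,
            Ideal.mk_ker, sup_eq_left.2 h2]
  · haveI := hP.1.1
    obtain ⟨Q, hQ⟩ := PrimeSpectrum.comap_surjective_of_faithfullyFlat (B := B) (⟨P, hP.1.1⟩ : PrimeSpectrum A)
    obtain ⟨Q', hQ', hle⟩ := Ideal.exists_minimalPrimes_le (I := (⊥ : Ideal B)) (J := Q.asIdeal) bot_le
    haveI := hQ'.1.1
    haveI : (Q'.comap (algebraMap A B)).IsPrime := Ideal.IsPrime.comap _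
    have hle' : Q'.comap (algebraMap A B) ≤ P := (Ideal.comap_mono hle).trans (congr(($hQ).asIdeal)).le
    exact ⟨Q', hQ', le_antisymm hle' (hP.2 ⟨inferInstance, bot_le⟩ hle')⟩

/-- The quotient of a strict henselization is a strict henselization of the quotient. -/
theorem isStrictHenselization_quotient {A S : Type u} [CommRing A] [IsLocalRing A] [CommRing S] [IsLocalRing S]
    [Algebra A S] [IsLocalHom (algebraMap A S)] [_root_.Hensel.IsStrictHenselization A S] (I : Ideal A)
    [IsLocalRing (A ⧸ I)] [IsLocalRing (S ⧸ I.map (algebraMap A S))]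
    [IsLocalHom (algebraMap (A ⧸ I) (S ⧸ I.map (algebraMap A S)))] :
    _root_.Hensel.IsStrictHenselization (A ⧸ I) (S ⧸ I.map (algebraMap A S)) := by
  let J := I.map (algebraMap A S)
  haveI : HenselianLocalRing S := _root_.Hensel.IsStrictHenselization.henselian (R := A)
  have hSC : IsSepClosure (ResidueField A) (ResidueField S) := _root_.Hensel.IsStrictHenselization.isSepClosure
  haveI : HenselianLocalRing (S ⧸ J) := Groth.Agent.Hensel.henselianLocalRing_of_isIntegral_local S (S ⧸ J)
  haveI : IsLocalHom (Ideal.Quotient.mk I) := .of_surjective _ Ideal.Quotient.mk_surjective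
  haveI : IsLocalHom (Ideal.Quotient.mk J) := .of_surjective _ Ideal.Quotient.mk_surjective
  let eA : ResidueField A ≃+* ResidueField (A ⧸ I) := RingEquiv.ofBijective (ResidueField.map (Ideal.Quotient.mk I))
    ⟨(ResidueField.map (Ideal.Quotient.mk I)).injective, fun z => by
      obtain ⟨z, rfl⟩ := residue_surjective z
      obtain ⟨a, rfl⟩ := Ideal.Quotient.mk_surjective z
      exact ⟨residue A a, ResidueField.map_residue _ a⟩⟩
  let eS : ResidueField S ≃+* ResidueField (S ⧸ J) := RingEquiv.ofBijective (ResidueField.map (Ideal.Quotient.mk J))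
    ⟨(ResidueField.map (Ideal.Quotient.mk J)).injective, fun z => by
      obtain ⟨z, rfl⟩ := residue_surjective z
      obtain ⟨a, rfl⟩ := Ideal.Quotient.mk_surjective z
      exact ⟨residue S a, ResidueField.map_residue _ a⟩⟩
  have hsq : ∀ x, algebraMap (ResidueField (A ⧸ I)) (ResidueField (S ⧸ J)) (eA x) =
      eS (algebraMap (ResidueField A) (ResidueField S) x) := fun x => by
    obtain ⟨a, rfl⟩ := residue_surjective x
    rfl
  refine ⟨inferInstance, ?_, fun T _ _ f _ τ hτ => ?_⟩
  · haveI := hSC.separable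
    haveI := hSC.sep_closed
    refine ⟨Groth.Agent.Hensel.isSepClosed_of_ringEquiv eS, ?_⟩
    exact Algebra.IsSeparable.of_equiv_equiv eA eS (RingHom.ext hsq)
  · haveI : IsLocalHom (f.comp (Ideal.Quotient.mk I)) := inferInstance
    obtain ⟨g, ⟨hg, hres⟩, huniq⟩ := _root_.Hensel.IsStrictHenselization.universal (R := A) (S := S) T
      (f.comp (Ideal.Quotient.mk I)) (τ.comp eS.toRingHom) (by
        refine RingHom.ext fun x => ?_
        obtain ⟨a, rfl⟩ := residue_surjective x
        exact RingHom.congr_fun hτ (residue _ (Ideal.Quotient.mk I a)))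
    have hJ : J ≤ RingHom.ker g := Ideal.map_le_iff_le_comap.2 fun a ha => by
      rw [Ideal.mem_comap, RingHom.mem_ker, ← RingHom.comp_apply, hg, RingHom.comp_apply,
        Ideal.Quotient.eq_zero_iff_mem.2 ha, map_zero]
    refine ⟨Ideal.Quotient.lift J g fun x hx => hJ hx, ⟨RingHom.ext fun z => ?_, fun z => ?_⟩, fun g' hg' => ?_⟩
    · obtain ⟨a, rfl⟩ := Ideal.Quotient.mk_surjective z
      exact RingHom.congr_fun hg a
    · obtain ⟨s, rfl⟩ := Ideal.Quotient.mk_surjective z
      exact hres s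
    · have : g'.comp (Ideal.Quotient.mk J) = g := huniq _ ⟨RingHom.ext fun a => by
        exact RingHom.congr_fun hg'.1 (Ideal.Quotient.mk I a), fun s => hg'.2 (Ideal.Quotient.mk J s)⟩
      exact Ideal.Quotient.ringHom_ext (this.trans (RingHom.ext fun s => rfl))

section smooth

variable (R S : Type u) [CommRing R] [CommRing S] [Algebra R S] {Rh : Type u} [CommRing Rh] [IsLocalRing Rh]
  [Algebra R Rh] (P : Ideal Rh) [P.IsPrime] (Q : Ideal (Rh ⊗[R] S)) [Q.IsPrime]

local notation "iL" => (Algebra.TensorProduct.includeLeftRingHom : Rh →+* Rh ⊗[R] S)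

/-- The reduction of the base change modulo a prime of the base. -/
abbrev redBase : Rh ⊗[R] S →ₐ[R] (Rh ⧸ P) ⊗[R] S :=
  Algebra.TensorProduct.map (Ideal.Quotient.mkₐ R P) (AlgHom.id R S)

theorem redBase_surjective : Function.Surjective (redBase R S P) :=
  TensorProduct.map_surjective Ideal.Quotient.mk_surjective Function.surjective_id

theorem ker_redBase : RingHom.ker (redBase R S P) = P.map iL := by
  have h := Algebra.TensorProduct.rTensor_ker (R := R) (S := R) (C := S) (Ideal.Quotient.mkₐ R P) Ideal.Quotient.mk_surjective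
  refine h.trans ?_
  rw [show RingHom.ker (Ideal.Quotient.mkₐ R P) = P from Ideal.mk_ker]
  rfl

/-- Localizing commutes with reducing modulo a prime of the base. -/
theorem exists_redBase_equiv (hP : P.map iL ≤ Q) :
    ∃ (Q' : Ideal ((Rh ⧸ P) ⊗[R] S)) (_ : Q'.IsPrime), Q'.comap (redBase R S P) = Q ∧
      Nonempty (Localization.AtPrime Q ⧸ P.map ((algebraMap (Rh ⊗[R] S) (Localization.AtPrime Q)).comp iL) ≃+*
        Localization.AtPrime Q') := by
  let ψ : Rh ⊗[R] S →+* (Rh ⧸ P) ⊗[R] S := (redBase R S P).toRingHom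
  have hψ : Function.Surjective ψ := redBase_surjective R S P
  have hker : RingHom.ker ψ = P.map iL := ker_redBase R S P
  let Q' := Q.map ψ
  haveI hQ'p : Q'.IsPrime := Ideal.map_isPrime_of_surjective hψ (hker ▸ hP)
  have hQ'c : Q'.comap ψ = Q := by
    rw [Ideal.comap_map_of_surjective _ hψ, ← RingHom.ker_eq_comap_bot, hker, sup_eq_left.2 hP]
  let L := Localization.AtPrime Q
  let L' := Localization.AtPrime Q'
  let lr : L →+* L' := Localization.localRingHom Q Q' ψ hQ'c.symm
  let I : Ideal L := P.map ((algebraMap (Rh ⊗[R] S) L).comp iL)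
  have hI : I = (RingHom.ker ψ).map (algebraMap (Rh ⊗[R] S) L) := by rw [hker, Ideal.map_map]
  have hkerlr : RingHom.ker lr = I := by
    refine le_antisymm (fun x hx => ?_) (hI ▸ Ideal.map_le_iff_le_comap.2 fun d hd => ?_)
    · obtain ⟨a, s, rfl⟩ := IsLocalization.exists_mk'_eq Q.primeCompl x
      rw [RingHom.mem_ker, Localization.localRingHom_mk'] at hx
      obtain ⟨m', hm'⟩ := (IsLocalization.mk'_eq_zero_iff _ _).1 hx
      obtain ⟨m, hm⟩ := hψ (m' : (Rh ⧸ P) ⊗[R] S)
      have hmQ : m ∉ Q := fun h => m'.2 (by rw [← hQ'c] at h; exact hm ▸ h)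
      rw [hI, IsLocalization.mem_map_algebraMap_iff Q.primeCompl]
      refine ⟨⟨⟨m * a, by rw [RingHom.mem_ker, map_mul, hm]; exact hm'⟩, ⟨m, hmQ⟩ * s⟩, ?_⟩
      show IsLocalization.mk' L a s * algebraMap _ L (m * s) = algebraMap _ L (m * a)
      rw [map_mul, mul_left_comm, IsLocalization.mk'_spec, map_mul]
    · rw [Ideal.mem_comap, RingHom.mem_ker]
      show lr (algebraMap _ L d) = 0
      rw [Localization.localRingHom_to_map, RingHom.mem_ker.1 hd, map_zero]
  have hlr : Function.Surjective lr := fun z => by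
    obtain ⟨a', m', rfl⟩ := IsLocalization.exists_mk'_eq Q'.primeCompl z
    obtain ⟨a, rfl⟩ := hψ a'
    obtain ⟨m, hm⟩ := hψ (m' : (Rh ⧸ P) ⊗[R] S)
    have hmQ : m ∉ Q := fun h => m'.2 (by rw [← hQ'c] at h; exact hm ▸ h)
    refine ⟨IsLocalization.mk' L a (⟨m, hmQ⟩ : Q.primeCompl), ?_⟩
    rw [Localization.localRingHom_mk']
    congr 1
    exact Subtype.ext hm
  exact ⟨Q', hQ'p, hQ'c,
    ⟨(Ideal.quotEquivOfEq hkerlr.symm).trans (RingHom.quotientKerEquivOfSurjective hlr)⟩⟩

end smooth

end Groth.Agent.BrnchLib
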