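import Groth.Agent.AlgSpDec.EtHenzField
import Groth.Agent.Hensel.HenselizationProps
import Groth.Agent.Hensel.TensorHenzFinite
import Groth.Agent.BrnchLib.LeCompletion
import Groth.Agent.BrnchLib.SmoothBranch
import Groth.Agent.ZClosLib.PurityDescent
import Groth.Agent.S13598

/-!
# The universal etale neighbourhood and branches modulo an ideal

For a localization `R` of `A` at a prime and a field `K` under its residue field, the colimit `Henz A K` is
faithfully flat over the local ring of each etale `A`-algebra at a point with values in `K`.  Its minimal primes over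
an ideal `J` of `R` count the branches, or geometric branches, of `R ⧸ J`.
-/

universe u

set_option linter.style.haveILetI false

noncomputable section

open IsLocalRing
open Groth.Agent.Hensel (Henz)

namespace Groth.Agent.BrnchLib.EtNbhd

section Local

variable (A : Type u) [CommRing A] (K : Type u) [Field K] [Algebra A K]

/-- An etale algebra maps to the neighbourhood in at most one way over a given point. -/
theorem algHom_ext {B : Type u} [CommRing B] [Algebra A B] [Algebra.Etale A B] (f g : B →ₐ[A] Henz A K)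
    (h : ∀ b, Henz.proj A K (f b) = Henz.proj A K (g b)) : f = g :=
  Groth.Agent.Hensel.algHom_ext_of_isUnit (Henz.proj A K).toRingHom (fun _ ht => Henz.isUnit_of_proj_eq_one ht)
    f g h

/-- The local ring of an etale neighbourhood maps faithfully flatly. -/
theorem exists_ff (B : Type u) [CommRing B] [Algebra A B] [Algebra.Etale A B] (τ : B →ₐ[A] K)
    (q : Ideal B) [q.IsPrime] (hq : ∀ b, τ b = 0 ↔ b ∈ q)
    (P : Type u) [CommRing P] [IsLocalRing P] [Algebra B P] [IsLocalization.AtPrime P q] :
    ∃ σ : P →+* Henz A K, (letI := σ.toAlgebra; Module.FaithfullyFlat P (Henz A K)) ∧ IsLocalHom σ ∧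
      ∀ b, σ (algebraMap B P b) = Henz.ofNbhd B τ b := by
  let χ := Henz.ofNbhd B τ
  have hu : ∀ y : q.primeCompl, IsUnit (χ.toRingHom y) := fun y => by
    rw [AlgSpDec.EtHenz.isUnit_iff]
    show Henz.proj A K (Henz.ofNbhd B τ y) ≠ 0
    rw [Henz.proj_ofNbhd]
    exact fun h => y.2 ((hq _).1 h)
  let σ : P →+* Henz A K := IsLocalization.lift (M := q.primeCompl) hu
  have hσ : ∀ b, σ (algebraMap B P b) = χ b := fun b => IsLocalization.lift_eq _ _
  letI : Algebra B (Henz A K) := χ.toRingHom.toAlgebra
  haveI : IsScalarTower A B (Henz A K) := .of_algebraMap_eq fun a => (χ.commutes a).symm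
  letI : Algebra P (Henz A K) := σ.toAlgebra
  haveI : IsScalarTower B P (Henz A K) := .of_algebraMap_eq fun b => (hσ b).symm
  haveI : Module.Flat B (Henz A K) := ZClosLib.PurityBC.flat_of_formallyUnramified A B (Henz A K)
  haveI : Algebra.FormallyUnramified B P := Algebra.FormallyUnramified.of_isLocalization q.primeCompl
  haveI : Algebra.EssFiniteType B P := Algebra.EssFiniteType.of_isLocalization P q.primeCompl
  haveI : Module.Flat P (Henz A K) := ZClosLib.PurityBC.flat_of_formallyUnramified B P (Henz A K)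
  haveI hl : IsLocalHom σ := ⟨fun r hr => by
    obtain ⟨⟨b, s⟩, e⟩ := IsLocalization.surj q.primeCompl r
    have h1 : IsUnit (χ b) := by
      rw [← hσ, ← e, map_mul]
      exact hr.mul ((IsLocalization.map_units P s).map σ)
    rw [AlgSpDec.EtHenz.isUnit_iff] at h1
    have hb : b ∈ q.primeCompl := fun hb => h1 (by
      show Henz.proj A K (Henz.ofNbhd B τ b) = 0
      rw [Henz.proj_ofNbhd]
      exact (hq b).2 hb)
    have h2 := IsLocalization.map_units P (⟨b, hb⟩ : q.primeCompl)
    rw [show algebraMap B P (⟨b, hb⟩ : q.primeCompl) = algebraMap B P b from rfl, ← e] at h2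
    exact isUnit_of_mul_isUnit_left h2⟩
  haveI : IsLocalHom (algebraMap P (Henz A K)) := hl
  exact ⟨σ, Module.FaithfullyFlat.of_flat_of_isLocalHom, hl, hσ⟩

/-- Finitely many elements are fractions from one etale neighbourhood. -/
theorem exists_fractions (Z : Finset (Henz A K)) :
    ∃ (B : Type u) (_ : CommRing B) (_ : Algebra A B) (_ : Algebra.Etale A B) (τ : B →ₐ[A] K),
      ∀ z ∈ Z, ∃ b s : B, τ s ≠ 0 ∧ z * Henz.ofNbhd B τ s = Henz.ofNbhd B τ b := by
  obtain ⟨N, -, hN⟩ := Henz.exists_of_finset (R := A) (K := K) (Classical.arbitrary _) Z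
  refine ⟨N.B, inferInstance, inferInstance, inferInstance, N.toK, fun z hz => ?_⟩
  have hof : ∀ b, Henz.ofNbhd N.B N.toK b = Henz.of N (algebraMap N.B N.Stage b) := fun b => by
    refine congr($(algHom_ext A K (Henz.ofNbhd N.B N.toK)
      ((Henz.of N).comp (IsScalarTower.toAlgHom A N.B N.Stage)) fun c => ?_) b)
    simp
  obtain ⟨x, rfl⟩ := hN z hz
  obtain ⟨⟨b, s⟩, e⟩ := IsLocalization.surj N.S x
  exact ⟨b, s, IsUnit.ne_zero (s.2 : IsUnit (N.toK s)), by rw [hof, hof, ← map_mul, e]⟩

variable (R : Type u) [CommRing R] [IsLocalRing R] [Algebra A R] [Algebra R K] [IsScalarTower A R K]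
  [IsLocalHom (algebraMap R K)] (M : Submonoid A) [IsLocalization M R]

/-- Without residue field extension the colimit is a henselization. -/
theorem isHenselization (hK : Function.Surjective (algebraMap R K)) :
    letI := (AlgSpDec.EtHenz.fromLocal A R K M).toRingHom.toAlgebra
    ∃ _ : IsLocalHom (algebraMap R (Henz A K)), _root_.Hensel.IsHenselization R (Henz A K) := by
  let fl := AlgSpDec.EtHenz.fromLocal A R K M
  letI := fl.toRingHom.toAlgebra
  have hp : ∀ r, Henz.proj A K (algebraMap R (Henz A K) r) = algebraMap R K r :=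
    AlgSpDec.EtHenz.proj_fromLocal A R K M
  haveI hl : IsLocalHom (algebraMap R (Henz A K)) := ⟨fun r hr => by
    refine (isUnit_map_iff (algebraMap R K) r).1 ?_
    rw [← hp]
    exact hr.map _⟩
  refine ⟨hl, ?_⟩
  let L := Groth.Agent.Hensel.LocalHenz R
  obtain ⟨G, hG, -⟩ := (inferInstance : _root_.Hensel.IsHenselization R L).universal (Henz A K)
    (algebraMap R (Henz A K)) hl
  have hGl : ∀ y ∈ maximalIdeal L, G y ∈ maximalIdeal (Henz A K) := by
    rw [← Groth.Agent.Hensel.map_maximalIdeal_henz (R := R) (L := ResidueField R)]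
    intro y hy
    have h := Ideal.mem_map_of_mem G hy
    rw [Ideal.map_map, hG] at h
    have h2 : (maximalIdeal R).map (algebraMap R (Henz A K)) ≤ maximalIdeal (Henz A K) :=
      ((IsLocalRing.local_hom_TFAE (algebraMap R (Henz A K))).out 0 2).1 hl
    exact h2 h
  letI : Algebra A L := ((algebraMap R L).comp (algebraMap A R)).toAlgebra
  haveI : HenselianRing L (maximalIdeal L) :=
    (Groth.Agent.Hensel.henselianRing_maximalIdeal_iff L).2 inferInstance
  have hker : ∀ r, algebraMap R K r = 0 → algebraMap R L r ∈ maximalIdeal L := fun r hr => by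
    have h1 : r ∈ maximalIdeal R := by
      by_contra hu
      exact ((IsLocalRing.notMem_maximalIdeal.1 hu).map (algebraMap R K)).ne_zero hr
    exact map_nonunit (algebraMap R L) r h1
  let θ₀ : K →+* L ⧸ maximalIdeal L :=
    RingHom.liftOfSurjective (algebraMap R K) hK ⟨(Ideal.Quotient.mk _).comp (algebraMap R L), fun r hr =>
      RingHom.mem_ker.2 (Ideal.Quotient.eq_zero_iff_mem.2 (hker r hr))⟩
  have hθ₀ : ∀ r, θ₀ (algebraMap R K r) = Ideal.Quotient.mk _ (algebraMap R L r) := fun r =>
    RingHom.liftOfSurjective_comp_apply (algebraMap R K) hK _ r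
  let θ : K →ₐ[A] L ⧸ maximalIdeal L := { θ₀ with
    commutes' := fun a => by
      show θ₀ (algebraMap A K a) = _
      rw [IsScalarTower.algebraMap_apply A R K, hθ₀]
      rfl }
  obtain ⟨F, hF, -⟩ := Henz.existsUnique_lift (R := A) (K := K) (maximalIdeal L)
    (θ.comp (Henz.proj A K).range.val)
  have hFG : F.toRingHom.comp G = RingHom.id L := by
    refine ((inferInstance : _root_.Hensel.IsHenselization R L).universal L (algebraMap R L) inferInstance).unique
      ?_ (RingHom.id_comp _)
    rw [RingHom.comp_assoc, hG]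
    refine IsLocalization.ringHom_ext M (RingHom.ext fun a => ?_)
    show F (fl (algebraMap A R a)) = algebraMap R L (algebraMap A R a)
    rw [fl.commutes, F.commutes]
    rfl
  let GA : L →ₐ[A] Henz A K := { G with
    commutes' := fun a => (congr($hG (algebraMap A R a))).trans (fl.commutes a) }
  have hproj : ∀ z, Henz.proj A K (G (F z)) = Henz.proj A K z := fun z => by
    obtain ⟨r, hr⟩ := hK (Henz.proj A K z)
    have h2 : F z - algebraMap R L r ∈ maximalIdeal L := by
      rw [← Ideal.Quotient.eq]
      refine (hF z).trans ?_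
      show θ₀ (Henz.proj A K z) = _
      rw [← hr, hθ₀]
    have h1 := hGl _ h2
    rw [map_sub, AlgSpDec.EtHenz.maximalIdeal_eq, RingHom.mem_ker, map_sub, sub_eq_zero,
      show G (algebraMap R L r) = algebraMap R (Henz A K) r from congr($hG r), hp, hr] at h1
    exact h1
  have hGF : GA.comp F = AlgHom.id A (Henz A K) :=
    Henz.algHom_ext fun N => Groth.Agent.Hensel.Nbhd.hom_ext (Henz.proj A K).toRingHom
      (fun _ ht => Henz.isUnit_of_proj_eq_one ht) _ _ fun b => hproj _
  let e₀ : L ≃+* Henz A K := RingEquiv.ofRingHom G F.toRingHom (RingHom.ext fun z => congr($hGF z)) hFG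
  let e : L ≃ₐ[R] Henz A K := AlgEquiv.ofRingEquiv (f := e₀) fun r => congr($hG r)
  exact Groth.Agent.Hensel.isHenselization_of_algEquiv R (Henz A K) e

end Local

section Count

variable {S T : Type u} [CommRing S] [CommRing T] (ψ : S →+* T)

/-- A minimal prime over an extended ideal contracts to a minimal prime over the ideal. -/
theorem comap_mem (hψ : letI := ψ.toAlgebra; Module.FaithfullyFlat S T) (J : Ideal S) {P : Ideal T}
    (hP : P ∈ (J.map ψ).minimalPrimes) : P.comap ψ ∈ J.minimalPrimes := by
  letI := ψ.toAlgebra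
  haveI := hψ
  haveI := hP.1.1
  refine ⟨⟨Ideal.IsPrime.comap ψ, Ideal.map_le_iff_le_comap.1 hP.1.2⟩, fun q ⟨hq, hJq⟩ hle => ?_⟩
  haveI := hq
  haveI : P.LiesOver (P.comap ψ) := ⟨rfl⟩
  obtain ⟨P', hP'le, hP', ho⟩ := Ideal.exists_ideal_le_liesOver_of_le (p := q) (q := P.comap ψ) P hle
  rw [ho.over]
  refine Ideal.comap_mono (hP.2 ⟨hP', Ideal.map_le_iff_le_comap.2 ?_⟩ hP'le)
  exact hJq.trans ho.over.le

theorem encard_le (hψ : letI := ψ.toAlgebra; Module.FaithfullyFlat S T) (J : Ideal S) :
    J.minimalPrimes.encard ≤ (J.map ψ).minimalPrimes.encard := by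
  refine (Set.encard_le_encard (t := Ideal.comap ψ '' (J.map ψ).minimalPrimes) fun q hq => ?_).trans
    (Set.encard_image_le _ _)
  letI := ψ.toAlgebra
  haveI := hψ
  obtain ⟨Q, hQ⟩ := PrimeSpectrum.comap_surjective_of_faithfullyFlat (B := T) (⟨q, hq.1.1⟩ : PrimeSpectrum S)
  have hQ' : Q.asIdeal.comap ψ = q := congr(($hQ).asIdeal)
  obtain ⟨P, hP, hPle⟩ := Ideal.exists_minimalPrimes_le (I := J.map ψ) (J := Q.asIdeal)
    (Ideal.map_le_iff_le_comap.2 (hq.1.2.trans hQ'.ge))
  haveI := hP.1.1
  exact ⟨P, hP, le_antisymm ((Ideal.comap_mono hPle).trans hQ'.le)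
    (hq.2 (comap_mem ψ hψ J hP).1 ((Ideal.comap_mono hPle).trans hQ'.le))⟩

/-- Minimal primes over an ideal are those of the quotient. -/
theorem encard_quotient (I : Ideal S) : (minimalPrimes (S ⧸ I)).encard = I.minimalPrimes.encard := by
  rw [Ideal.minimalPrimes_eq_comap,
    (Ideal.comap_injective_of_surjective _ Ideal.Quotient.mk_surjective).encard_image]

theorem encard_congr (e : S ≃+* T) : (minimalPrimes S).encard = (minimalPrimes T).encard := by
  have hf : ∀ {A B : Type u} [CommRing A] [CommRing B] (f : A ≃+* B),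
      (minimalPrimes A).encard ≤ (minimalPrimes B).encard := fun {A B} _ _ f => by
    letI : Algebra A B := f.toRingHom.toAlgebra
    haveI : Module.FaithfullyFlat A B := Module.FaithfullyFlat.of_linearEquiv A A
      (AlgEquiv.ofRingEquiv (f := f) fun _ => rfl : A ≃ₐ[A] B).toLinearEquiv.symm
    have := encard_le (f : A →+* B) (by assumption) ⊥
    rwa [Ideal.map_bot] at this
  exact le_antisymm (hf e) (hf e.symm)

end Count

section Branches

theorem isLocalHom_quotient (O S : Type u) [CommRing O] [CommRing S] [Algebra O S]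
    [IsLocalHom (algebraMap O S)] [IsLocalRing S] (J : Ideal O) (hne : J.map (algebraMap O S) ≠ ⊤) :
    IsLocalHom (algebraMap (O ⧸ J) (S ⧸ J.map (algebraMap O S))) := ⟨fun x hx => by
  obtain ⟨a, rfl⟩ := Ideal.Quotient.mk_surjective x
  haveI : Nontrivial (S ⧸ J.map (algebraMap O S)) := Ideal.Quotient.nontrivial_iff.2 hne
  haveI : IsLocalHom (Ideal.Quotient.mk (J.map (algebraMap O S))) := .of_surjective _ Ideal.Quotient.mk_surjective
  exact ((isUnit_map_iff (algebraMap O S) a).1 ((isUnit_map_iff (Ideal.Quotient.mk _) _).1 hx)).map _⟩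

theorem map_ne_top (O S : Type u) [CommRing O] [IsLocalRing O] [CommRing S] [IsLocalRing S] [Algebra O S]
    [IsLocalHom (algebraMap O S)] (J : Ideal O) (hJ : J ≤ maximalIdeal O) : J.map (algebraMap O S) ≠ ⊤ := fun h =>
  (maximalIdeal.isMaximal S).ne_top (top_le_iff.1 (h.ge.trans ((Ideal.map_mono hJ).trans
    (((IsLocalRing.local_hom_TFAE (algebraMap O S)).out 0 2).1 ‹_›))))

theorem le_maximalIdeal_of_isLocalRing {O : Type u} [CommRing O] [IsLocalRing O] (J : Ideal O)
    [IsLocalRing (O ⧸ J)] : J ≤ maximalIdeal O :=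
  IsLocalRing.le_maximalIdeal (Ideal.Quotient.nontrivial_iff.1 inferInstance)

/-- The branches of a quotient are counted in a henselization. -/
theorem encard_eq_numBranches (O S : Type u) [CommRing O] [IsLocalRing O] [CommRing S] [IsLocalRing S] [Algebra O S]
    [IsLocalHom (algebraMap O S)] [_root_.Hensel.IsHenselization O S] (J : Ideal O) [IsLocalRing (O ⧸ J)] :
    (J.map (algebraMap O S)).minimalPrimes.encard = Brnch.numBranches (O ⧸ J) := by
  have hne := map_ne_top O S J (le_maximalIdeal_of_isLocalRing J)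
  haveI : Nontrivial (S ⧸ J.map (algebraMap O S)) := Ideal.Quotient.nontrivial_iff.2 hne
  haveI : IsLocalRing (S ⧸ J.map (algebraMap O S)) := IsLocalRing.of_surjective' _ Ideal.Quotient.mk_surjective
  haveI := isLocalHom_quotient O S J hne
  haveI := Groth.Agent.S13598.result (S := S) J (le_maximalIdeal_of_isLocalRing J)
  rw [← card_minimalPrimes_henselization (O ⧸ J) (S ⧸ J.map (algebraMap O S)), ← encard_quotient]
  rfl

/-- The geometric branches of a quotient are counted in a strict henselization. -/
theorem encard_eq_numGeomBranches (O S : Type u) [CommRing O] [IsLocalRing O] [CommRing S] [IsLocalRing S]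
    [Algebra O S] [IsLocalHom (algebraMap O S)] [_root_.Hensel.IsStrictHenselization O S] (J : Ideal O)
    [IsLocalRing (O ⧸ J)] :
    (J.map (algebraMap O S)).minimalPrimes.encard = Brnch.numGeomBranches (O ⧸ J) := by
  have hne := map_ne_top O S J (le_maximalIdeal_of_isLocalRing J)
  haveI : Nontrivial (S ⧸ J.map (algebraMap O S)) := Ideal.Quotient.nontrivial_iff.2 hne
  haveI : IsLocalRing (S ⧸ J.map (algebraMap O S)) := IsLocalRing.of_surjective' _ Ideal.Quotient.mk_surjective
  haveI := isLocalHom_quotient O S J hne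
  haveI := BrnchLib.isStrictHenselization_quotient (S := S) J
  rw [← card_minimalPrimes_strictHenselization (O ⧸ J) (S ⧸ J.map (algebraMap O S)), ← encard_quotient]
  rfl

theorem numBranches_congr {O O' : Type u} [CommRing O] [IsLocalRing O] [CommRing O'] [IsLocalRing O']
    (e : O ≃+* O') : Brnch.numBranches O = Brnch.numBranches O' := by
  let S := Groth.Agent.Hensel.LocalHenz O'
  letI : Algebra O S := ((algebraMap O' S).comp e.toRingHom).toAlgebra
  haveI : IsLocalHom e.toRingHom := ⟨fun a ha => by simpa using ha.map e.symm.toRingHom⟩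
  haveI hl : IsLocalHom (algebraMap O S) := RingHom.isLocalHom_comp (algebraMap O' S) e.toRingHom
  haveI : _root_.Hensel.IsHenselization O S := by
    refine ⟨inferInstance, fun T _ _ f hf => ?_⟩
    haveI : IsLocalHom e.symm.toRingHom := ⟨fun a ha => by simpa using ha.map e.toRingHom⟩
    obtain ⟨g, hg, hu⟩ := (inferInstance : _root_.Hensel.IsHenselization O' S).universal T
      (f.comp e.symm.toRingHom) (RingHom.isLocalHom_comp f e.symm.toRingHom)
    refine ⟨g, RingHom.ext fun a => ?_, fun g' hg' => hu g' (RingHom.ext fun a => ?_)⟩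
    · exact (congr($hg (e a))).trans (congrArg f (e.symm_apply_apply a))
    · show g' (algebraMap O' S a) = f (e.symm a)
      rw [← congr($hg' (e.symm a))]
      show _ = g' (algebraMap O' S (e (e.symm a)))
      rw [e.apply_symm_apply]
  rw [← card_minimalPrimes_henselization O S, card_minimalPrimes_henselization O' S]

theorem numGeomBranches_congr {O O' : Type u} [CommRing O] [IsLocalRing O] [CommRing O'] [IsLocalRing O']
    (e : O ≃+* O') : Brnch.numGeomBranches O = Brnch.numGeomBranches O' := by
  have hf : ∀ {A B : Type u} [CommRing A] [IsLocalRing A] [CommRing B] [IsLocalRing B] (f : A ≃+* B),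
      Brnch.numGeomBranches A ≤ Brnch.numGeomBranches B := fun {A B} _ _ _ _ f => by
    letI : Algebra A B := f.toRingHom.toAlgebra
    haveI : IsLocalHom (algebraMap A B) := ⟨fun a ha => (isUnit_map_iff f a).1 ha⟩
    haveI : Module.Flat A B := Module.Flat.of_linearEquiv
      (AlgEquiv.ofRingEquiv (f := f) fun _ => rfl : A ≃ₐ[A] B).toLinearEquiv.symm
    obtain ⟨S, _, _, _, _, hS⟩ := exists_strictHenselization A
    obtain ⟨T, _, _, _, _, hT⟩ := exists_strictHenselization B
    obtain ⟨g, -, -, hg⟩ := exists_faithfullyFlat_strict A B S T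
    rw [← card_minimalPrimes_strictHenselization A S, ← card_minimalPrimes_strictHenselization B T]
    exact card_le_of_surjOn g hg
  exact le_antisymm (hf e) (hf e.symm)

end Branches

end Groth.Agent.BrnchLib.EtNbhd
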