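import Groth.Agent.BrnchLib.EtNbhd
import Groth.Agent.FlatDvr.FibreStalk

/-!
# The counts of components over etale neighbourhoods
-/

set_option backward.isDefEq.respectTransparency false
set_option backward.isDefEq.respectTransparency.types false
set_option linter.style.haveILetI false

noncomputable section

universe u

open CategoryTheory Limits AlgebraicGeometry IsLocalRing

namespace Groth.Agent.BrnchLib.EtNbhd

theorem stMap_bot {U X : Scheme.{u}} (g : U ⟶ X) (u : U) {x : X} (hgu : g u = x) :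
    ((⊥ : Ideal (X.presheaf.stalk x)).map (stMap g u hgu)).minimalPrimes.encard =
      {Z : Set ↑U | Z ∈ irreducibleComponents ↑U ∧ u ∈ Z}.encard := by
  rw [Ideal.map_bot, encard_components_eq]

/-- The components of the fibre through the point over `u`. -/
theorem encard_fibre_components {U X S : Scheme.{u}} (g : U ⟶ X) (f : X ⟶ S) (u : U) {x : X} (hgu : g u = x) :
    {Z : Set ↑((g ≫ f).fiber (f x)) | Z ∈ irreducibleComponents ↑((g ≫ f).fiber (f x)) ∧
        ∃ u' ∈ Z, (g ≫ f).fiberι (f x) u' = u}.encard =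
      ((fibIdeal f x).map (stMap g u hgu)).minimalPrimes.encard := by
  subst hgu
  rw [stMap_rfl]
  let w : ↥((g ≫ f).fiber (f (g u))) := (g ≫ f).asFiber u
  have hw : (g ≫ f).fiberι (f (g u)) w = u := Scheme.Hom.fiberι_asFiber (g ≫ f) u
  have hset : {Z : Set ↑((g ≫ f).fiber (f (g u))) | Z ∈ irreducibleComponents ↑((g ≫ f).fiber (f (g u))) ∧
      ∃ u' ∈ Z, (g ≫ f).fiberι (f (g u)) u' = u} =
    {Z : Set ↑((g ≫ f).fiber (f (g u))) | Z ∈ irreducibleComponents ↑((g ≫ f).fiber (f (g u))) ∧ w ∈ Z} := by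
    ext Z
    refine and_congr_right fun _ => ⟨fun ⟨u', hu', he⟩ => ?_, fun h => ⟨w, h, hw⟩⟩
    rwa [((g ≫ f).fiberι (f (g u))).isEmbedding.injective (he.trans hw.symm)] at hu'
  rw [hset, encard_components_eq]
  have key : ∀ (y : S) (w : ↥((g ≫ f).fiber y)) (v : U), (g ≫ f).fiberι y w = v →
      (minimalPrimes (((g ≫ f).fiber y).presheaf.stalk w)).encard =
        ((fibIdeal f (g v)).map (g.stalkMap v).hom).minimalPrimes.encard := by
    rintro y w _ rfl
    rw [← encard_congr (RingHom.quotientKerEquivOfSurjective (((g ≫ f).fiberι y).stalkMap_surjective w)),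
      encard_quotient, FlatDvr.ker_stalkMap_fiberι (g ≫ f) w, Ideal.map_map]
    congr 3
    rw [Scheme.Hom.stalkMap_comp]
    rfl
  exact key _ w u hw

theorem numBranchesAt_fibre {X S : Scheme.{u}} (f : X ⟶ S) (x : X) [IsLocalRing (X.presheaf.stalk x ⧸ fibIdeal f x)] :
    Brnch.numBranchesAt (f.fiber (f x)) (f.asFiber x) = Brnch.numBranches (X.presheaf.stalk x ⧸ fibIdeal f x) ∧
      Brnch.numGeomBranchesAt (f.fiber (f x)) (f.asFiber x) =
        Brnch.numGeomBranches (X.presheaf.stalk x ⧸ fibIdeal f x) := by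
  have key : ∀ (y : S) (w : ↥(f.fiber y)) (v : X), f.fiberι y w = v →
      Nonempty ((f.fiber y).presheaf.stalk w ≃+* (X.presheaf.stalk v ⧸ fibIdeal f v)) := by
    rintro y w _ rfl
    exact ⟨((Ideal.quotEquivOfEq (FlatDvr.ker_stalkMap_fiberι f w).symm).trans
      (RingHom.quotientKerEquivOfSurjective ((f.fiberι y).stalkMap_surjective w))).symm⟩
  obtain ⟨e⟩ := key _ _ x (Scheme.Hom.fiberι_asFiber f x)
  exact ⟨numBranches_congr e, numGeomBranches_congr e⟩

theorem isLocalRing_bot {O : Type u} [CommRing O] [IsLocalRing O] : IsLocalRing (O ⧸ (⊥ : Ideal O)) :=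
  isLocalRing_quotient ⊥ bot_le

theorem one_le_encard_components (U : Scheme.{u}) (u : U) :
    1 ≤ {Z : Set ↑U | Z ∈ irreducibleComponents ↑U ∧ u ∈ Z}.encard :=
  Set.one_le_encard_iff_nonempty.2 ⟨irreducibleComponent u, irreducibleComponent_mem_irreducibleComponents u,
    mem_irreducibleComponent⟩

theorem numBranchesAt_eq_bot (X : Scheme.{u}) (x : X)
    [IsLocalRing (X.presheaf.stalk x ⧸ (⊥ : Ideal ↑(X.presheaf.stalk x)))] :
    Brnch.numBranchesAt X x = Brnch.numBranches (X.presheaf.stalk x ⧸ (⊥ : Ideal ↑(X.presheaf.stalk x))) ∧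
      Brnch.numGeomBranchesAt X x =
        Brnch.numGeomBranches (X.presheaf.stalk x ⧸ (⊥ : Ideal ↑(X.presheaf.stalk x))) :=
  ⟨numBranches_congr (RingEquiv.quotientBot _).symm, numGeomBranches_congr (RingEquiv.quotientBot _).symm⟩

theorem numBranchesAt_eq_iSup (X : Scheme.{u}) (x : X) :
    Brnch.numBranchesAt X x = ⨆ (U : Scheme.{u}) (g : U ⟶ X) (u : U) (_ : Hens2.IsEtaleNbhd g u x),
      {Z : Set ↑U | Z ∈ irreducibleComponents ↑U ∧ u ∈ Z}.encard := by
  haveI := isLocalRing_bot (O := X.presheaf.stalk x)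
  rw [(numBranchesAt_eq_bot X x).1]
  refine le_antisymm (ENat.forall_natCast_le_iff_le.1 fun n hn => ?_)
    (iSup_le fun U => iSup_le fun g => iSup_le fun u => iSup_le fun h => ?_)
  · obtain ⟨U, g, u, hgu, h, hn⟩ := elem_exists x ⊥ n hn
    rw [stMap_bot] at hn
    exact hn.trans (le_iSup_of_le U (le_iSup_of_le g (le_iSup_of_le u (le_iSup_of_le h le_rfl))))
  · haveI := h.etale
    rw [← stMap_bot g u h.base_eq]
    exact elem_le g u h.base_eq h.residue_bijective ⊥

theorem numGeomBranchesAt_eq_iSup (X : Scheme.{u}) (x : X) :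
    Brnch.numGeomBranchesAt X x = ⨆ (U : Scheme.{u}) (g : U ⟶ X) (u : U) (_ : Etale g ∧ g u = x),
      {Z : Set ↑U | Z ∈ irreducibleComponents ↑U ∧ u ∈ Z}.encard := by
  haveI := isLocalRing_bot (O := X.presheaf.stalk x)
  rw [(numBranchesAt_eq_bot X x).2]
  refine le_antisymm (ENat.forall_natCast_le_iff_le.1 fun n hn => ?_)
    (iSup_le fun U => iSup_le fun g => iSup_le fun u => iSup_le fun h => ?_)
  · obtain ⟨U, g, u, hgu, h, hn⟩ := geom_exists x ⊥ n hn
    rw [stMap_bot] at hn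
    exact hn.trans (le_iSup_of_le U (le_iSup_of_le g (le_iSup_of_le u (le_iSup_of_le ⟨h, hgu⟩ le_rfl))))
  · haveI := h.1
    rw [← stMap_bot g u h.2]
    exact geom_le g u h.2 ⊥

theorem numBranchesAt_fibre_eq_iSup {X S : Scheme.{u}} (f : X ⟶ S) (x : X) :
    Brnch.numBranchesAt (f.fiber (f x)) (f.asFiber x) = ⨆ (U : Scheme.{u}) (g : U ⟶ X) (u : U) (_ : Hens2.IsEtaleNbhd g u x),
      {Z : Set ↑((g ≫ f).fiber (f x)) | Z ∈ irreducibleComponents ↑((g ≫ f).fiber (f x)) ∧
        ∃ u' ∈ Z, (g ≫ f).fiberι (f x) u' = u}.encard := by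
  haveI := isLocalRing_quotient _ (fibIdeal_le f x)
  rw [(numBranchesAt_fibre f x).1]
  refine le_antisymm (ENat.forall_natCast_le_iff_le.1 fun n hn => ?_)
    (iSup_le fun U => iSup_le fun g => iSup_le fun u => iSup_le fun h => ?_)
  · obtain ⟨U, g, u, hgu, h, hn⟩ := elem_exists x (fibIdeal f x) n hn
    rw [← encard_fibre_components g f u hgu] at hn
    exact hn.trans (le_iSup_of_le U (le_iSup_of_le g (le_iSup_of_le u (le_iSup_of_le h le_rfl))))
  · haveI := h.etale
    rw [encard_fibre_components g f u h.base_eq]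
    exact elem_le g u h.base_eq h.residue_bijective _

theorem numGeomBranchesAt_fibre_eq_iSup {X S : Scheme.{u}} (f : X ⟶ S) (x : X) :
    Brnch.numGeomBranchesAt (f.fiber (f x)) (f.asFiber x) = ⨆ (U : Scheme.{u}) (g : U ⟶ X) (u : U) (_ : Etale g ∧ g u = x),
      {Z : Set ↑((g ≫ f).fiber (f x)) | Z ∈ irreducibleComponents ↑((g ≫ f).fiber (f x)) ∧
        ∃ u' ∈ Z, (g ≫ f).fiberι (f x) u' = u}.encard := by
  haveI := isLocalRing_quotient _ (fibIdeal_le f x)
  rw [(numBranchesAt_fibre f x).2]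
  refine le_antisymm (ENat.forall_natCast_le_iff_le.1 fun n hn => ?_)
    (iSup_le fun U => iSup_le fun g => iSup_le fun u => iSup_le fun h => ?_)
  · obtain ⟨U, g, u, hgu, h, hn⟩ := geom_exists x (fibIdeal f x) n hn
    rw [← encard_fibre_components g f u hgu] at hn
    exact hn.trans (le_iSup_of_le U (le_iSup_of_le g (le_iSup_of_le u (le_iSup_of_le ⟨h, hgu⟩ le_rfl))))
  · haveI := h.1
    rw [encard_fibre_components g f u h.2]
    exact geom_le g u h.2 _

end Groth.Agent.BrnchLib.EtNbhd
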