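import Groth.Agent.BrnchLib.SmoothCountMain
import Groth.Agent.BrnchLib.LeCompletion
import Groth.Agent.BrnchLib.EtNbhdAlg
import Groth.Agent.Hensel.HenselizationProps
import Groth.Agent.S2715
import Mathlib

/-! The number of geometric branches is invariant under extension of the ground field. -/

set_option autoImplicit false
set_option linter.style.haveILetI false
set_option linter.unusedSectionVars false

universe u

open IsLocalRing TensorProduct

namespace Groth.Agent.BrnchLib

theorem isLocalHom_of_comap_eq {A B : Type u} [CommRing A] [IsLocalRing A] [CommRing B] [IsLocalRing B]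
    (f : A →+* B) (h : (maximalIdeal B).comap f = maximalIdeal A) : IsLocalHom f :=
  ⟨fun a ha => by
    by_contra hu
    have : a ∈ maximalIdeal A := hu
    rw [← h] at this
    exact this ha⟩

/-- A strictly henselian local ring modulo a prime is geometrically unibranch. -/
theorem isGeomUnibranch_quotient_prime (S : Type u) [CommRing S] [HenselianLocalRing S]
    [IsSepClosed (ResidueField S)] (P : Ideal S) [P.IsPrime] [IsLocalRing (S ⧸ P)] :
    CAlg2.IsGeomUnibranch (S ⧸ P) := by
  haveI : HenselianLocalRing (S ⧸ P) :=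
    Groth.Agent.Hensel.henselianLocalRing_of_isIntegral_local S (S ⧸ P)
  haveI : IsLocalHom (Ideal.Quotient.mk P) := .of_surjective _ Ideal.Quotient.mk_surjective
  haveI : IsSepClosed (ResidueField (S ⧸ P)) :=
    Groth.Agent.Hensel.isSepClosed_of_ringEquiv (RingEquiv.ofBijective (ResidueField.map (Ideal.Quotient.mk P))
      ⟨RingHom.injective _, fun z => by
        obtain ⟨z, rfl⟩ := residue_surjective z
        obtain ⟨a, rfl⟩ := Ideal.Quotient.mk_surjective z
        exact ⟨residue S a, ResidueField.map_residue _ a⟩⟩)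
  exact Unib7.isGeomUnibranch_of_strictlyHenselian (S ⧸ P)

variable (k : Type u) [Field k] (K : Type u) [Field K] [Algebra k K]

/-- Localizing the base change of a strictly henselian local ring at a prime over the maximal ideal
does not change the number of geometric branches. -/
theorem numGeomBranches_baseChange_strictlyHenselian (S : Type u) [CommRing S] [Algebra k S]
    [HenselianLocalRing S] [IsSepClosed (ResidueField S)] (Qt : Ideal (S ⊗[k] K)) [Qt.IsPrime]
    (hQt : Qt.comap (algebraMap S (S ⊗[k] K)) = maximalIdeal S) :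
    Brnch.numGeomBranches (Localization.AtPrime Qt) = ENat.card (minimalPrimes S) := by
  let DQ := Localization.AtPrime Qt
  let E := Groth.Agent.Hensel.StrictHenz DQ
  rw [← card_minimalPrimes_strictHenselization DQ E]
  let iL : S →+* S ⊗[k] K := Algebra.TensorProduct.includeLeftRingHom
  let jD : S →+* DQ := (algebraMap (S ⊗[k] K) DQ).comp iL
  let h : S →+* E := (algebraMap DQ E).comp jD
  letI : Algebra S E := h.toAlgebra
  have hjD : jD.Flat := by
    have h1 : (algebraMap S (S ⊗[k] K)).Flat := RingHom.flat_algebraMap_iff.2 inferInstance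
    have h2 : (algebraMap (S ⊗[k] K) DQ).Flat :=
      RingHom.flat_algebraMap_iff.2 (IsLocalization.flat _ Qt.primeCompl)
    exact h1.comp h2
  haveI : IsLocalHom jD := isLocalHom_of_comap_eq jD (by
    show (maximalIdeal DQ).comap ((algebraMap (S ⊗[k] K) DQ).comp iL) = _
    rw [← Ideal.comap_comap,
      show (maximalIdeal DQ).comap (algebraMap (S ⊗[k] K) DQ) = Qt from
        IsLocalization.AtPrime.comap_maximalIdeal DQ Qt]
    exact hQt)
  haveI hff : Module.FaithfullyFlat DQ E := Groth.Agent.Hensel.faithfullyFlat_of_isStrictHenselization DQ E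
  haveI : IsLocalHom (algebraMap S E) :=
    inferInstanceAs (IsLocalHom ((algebraMap DQ E).comp jD))
  haveI : Module.Flat S E := RingHom.flat_algebraMap_iff.1 (hjD.comp (RingHom.flat_algebraMap_iff.2 inferInstance))
  haveI : Module.FaithfullyFlat S E := Module.FaithfullyFlat.of_flat_of_isLocalHom
  refine ENat.card_congr (Set.BijOn.equiv _ (bijOn_minimalPrimes_of_unique (A := S) (B := E) fun P hP => ?_))
  haveI := hP.1.1
  have hPle : P.map iL ≤ Qt := Ideal.map_le_iff_le_comap.2 ((IsLocalRing.le_maximalIdeal hP.1.1.ne_top).trans hQt.ge)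
  obtain ⟨Q', hQ'p, hQ', ⟨ε⟩⟩ := exists_redBase_equiv k K P Qt hPle
  let I : Ideal DQ := P.map jD
  rw [show P.map (algebraMap S E) = I.map (algebraMap DQ E) from (Ideal.map_map jD (algebraMap DQ E)).symm]
  haveI hloc : IsLocalRing (DQ ⧸ I) := ε.symm.isLocalRing
  have hI : I ≤ maximalIdeal DQ := IsLocalRing.le_maximalIdeal fun h =>
    not_subsingleton (DQ ⧸ I) (Ideal.Quotient.subsingleton_iff.2 h)
  have hJ : I.map (algebraMap DQ E) ≤ maximalIdeal E :=
    (Ideal.map_mono hI).trans (Ideal.map_le_iff_le_comap.2 (IsLocalRing.maximalIdeal_comap (algebraMap DQ E)).ge)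
  haveI : Nontrivial (E ⧸ I.map (algebraMap DQ E)) :=
    Ideal.Quotient.nontrivial_iff.2 (ne_top_of_le_ne_top (maximalIdeal.isMaximal E).ne_top hJ)
  haveI : IsLocalRing (E ⧸ I.map (algebraMap DQ E)) :=
    IsLocalRing.of_surjective' (Ideal.Quotient.mk _) Ideal.Quotient.mk_surjective
  haveI := isLocalHom_quotient (B := E) I
  haveI := isStrictHenselization_quotient (A := DQ) (S := E) I
  refine hasUniqueMinimalPrime_iff_card.2 ?_
  rw [card_minimalPrimes_strictHenselization (DQ ⧸ I) (E ⧸ I.map (algebraMap DQ E)), isGeomUnibranch_iff]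
  refine UnibEtale.isGeomUnibranch_of_ringEquiv (A := Localization.AtPrime Q') ε.symm ?_
  haveI : IsLocalRing (S ⧸ P) := IsLocalRing.of_surjective' (Ideal.Quotient.mk P) Ideal.Quotient.mk_surjective
  refine (S2715.result k (S ⧸ P) K Q' ?_).1 (isGeomUnibranch_quotient_prime S P)
  haveI : IsLocalHom (Ideal.Quotient.mk P) := .of_surjective _ Ideal.Quotient.mk_surjective
  ext x
  obtain ⟨a, rfl⟩ := Ideal.Quotient.mk_surjective x
  have e : algebraMap (S ⧸ P) ((S ⧸ P) ⊗[k] K) (Ideal.Quotient.mk P a) = redBase k K P (iL a) := by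
    simp [redBase, iL]
  rw [Ideal.mem_comap, e, ← Ideal.mem_comap, hQ']
  show a ∈ Qt.comap (algebraMap S (S ⊗[k] K)) ↔ _
  rw [hQt, IsLocalRing.mem_maximalIdeal, mem_nonunits_iff, IsLocalRing.mem_maximalIdeal, mem_nonunits_iff,
    isUnit_map_iff]

variable {R : Type u} [CommRing R] [Algebra k R]

/-- A prime of the base change has a lift to the base change of the strict henselization,
over its maximal ideal. -/
theorem exists_prime_tensor_strict (P : Ideal R) [P.IsPrime] (Q : Ideal (R ⊗[k] K)) [Q.IsPrime]
    (hQ : Q.comap (algebraMap R (R ⊗[k] K)) = P) (S : Type u) [CommRing S] [IsLocalRing S]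
    [Algebra (Localization.AtPrime P) S] [IsLocalHom (algebraMap (Localization.AtPrime P) S)]
    [Algebra.IsSeparable (ResidueField (Localization.AtPrime P)) (ResidueField S)] [Algebra k S]
    [IsScalarTower k (Localization.AtPrime P) S] (g : R →ₐ[k] S)
    (hg : ∀ r, g r = algebraMap (Localization.AtPrime P) S (algebraMap R (Localization.AtPrime P) r)) :
    ∃ Qt : Ideal (S ⊗[k] K), Qt.IsPrime ∧
      Qt.comap (Algebra.TensorProduct.map g (AlgHom.id k K)).toRingHom = Q ∧
      Qt.comap (algebraMap S (S ⊗[k] K)) = maximalIdeal S := by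
  let L := AlgebraicClosure Q.ResidueField
  let ι : R ⊗[k] K →+* L := (algebraMap Q.ResidueField L).comp (algebraMap (R ⊗[k] K) Q.ResidueField)
  have hι : RingHom.ker ι = Q := by
    rw [RingHom.ker_comp_of_injective _ (algebraMap Q.ResidueField L).injective, Ideal.ker_algebraMap_residueField]
  have hP : P = Ideal.comap (algebraMap R (R ⊗[k] K)) Q := hQ.symm
  let φ : ResidueField (Localization.AtPrime P) →+* L :=
    (algebraMap Q.ResidueField L).comp (Ideal.ResidueField.map P Q (algebraMap R (R ⊗[k] K)) hP)
  letI : Algebra (ResidueField (Localization.AtPrime P)) L := φ.toAlgebra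
  let τ : ResidueField S →ₐ[ResidueField (Localization.AtPrime P)] L := IsSepClosed.lift
  have hτ : ∀ r : R, τ (residue S (g r)) = ι (r ⊗ₜ[k] 1) := by
    intro r
    rw [hg]
    refine (τ.commutes (residue (Localization.AtPrime P) (algebraMap R _ r))).trans ?_
    show algebraMap Q.ResidueField L (Ideal.ResidueField.map P Q (algebraMap R (R ⊗[k] K)) hP
      (algebraMap R P.ResidueField r)) = _
    rw [Ideal.ResidueField.map_algebraMap]
    rfl
  letI : Algebra k L := (ι.comp (algebraMap k (R ⊗[k] K))).toAlgebra
  let α : S →ₐ[k] L :=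
    { τ.toRingHom.comp (residue S) with
      commutes' := fun c => by
        show τ (residue S (algebraMap k S c)) = ι (algebraMap k (R ⊗[k] K) c)
        rw [← g.commutes c, hτ]
        rfl }
  let β : K →ₐ[k] L :=
    { ι.comp (Algebra.TensorProduct.includeRight : K →ₐ[k] R ⊗[k] K).toRingHom with
      commutes' := fun c => by
        show ι (Algebra.TensorProduct.includeRight (R := k) (A := R) (algebraMap k K c)) = _
        rw [AlgHom.commutes]
        rfl }
  let ψ : S ⊗[k] K →ₐ[k] L := Algebra.TensorProduct.lift α β fun _ _ => Commute.all _ _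
  have hψ : ψ.toRingHom.comp (Algebra.TensorProduct.map g (AlgHom.id k K)).toRingHom = ι := by
    refine RingHom.ext fun x => ?_
    induction x using TensorProduct.induction_on with
    | zero => simp
    | add x y hx hy => rw [map_add, map_add, hx, hy]
    | tmul r x =>
      show ψ (g r ⊗ₜ[k] x) = ι (r ⊗ₜ[k] x)
      rw [Algebra.TensorProduct.lift_tmul]
      show τ (residue S (g r)) * ι ((1 : R) ⊗ₜ[k] x) = _
      rw [hτ, ← map_mul, Algebra.TensorProduct.tmul_mul_tmul, mul_one, one_mul]
  refine ⟨RingHom.ker ψ.toRingHom, RingHom.ker_isPrime _, ?_, ?_⟩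
  · rw [RingHom.comap_ker, hψ, hι]
  · ext s
    show ψ (s ⊗ₜ[k] 1) = 0 ↔ _
    rw [Algebra.TensorProduct.lift_tmul, map_one, mul_one]
    show s ∈ RingHom.ker (τ.toRingHom.comp (residue S)) ↔ _
    rw [RingHom.ker_comp_of_injective _ τ.toRingHom.injective, IsLocalRing.ker_residue]

/-- Invariance of the number of geometric branches under an extension of the ground field. -/
theorem numGeomBranches_baseChange_field (P : Ideal R) [P.IsPrime] (Q : Ideal (R ⊗[k] K)) [Q.IsPrime]
    (hQ : Q.comap (algebraMap R (R ⊗[k] K)) = P) :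
    Brnch.numGeomBranches (Localization.AtPrime P) = Brnch.numGeomBranches (Localization.AtPrime Q) := by
  let A := Localization.AtPrime P
  let B := Localization.AtPrime Q
  obtain ⟨S, _, _, _, _, hS⟩ := exists_strictHenselization A
  obtain ⟨T, _, _, _, _, hT⟩ := exists_strictHenselization B
  haveI : HenselianLocalRing S := hS.henselian
  haveI := hS.isSepClosure.separable
  haveI : IsSepClosed (ResidueField S) := hS.isSepClosure.sep_closed
  letI : Algebra k S := ((algebraMap A S).comp (algebraMap k A)).toAlgebra
  haveI : IsScalarTower k A S := IsScalarTower.of_algebraMap_eq fun _ => rfl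
  let g : R →ₐ[k] S := (IsScalarTower.toAlgHom k A S).comp (IsScalarTower.toAlgHom k R A)
  obtain ⟨Qt, hQtp, hQtQ, hQtS⟩ := exists_prime_tensor_strict k K P Q hQ S g fun _ => rfl
  haveI := hQtp
  let D := Localization.AtPrime Qt
  have hRA : (algebraMap R A).Flat := RingHom.flat_algebraMap_iff.2 (IsLocalization.flat _ P.primeCompl)
  have hAS : (algebraMap A S).Flat := RingHom.flat_algebraMap_iff.2 (by
    haveI := Groth.Agent.Hensel.faithfullyFlat_of_isStrictHenselization A S
    infer_instance)
  have hmap : (Algebra.TensorProduct.map g (AlgHom.id k K)).toRingHom.Flat :=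
    RingHom.Flat.tensorProductMap (R := k) (S := k) (f := g) (g := AlgHom.id k K) (hRA.comp hAS) (.id K)
  -- the local map `B → D` is flat
  let f : B →+* D := Localization.localRingHom Q Qt
    (Algebra.TensorProduct.map g (AlgHom.id k K)).toRingHom hQtQ.symm
  letI : Algebra B D := f.toAlgebra
  haveI : IsLocalHom (algebraMap B D) := Localization.isLocalHom_localRingHom _ _ _ _
  letI : Algebra (R ⊗[k] K) D := (f.comp (algebraMap (R ⊗[k] K) B)).toAlgebra
  haveI : IsScalarTower (R ⊗[k] K) B D := IsScalarTower.of_algebraMap_eq fun _ => rfl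
  haveI : Module.Flat (R ⊗[k] K) D := RingHom.flat_algebraMap_iff.1 (by
    have h1 : algebraMap (R ⊗[k] K) D = (algebraMap (S ⊗[k] K) D).comp
        (Algebra.TensorProduct.map g (AlgHom.id k K)).toRingHom :=
      RingHom.ext fun x => Localization.localRingHom_to_map _ _ _ hQtQ.symm x
    rw [h1]
    exact hmap.comp (RingHom.flat_algebraMap_iff.2 (IsLocalization.flat _ Qt.primeCompl)))
  haveI : Module.Flat B D := (Module.flat_iff_of_isLocalization B Q.primeCompl D).2 inferInstance
  -- the local map `A → B` is flat
  letI : Algebra A B := (Localization.localRingHom P Q (algebraMap R (R ⊗[k] K)) hQ.symm).toAlgebra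
  haveI : IsLocalHom (algebraMap A B) := Localization.isLocalHom_localRingHom _ _ _ _
  haveI : IsScalarTower R A B := IsScalarTower.of_algebraMap_eq fun r =>
    ((Localization.localRingHom_to_map P Q (algebraMap R (R ⊗[k] K)) hQ.symm r).trans
      (IsScalarTower.algebraMap_apply R (R ⊗[k] K) B r).symm).symm
  haveI : Module.Flat R B := RingHom.flat_algebraMap_iff.1 (by
    have h1 : algebraMap R B = (algebraMap (R ⊗[k] K) B).comp (algebraMap R (R ⊗[k] K)) :=
      IsScalarTower.algebraMap_eq R (R ⊗[k] K) B
    rw [h1]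
    exact (RingHom.flat_algebraMap_iff.2 inferInstance).comp
      (RingHom.flat_algebraMap_iff.2 (IsLocalization.flat _ Q.primeCompl)))
  haveI : Module.Flat A B := (Module.flat_iff_of_isLocalization A P.primeCompl B).2 inferInstance
  obtain ⟨u, -, -, hu⟩ := exists_faithfullyFlat_strict A B S T
  have h1 := card_le_of_surjOn u hu
  obtain ⟨E, _, _, _, _, hE⟩ := exists_strictHenselization D
  obtain ⟨v, -, -, hv⟩ := exists_faithfullyFlat_strict B D T E
  have h2 := card_le_of_surjOn v hv
  rw [card_minimalPrimes_strictHenselization D E,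
    numGeomBranches_baseChange_strictlyHenselian k K S Qt hQtS] at h2
  rw [← card_minimalPrimes_strictHenselization A S, ← card_minimalPrimes_strictHenselization B T]
  exact le_antisymm h1 h2

end Groth.Agent.BrnchLib
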