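import Groth.Agent.BrnchLib.NormBij

/-! Minimal primes of a base changed birational cover of a henselization (S2125). -/

noncomputable section

namespace Groth.Agent.BrnchLib

universe u

open IsLocalRing TensorProduct Groth.Agent.Hensel

set_option linter.style.haveILetI false

/-- Contraction to a henselization-like ring is a bijection on minimal primes of a componentwise birational
cover. -/
theorem bijOn_minimalPrimes_tensor (A : Type u) [CommRing A] [IsLocalRing A] (S : Type u) [CommRing S]
    [IsLocalRing S] [Algebra A S] [IsLocalHom (algebraMap A S)] (hH : Groth.Agent.Hensel.IsHenzLike A S)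
    (B : Type u) [CommRing B] [Algebra A B]
    (hmin : Set.BijOn (Ideal.comap (algebraMap A B)) (minimalPrimes B) (minimalPrimes A))
    (hbir : ∀ P ∈ minimalPrimes B, ∀ b : B, ∃ a a₀ : A, algebraMap A B a ∉ P ∧
      algebraMap A B a * b - algebraMap A B a₀ ∈ P) :
    Set.BijOn (fun P : Ideal (B ⊗[A] S) => P.comap (Algebra.TensorProduct.includeRight.toRingHom : S →+* B ⊗[A] S))
      (minimalPrimes (B ⊗[A] S)) (minimalPrimes S) := by
  classical
  have := hH.faithfullyFlat
  let iR : B →+* S ⊗[A] B := (Algebra.TensorProduct.includeRight : B →ₐ[A] S ⊗[A] B).toRingHom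
  let iL : S →+* S ⊗[A] B := algebraMap S (S ⊗[A] B)
  have hcomm : iR.comp (algebraMap A B) = iL.comp (algebraMap A S) := RingHom.ext fun a => by
    simp only [iR, iL, AlgHom.toRingHom_eq_coe, RingHom.comp_apply, RingHom.coe_coe, AlgHom.commutes, ← IsScalarTower.algebraMap_apply]
  -- primes over the minimal primes
  let pts := {Q : Ideal (S ⊗[A] B) // Q.IsPrime ∧ Q.comap iR ∈ minimalPrimes B}
  have hq : ∀ Q : pts, (Q.1.comap iL).comap (algebraMap A S) = (Q.1.comap iR).comap (algebraMap A B) := fun Q => by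
    rw [Ideal.comap_comap, Ideal.comap_comap, hcomm]
  let m1 : pts → minimalPrimes S := fun Q => ⟨Q.1.comap iL, by
    haveI := Q.2.1
    haveI : (Q.1.comap iL).IsPrime := Ideal.IsPrime.comap iL
    rw [mem_minimalPrimes_iff_comap hH, hq]
    exact hmin.mapsTo Q.2.2⟩
  have hdet : ∀ Q Q' : pts, Q.1.comap iL = Q'.1.comap iL → Q = Q' := fun Q Q' h => by
    have hP : Q.1.comap iR = Q'.1.comap iR := hmin.injOn Q.2.2 Q'.2.2 (by
      change (Q.1.comap iR).comap _ = (Q'.1.comap iR).comap _
      rw [← hq, ← hq, h])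
    have key : ∀ x : S ⊗[A] B, ∃ (a : A) (s : S), algebraMap A B a ∉ Q.1.comap iR ∧
        iR (algebraMap A B a) * x - iL s ∈ (Q.1.comap iR).map iR := fun x => by
      induction x using TensorProduct.induction_on with
      | zero => exact ⟨1, 0, by rw [map_one]; exact fun h => Q.2.2.1.1.ne_top ((Ideal.eq_top_iff_one _).2 h), by simp⟩
      | tmul s b =>
        obtain ⟨a, a₀, ha, hab⟩ := hbir _ Q.2.2 b
        refine ⟨a, algebraMap A S a₀ * s, ha, ?_⟩
        have e : iR (algebraMap A B a) * s ⊗ₜ[A] b - iL (algebraMap A S a₀ * s) =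
            iL s * iR (algebraMap A B a * b - algebraMap A B a₀) := by
          rw [show s ⊗ₜ[A] b = iL s * iR b by simp [iL, iR], map_sub, map_mul iR, map_mul iL,
            ← RingHom.comp_apply iL, ← hcomm, RingHom.comp_apply]
          ring
        rw [e]
        exact Ideal.mul_mem_left _ _ (Ideal.mem_map_of_mem _ hab)
      | add x y hx hy =>
        obtain ⟨a, s, ha, has⟩ := hx
        obtain ⟨c, t, hc, hct⟩ := hy
        refine ⟨a * c, algebraMap A S c * s + algebraMap A S a * t,
          by rw [map_mul]; exact Q.2.2.1.1.mul_notMem ha hc, ?_⟩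
        have e : iR (algebraMap A B (a * c)) * (x + y) - iL (algebraMap A S c * s + algebraMap A S a * t) =
            iR (algebraMap A B c) * (iR (algebraMap A B a) * x - iL s) +
              iR (algebraMap A B a) * (iR (algebraMap A B c) * y - iL t) := by
          have e2 : ∀ r, iL (algebraMap A S r) = iR (algebraMap A B r) := fun r => (RingHom.congr_fun hcomm r).symm
          rw [map_mul, map_mul, map_add iL, map_mul iL, map_mul iL, e2, e2]
          ring
        rw [e]
        exact add_mem (Ideal.mul_mem_left _ _ has) (Ideal.mul_mem_left _ _ hct)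
    refine Subtype.ext (Ideal.ext fun x => ?_)
    obtain ⟨a, s, ha, has⟩ := key x
    have e1 : iR (algebraMap A B a) * x - iL s ∈ Q.1 := (Ideal.map_le_iff_le_comap.2 le_rfl) has
    have e2 : iR (algebraMap A B a) * x - iL s ∈ Q'.1 := (Ideal.map_le_iff_le_comap.2 hP.le) has
    have i1 : x ∈ Q.1 ↔ iL s ∈ Q.1 := by
      haveI := Q.2.1
      constructor
      · intro hx
        simpa using Q.1.sub_mem (Q.1.mul_mem_left (iR (algebraMap A B a)) hx) e1
      · intro hs
        have := Q.1.add_mem e1 hs
        rw [sub_add_cancel] at this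
        exact (Q.2.1.mem_or_mem this).resolve_left fun h => ha h
    have i2 : x ∈ Q'.1 ↔ iL s ∈ Q'.1 := by
      constructor
      · intro hx
        simpa using Q'.1.sub_mem (Q'.1.mul_mem_left (iR (algebraMap A B a)) hx) e2
      · intro hs
        have := Q'.1.add_mem e2 hs
        rw [sub_add_cancel] at this
        exact (Q'.2.1.mem_or_mem this).resolve_left fun h => ha (hP ▸ h)
    rw [i1, i2]
    exact SetLike.ext_iff.1 h s
  have hm1 : Function.Bijective m1 := by
    refine ⟨fun Q Q' h => hdet Q Q' (congrArg Subtype.val h), fun ⟨q, hq'⟩ => ?_⟩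
    haveI := hq'.1.1
    obtain ⟨P, hP, hPp⟩ := hmin.surjOn ((mem_minimalPrimes_iff_comap hH).1 hq')
    haveI := hP.1.1
    haveI hPover : P.LiesOver (q.comap (algebraMap A S)) := ⟨hPp.symm⟩
    let p := q.comap (algebraMap A S)
    let eP : p.ResidueField →+* P.ResidueField :=
      Ideal.ResidueField.map p P (algebraMap A B) hPp.symm
    have heP : Function.Surjective eP := fun y => by
      obtain ⟨⟨b₁, b₂⟩, hb⟩ := IsLocalization.surj (nonZeroDivisors (B ⧸ P)) y
      obtain ⟨b₁, rfl⟩ := Ideal.Quotient.mk_surjective b₁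
      obtain ⟨b₂', hb₂'⟩ := Ideal.Quotient.mk_surjective (b₂ : B ⧸ P)
      obtain ⟨a₁, c₁, h1, h1'⟩ := hbir P hP b₁
      obtain ⟨a₂, c₂, h2, h2'⟩ := hbir P hP b₂'
      have hne : ∀ a, algebraMap A B a ∉ P → algebraMap B P.ResidueField (algebraMap A B a) ≠ 0 := fun a h => by
        rwa [Ne, Ideal.algebraMap_residueField_eq_zero]
      have e1 : algebraMap B P.ResidueField (algebraMap A B a₁) * algebraMap B P.ResidueField b₁ = algebraMap B P.ResidueField (algebraMap A B c₁) := by
        rw [← map_mul, ← sub_eq_zero, ← map_sub, Ideal.algebraMap_residueField_eq_zero]; exact h1'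
      have e2 : algebraMap B P.ResidueField (algebraMap A B a₂) * algebraMap B P.ResidueField b₂' = algebraMap B P.ResidueField (algebraMap A B c₂) := by
        rw [← map_mul, ← sub_eq_zero, ← map_sub, Ideal.algebraMap_residueField_eq_zero]; exact h2'
      have hb' : y * algebraMap B P.ResidueField b₂' = algebraMap B P.ResidueField b₁ := by
        rw [IsScalarTower.algebraMap_apply B (B ⧸ P) P.ResidueField, IsScalarTower.algebraMap_apply B (B ⧸ P) P.ResidueField b₁,
          Ideal.Quotient.algebraMap_eq, hb₂']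
        exact hb
      have hb2 : algebraMap B P.ResidueField b₂' ≠ 0 := by
        rw [IsScalarTower.algebraMap_apply B (B ⧸ P) P.ResidueField, Ideal.Quotient.algebraMap_eq, hb₂']
        exact IsFractionRing.to_map_ne_zero_of_mem_nonZeroDivisors b₂.2
      refine ⟨(algebraMap A p.ResidueField c₁ * algebraMap A p.ResidueField a₂) / (algebraMap A p.ResidueField a₁ * algebraMap A p.ResidueField c₂), ?_⟩
      have em : ∀ a, eP (algebraMap A p.ResidueField a) = algebraMap B P.ResidueField (algebraMap A B a) := fun a =>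
        Ideal.ResidueField.map_algebraMap _ _ _ _ a
      rw [map_div₀, map_mul, map_mul, em, em, em, em, div_eq_iff, ← e1, ← e2, ← hb']
      · ring
      · refine mul_ne_zero (hne _ h1) ?_
        rw [← e2]; exact mul_ne_zero (hne _ h2) hb2
    let eP' := RingEquiv.ofBijective eP ⟨eP.injective, heP⟩
    let qm : p.ResidueField →+* q.ResidueField := Ideal.ResidueField.map p q (algebraMap A S) rfl
    let fB : B →+* q.ResidueField := qm.comp (eP'.symm.toRingHom.comp (algebraMap B P.ResidueField))
    have hfB : ∀ a, fB (algebraMap A B a) = algebraMap A q.ResidueField a := fun a => by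
      have : eP'.symm (algebraMap B P.ResidueField (algebraMap A B a)) = algebraMap A p.ResidueField a := by
        rw [RingEquiv.symm_apply_eq]; exact (Ideal.ResidueField.map_algebraMap _ _ _ _ a).symm
      simp only [fB, RingHom.comp_apply, RingEquiv.toRingHom_eq_coe, RingHom.coe_coe, this]
      exact (Ideal.ResidueField.map_algebraMap _ _ _ _ a).trans (IsScalarTower.algebraMap_apply A S q.ResidueField a).symm
    let ψ : S ⊗[A] B →ₐ[A] q.ResidueField := Algebra.TensorProduct.lift
      { algebraMap S q.ResidueField with commutes' := fun a => (IsScalarTower.algebraMap_apply A S q.ResidueField a).symm } { fB with commutes' := hfB } fun _ _ => Commute.all _ _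
    have hR : (RingHom.ker ψ).comap iR = P := Ideal.ext fun b => by
      simp [iR, ψ, fB, map_eq_zero, Ideal.algebraMap_residueField_eq_zero]
    refine ⟨⟨RingHom.ker ψ, RingHom.ker_isPrime _, hR ▸ hP⟩, Subtype.ext (Ideal.ext fun s => ?_)⟩
    simp [m1, iL, ψ, Ideal.algebraMap_residueField_eq_zero]
  letI : Algebra B (S ⊗[A] B) := iR.toAlgebra
  haveI : Module.Flat B (S ⊗[A] B) :=
    Module.Flat.of_linearEquiv (M := B ⊗[A] S)
      (LinearEquiv.symm
        { (Algebra.TensorProduct.comm A B S).toAddEquiv with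
          map_smul' := fun b x => by
            change Algebra.TensorProduct.comm A B S (b • x) = iR b * Algebra.TensorProduct.comm A B S x
            rw [Algebra.smul_def, map_mul]
            simp [iR] })
  have hpts : ∀ Q : Ideal (S ⊗[A] B), Q ∈ minimalPrimes (S ⊗[A] B) ↔ Q.IsPrime ∧ Q.comap iR ∈ minimalPrimes B := by
    intro Q
    constructor
    · intro hQ
      haveI := hQ.1.1
      refine ⟨inferInstance, ⟨Ideal.IsPrime.comap iR, bot_le⟩, fun P ⟨hP, _⟩ hle => ?_⟩
      haveI := hP
      haveI : (Q.comap iR).IsPrime := Ideal.IsPrime.comap iR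
      haveI : Q.LiesOver (Q.comap iR) := ⟨rfl⟩
      obtain ⟨Q', hQ'le, hQ', ho⟩ := Ideal.exists_ideal_le_liesOver_of_le (p := P) (q := Q.comap iR) Q hle
      have := hQ.2 ⟨hQ', bot_le⟩ hQ'le
      rw [ho.over]
      exact Ideal.comap_mono this
    · rintro ⟨hQ, hP⟩
      refine ⟨⟨hQ, bot_le⟩, fun Q' ⟨hQ', _⟩ hle => ?_⟩
      haveI := hQ'
      haveI := hQ
      have h1 : Q'.comap iR = Q.comap iR :=
        le_antisymm (Ideal.comap_mono hle) (hP.2 ⟨Ideal.IsPrime.comap iR, bot_le⟩ (Ideal.comap_mono hle))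
      haveI : (Q.comap iL).IsPrime := Ideal.IsPrime.comap iL
      haveI : (Q'.comap iL).IsPrime := Ideal.IsPrime.comap iL
      have h2 : Q'.comap iL = Q.comap iL := hH.eq_of_le_of_comap_eq (Ideal.comap_mono hle) (by
        rw [hq ⟨Q', hQ', h1 ▸ hP⟩, hq ⟨Q, hQ, hP⟩]
        exact congrArg _ h1)
      exact le_of_eq (congrArg Subtype.val (hdet ⟨Q', hQ', h1 ▸ hP⟩ ⟨Q, hQ, hP⟩ h2)).symm
  let c := Algebra.TensorProduct.comm A S B
  have hc : ∀ Q : Ideal (B ⊗[A] S), Q ∈ minimalPrimes (B ⊗[A] S) ↔ Q.comap c.toRingHom ∈ minimalPrimes (S ⊗[A] B) := by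
    intro Q
    have hcs : ∀ T : Ideal (B ⊗[A] S), (T.comap c.toRingHom).map c.toRingHom = T := fun T => Ideal.map_comap_of_surjective _ c.surjective T
    have hsc : ∀ T : Ideal (S ⊗[A] B), (T.map c.toRingHom).comap c.toRingHom = T := fun T => Ideal.comap_map_of_bijective _ c.bijective
    constructor
    · intro hQ
      haveI := hQ.1.1
      refine ⟨⟨Ideal.IsPrime.comap _, bot_le⟩, fun T ⟨hT, _⟩ hle => ?_⟩
      have hT' : (T.map c.toRingHom).IsPrime := by
        haveI := hT
        exact Ideal.map_isPrime_of_equiv c.toRingEquiv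
      have h1 : T.map c.toRingHom ≤ Q := (Ideal.map_mono hle).trans (hcs Q).le
      exact (Ideal.comap_mono (hQ.2 ⟨hT', bot_le⟩ h1)).trans (hsc T).le
    · intro hQ
      haveI := hQ.1.1
      have hQp : Q.IsPrime := by
        rw [← hcs Q]
        exact Ideal.map_isPrime_of_equiv c.toRingEquiv
      refine ⟨⟨hQp, bot_le⟩, fun T ⟨hT, _⟩ hle => ?_⟩
      haveI := hT
      have h2 := hQ.2 ⟨Ideal.IsPrime.comap c.toRingHom, bot_le⟩ (Ideal.comap_mono hle)
      rw [← hcs Q, ← hcs T]
      exact Ideal.map_mono h2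
  have hcL : ∀ Q : Ideal (B ⊗[A] S), Q.comap (Algebra.TensorProduct.includeRight.toRingHom : S →+* B ⊗[A] S) =
      (Q.comap c.toRingHom).comap iL := fun Q => by
    rw [Ideal.comap_comap]
    rfl
  refine ⟨fun Q hQ => ?_, fun Q hQ Q' hQ' h => ?_, fun q hq' => ?_⟩
  · have := (hpts _).1 ((hc Q).1 hQ)
    change Ideal.comap _ Q ∈ _
    rw [hcL]
    exact (m1 ⟨_, this⟩).2
  · simp only [hcL] at h
    have := congrArg Subtype.val (hdet ⟨_, (hpts _).1 ((hc Q).1 hQ)⟩ ⟨_, (hpts _).1 ((hc Q').1 hQ')⟩ h)
    exact Ideal.comap_injective_of_surjective _ c.surjective this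
  · obtain ⟨⟨T, hT⟩, hTq⟩ := hm1.2 ⟨q, hq'⟩
    have hTc : (T.map c.toRingHom).comap c.toRingHom = T := Ideal.comap_map_of_bijective _ c.bijective
    refine ⟨T.map c.toRingHom, (hc _).2 (hTc.symm ▸ (hpts T).2 hT), ?_⟩
    change Ideal.comap _ _ = q
    rw [hcL, hTc]
    exact congrArg Subtype.val hTq

end Groth.Agent.BrnchLib
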