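import Groth.Agent.BrnchLib.HenzMin

/-! Minimal primes of a (strict) henselization as maximal ideals of the base changed cover. -/

noncomputable section

namespace Groth.Agent.BrnchLib

universe u

open IsLocalRing TensorProduct Groth.Agent.Hensel

set_option linter.style.haveILetI false

/-- For a henselian henselization-like `S`, the minimal primes of `S` are the maximal ideals of the base change
of a componentwise birational integral cover whose base change has domains as local rings. -/
theorem nonempty_minimalPrimes_equiv_tensor (A : Type u) [CommRing A] [IsLocalRing A] (S : Type u) [CommRing S]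
    [IsLocalRing S] [Algebra A S] [IsLocalHom (algebraMap A S)] [HenselianLocalRing S]
    (hH : Groth.Agent.Hensel.IsHenzLike A S)
    (B : Type u) [CommRing B] [Algebra A B] [Algebra.IsIntegral A B]
    (hdom : ∀ n : Ideal (S ⊗[A] B), ∀ [n.IsMaximal], IsDomain (Localization.AtPrime n))
    (hmin : Set.BijOn (Ideal.comap (algebraMap A B)) (minimalPrimes B) (minimalPrimes A))
    (hbir : ∀ P ∈ minimalPrimes B, ∀ b : B, ∃ a a₀ : A, algebraMap A B a ∉ P ∧
      algebraMap A B a * b - algebraMap A B a₀ ∈ P) :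
    Nonempty (minimalPrimes S ≃ MaximalSpectrum (S ⊗[A] B)) := by
  classical
  have := hH.faithfullyFlat
  let iR : B →+* S ⊗[A] B := (Algebra.TensorProduct.includeRight : B →ₐ[A] S ⊗[A] B).toRingHom
  let iL : S →+* S ⊗[A] B := algebraMap S (S ⊗[A] B)
  have hcomm : iR.comp (algebraMap A B) = iL.comp (algebraMap A S) := RingHom.ext fun a => by
    simp only [iR, iL, AlgHom.toRingHom_eq_coe, RingHom.comp_apply, RingHom.coe_coe, AlgHom.commutes, ← IsScalarTower.algebraMap_apply]
  have hmax : ∀ n : Ideal (S ⊗[A] B), n.IsMaximal → n.comap iL = maximalIdeal S ∧ (n.comap iR).IsMaximal := fun n hn => by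
    have h1 : n.comap iL = maximalIdeal S := IsLocalRing.eq_maximalIdeal (Ideal.isMaximal_comap_of_isIntegral_of_isMaximal n)
    refine ⟨h1, Ideal.isMaximal_of_isIntegral_of_isMaximal_comap (R := A) _ ?_⟩
    rw [Ideal.comap_comap, hcomm, ← Ideal.comap_comap, h1, IsLocalRing.maximalIdeal_comap]
    infer_instance
  -- primes over the minimal primes
  let pts := {Q : Ideal (S ⊗[A] B) // Q.IsPrime ∧ Q.comap iR ∈ minimalPrimes B}
  have hq : ∀ Q : pts, (Q.1.comap iL).comap (algebraMap A S) = (Q.1.comap iR).comap (algebraMap A B) := fun Q => by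
    rw [Ideal.comap_comap, Ideal.comap_comap, hcomm]
  let m1 : pts → minimalPrimes S := fun Q => ⟨Q.1.comap iL, by
    haveI := Q.2.1
    haveI : (Q.1.comap iL).IsPrime := Ideal.IsPrime.comap iL
    rw [mem_minimalPrimes_iff_comap hH, hq]
    exact hmin.mapsTo Q.2.2⟩
  have hdet : ∀ Q Q' : pts, Q.1.comap iL = Q'.1.comap iL → Q = Q' := fun Q Q' h => by
    have hP : Q.1.comap iR = Q'.1.comap iR := hmin.injOn Q.2.2 Q'.2.2 (by
      change (Q.1.comap iR).comap _ = (Q'.1.comap iR).comap _
      rw [← hq, ← hq, h])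
    have key : ∀ x : S ⊗[A] B, ∃ (a : A) (s : S), algebraMap A B a ∉ Q.1.comap iR ∧
        iR (algebraMap A B a) * x - iL s ∈ (Q.1.comap iR).map iR := fun x => by
      induction x using TensorProduct.induction_on with
      | zero => exact ⟨1, 0, by rw [map_one]; exact fun h => Q.2.2.1.1.ne_top ((Ideal.eq_top_iff_one _).2 h), by simp⟩
      | tmul s b =>
        obtain ⟨a, a₀, ha, hab⟩ := hbir _ Q.2.2 b
        refine ⟨a, algebraMap A S a₀ * s, ha, ?_⟩
        have e : iR (algebraMap A B a) * s ⊗ₜ[A] b - iL (algebraMap A S a₀ * s) =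
            iL s * iR (algebraMap A B a * b - algebraMap A B a₀) := by
          rw [show s ⊗ₜ[A] b = iL s * iR b by simp [iL, iR], map_sub, map_mul iR, map_mul iL,
            ← RingHom.comp_apply iL, ← hcomm, RingHom.comp_apply]
          ring
        rw [e]
        exact Ideal.mul_mem_left _ _ (Ideal.mem_map_of_mem _ hab)
      | add x y hx hy =>
        obtain ⟨a, s, ha, has⟩ := hx
        obtain ⟨c, t, hc, hct⟩ := hy
        refine ⟨a * c, algebraMap A S c * s + algebraMap A S a * t,
          by rw [map_mul]; exact Q.2.2.1.1.mul_notMem ha hc, ?_⟩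
        have e : iR (algebraMap A B (a * c)) * (x + y) - iL (algebraMap A S c * s + algebraMap A S a * t) =
            iR (algebraMap A B c) * (iR (algebraMap A B a) * x - iL s) +
              iR (algebraMap A B a) * (iR (algebraMap A B c) * y - iL t) := by
          have e2 : ∀ r, iL (algebraMap A S r) = iR (algebraMap A B r) := fun r => (RingHom.congr_fun hcomm r).symm
          rw [map_mul, map_mul, map_add iL, map_mul iL, map_mul iL, e2, e2]
          ring
        rw [e]
        exact add_mem (Ideal.mul_mem_left _ _ has) (Ideal.mul_mem_left _ _ hct)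
    refine Subtype.ext (Ideal.ext fun x => ?_)
    obtain ⟨a, s, ha, has⟩ := key x
    have e1 : iR (algebraMap A B a) * x - iL s ∈ Q.1 := (Ideal.map_le_iff_le_comap.2 le_rfl) has
    have e2 : iR (algebraMap A B a) * x - iL s ∈ Q'.1 := (Ideal.map_le_iff_le_comap.2 hP.le) has
    have i1 : x ∈ Q.1 ↔ iL s ∈ Q.1 := by
      haveI := Q.2.1
      constructor
      · intro hx
        simpa using Q.1.sub_mem (Q.1.mul_mem_left (iR (algebraMap A B a)) hx) e1
      · intro hs
        have := Q.1.add_mem e1 hs
        rw [sub_add_cancel] at this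
        exact (Q.2.1.mem_or_mem this).resolve_left fun h => ha h
    have i2 : x ∈ Q'.1 ↔ iL s ∈ Q'.1 := by
      constructor
      · intro hx
        simpa using Q'.1.sub_mem (Q'.1.mul_mem_left (iR (algebraMap A B a)) hx) e2
      · intro hs
        have := Q'.1.add_mem e2 hs
        rw [sub_add_cancel] at this
        exact (Q'.2.1.mem_or_mem this).resolve_left fun h => ha (hP ▸ h)
    rw [i1, i2]
    exact SetLike.ext_iff.1 h s
  have hm1 : Function.Bijective m1 := by
    refine ⟨fun Q Q' h => hdet Q Q' (congrArg Subtype.val h), fun ⟨q, hq'⟩ => ?_⟩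
    haveI := hq'.1.1
    obtain ⟨P, hP, hPp⟩ := hmin.surjOn ((mem_minimalPrimes_iff_comap hH).1 hq')
    haveI := hP.1.1
    haveI hPover : P.LiesOver (q.comap (algebraMap A S)) := ⟨hPp.symm⟩
    let p := q.comap (algebraMap A S)
    let eP : p.ResidueField →+* P.ResidueField :=
      Ideal.ResidueField.map p P (algebraMap A B) hPp.symm
    have heP : Function.Surjective eP := fun y => by
      obtain ⟨⟨b₁, b₂⟩, hb⟩ := IsLocalization.surj (nonZeroDivisors (B ⧸ P)) y
      obtain ⟨b₁, rfl⟩ := Ideal.Quotient.mk_surjective b₁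
      obtain ⟨b₂', hb₂'⟩ := Ideal.Quotient.mk_surjective (b₂ : B ⧸ P)
      obtain ⟨a₁, c₁, h1, h1'⟩ := hbir P hP b₁
      obtain ⟨a₂, c₂, h2, h2'⟩ := hbir P hP b₂'
      have hne : ∀ a, algebraMap A B a ∉ P → algebraMap B P.ResidueField (algebraMap A B a) ≠ 0 := fun a h => by
        rwa [Ne, Ideal.algebraMap_residueField_eq_zero]
      have e1 : algebraMap B P.ResidueField (algebraMap A B a₁) * algebraMap B P.ResidueField b₁ = algebraMap B P.ResidueField (algebraMap A B c₁) := by
        rw [← map_mul, ← sub_eq_zero, ← map_sub, Ideal.algebraMap_residueField_eq_zero]; exact h1'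
      have e2 : algebraMap B P.ResidueField (algebraMap A B a₂) * algebraMap B P.ResidueField b₂' = algebraMap B P.ResidueField (algebraMap A B c₂) := by
        rw [← map_mul, ← sub_eq_zero, ← map_sub, Ideal.algebraMap_residueField_eq_zero]; exact h2'
      have hb' : y * algebraMap B P.ResidueField b₂' = algebraMap B P.ResidueField b₁ := by
        rw [IsScalarTower.algebraMap_apply B (B ⧸ P) P.ResidueField, IsScalarTower.algebraMap_apply B (B ⧸ P) P.ResidueField b₁,
          Ideal.Quotient.algebraMap_eq, hb₂']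
        exact hb
      have hb2 : algebraMap B P.ResidueField b₂' ≠ 0 := by
        rw [IsScalarTower.algebraMap_apply B (B ⧸ P) P.ResidueField, Ideal.Quotient.algebraMap_eq, hb₂']
        exact IsFractionRing.to_map_ne_zero_of_mem_nonZeroDivisors b₂.2
      refine ⟨(algebraMap A p.ResidueField c₁ * algebraMap A p.ResidueField a₂) / (algebraMap A p.ResidueField a₁ * algebraMap A p.ResidueField c₂), ?_⟩
      have em : ∀ a, eP (algebraMap A p.ResidueField a) = algebraMap B P.ResidueField (algebraMap A B a) := fun a =>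
        Ideal.ResidueField.map_algebraMap _ _ _ _ a
      rw [map_div₀, map_mul, map_mul, em, em, em, em, div_eq_iff, ← e1, ← e2, ← hb']
      · ring
      · refine mul_ne_zero (hne _ h1) ?_
        rw [← e2]; exact mul_ne_zero (hne _ h2) hb2
    let eP' := RingEquiv.ofBijective eP ⟨eP.injective, heP⟩
    let qm : p.ResidueField →+* q.ResidueField := Ideal.ResidueField.map p q (algebraMap A S) rfl
    let fB : B →+* q.ResidueField := qm.comp (eP'.symm.toRingHom.comp (algebraMap B P.ResidueField))
    have hfB : ∀ a, fB (algebraMap A B a) = algebraMap A q.ResidueField a := fun a => by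
      have : eP'.symm (algebraMap B P.ResidueField (algebraMap A B a)) = algebraMap A p.ResidueField a := by
        rw [RingEquiv.symm_apply_eq]; exact (Ideal.ResidueField.map_algebraMap _ _ _ _ a).symm
      simp only [fB, RingHom.comp_apply, RingEquiv.toRingHom_eq_coe, RingHom.coe_coe, this]
      exact (Ideal.ResidueField.map_algebraMap _ _ _ _ a).trans (IsScalarTower.algebraMap_apply A S q.ResidueField a).symm
    let ψ : S ⊗[A] B →ₐ[A] q.ResidueField := Algebra.TensorProduct.lift
      { algebraMap S q.ResidueField with commutes' := fun a => (IsScalarTower.algebraMap_apply A S q.ResidueField a).symm } { fB with commutes' := hfB } fun _ _ => Commute.all _ _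
    have hR : (RingHom.ker ψ).comap iR = P := Ideal.ext fun b => by
      simp [iR, ψ, fB, map_eq_zero, Ideal.algebraMap_residueField_eq_zero]
    refine ⟨⟨RingHom.ker ψ, RingHom.ker_isPrime _, hR ▸ hP⟩, Subtype.ext (Ideal.ext fun s => ?_)⟩
    simp [m1, iL, ψ, Ideal.algebraMap_residueField_eq_zero]
  -- the maximal ideal above a point
  have hloc : ∀ Q : pts, ∃! n : MaximalSpectrum (S ⊗[A] B), Q.1 ≤ n.asIdeal := fun Q => by
    haveI := Q.2.1
    haveI : IsLocalRing ((S ⊗[A] B) ⧸ Q.1) := isLocalRing_of_isIntegral_domain S _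
    obtain ⟨M, hM, hMle⟩ := Ideal.exists_le_maximal Q.1 Q.2.1.ne_top
    refine ⟨⟨M, hM⟩, hMle, fun n hn => MaximalSpectrum.ext ?_⟩
    have hmx : ∀ N : Ideal (S ⊗[A] B), N.IsMaximal → Q.1 ≤ N →
        N = (maximalIdeal ((S ⊗[A] B) ⧸ Q.1)).comap (Ideal.Quotient.mk Q.1) := fun N hN hle => by
      rw [← IsLocalRing.eq_maximalIdeal ((Ideal.map_eq_top_or_isMaximal_of_surjective (Ideal.Quotient.mk Q.1) Ideal.Quotient.mk_surjective hN).resolve_left ?_),
        Ideal.comap_map_of_surjective _ Ideal.Quotient.mk_surjective, ← RingHom.ker_eq_comap_bot, Ideal.mk_ker, sup_eq_left.2 hle]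
      intro h
      have := congrArg (Ideal.comap (Ideal.Quotient.mk Q.1)) h
      rw [Ideal.comap_map_of_surjective _ Ideal.Quotient.mk_surjective, ← RingHom.ker_eq_comap_bot, Ideal.mk_ker,
        sup_eq_left.2 hle, Ideal.comap_top] at this
      exact hN.ne_top this
    exact (hmx _ n.isMaximal hn).trans (hmx M hM hMle).symm
  choose m2 hm2le hm2uniq using hloc
  have hm2 : Function.Bijective m2 := by
    refine ⟨fun Q Q' h => ?_, fun n => ?_⟩
    · let n := m2 Q
      haveI := n.isMaximal
      haveI := hdom n.asIdeal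
      let Q₀ := RingHom.ker (algebraMap (S ⊗[A] B) (Localization.AtPrime n.asIdeal))
      haveI hQ₀ : Q₀.IsPrime := RingHom.ker_isPrime _
      have hle : ∀ R : pts, R.1 ≤ n.asIdeal → Q₀ ≤ R.1 := fun R hR x hx => by
        obtain ⟨c, hc⟩ := (IsLocalization.map_eq_zero_iff n.asIdeal.primeCompl _ x).1 hx
        exact (R.2.1.mem_or_mem (hc ▸ R.1.zero_mem : (c : S ⊗[A] B) * x ∈ R.1)).resolve_left fun h => c.2 (hR h)
      have hmin0 : ∀ R : pts, R.1 ≤ n.asIdeal → ∃ h0 : Q₀.comap iR ∈ minimalPrimes B, R = ⟨Q₀, hQ₀, h0⟩ := fun R hR => by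
        have h1 := Ideal.comap_mono (f := iR) (hle R hR)
        have h2 := R.2.2.2 ⟨Ideal.IsPrime.comap iR, bot_le⟩ h1
        have h0 : Q₀.comap iR = R.1.comap iR := le_antisymm h1 h2
        refine ⟨h0 ▸ R.2.2, (hdet ⟨Q₀, hQ₀, h0 ▸ R.2.2⟩ R ?_).symm⟩
        haveI := R.2.1
        haveI : (R.1.comap iL).IsPrime := Ideal.IsPrime.comap iL
        haveI : (Q₀.comap iL).IsPrime := Ideal.IsPrime.comap iL
        refine hH.eq_of_le_of_comap_eq (Ideal.comap_mono (hle R hR)) ?_
        rw [hq R, hq ⟨Q₀, hQ₀, h0 ▸ R.2.2⟩]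
        exact congrArg _ h0
      obtain ⟨_, e⟩ := hmin0 Q (hm2le Q)
      obtain ⟨_, e'⟩ := hmin0 Q' (by rw [show n = m2 Q' from h]; exact hm2le Q')
      exact e.trans e'.symm
    · haveI := n.isMaximal
      letI : Algebra B (S ⊗[A] B) := iR.toAlgebra
      haveI : Module.Flat B (S ⊗[A] B) :=
        Module.Flat.of_linearEquiv (M := B ⊗[A] S)
          (LinearEquiv.symm
            { (Algebra.TensorProduct.comm A B S).toAddEquiv with
              map_smul' := fun b x => by
                change Algebra.TensorProduct.comm A B S (b • x) = iR b * Algebra.TensorProduct.comm A B S x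
                rw [Algebra.smul_def, map_mul]
                simp [iR] })
      haveI : (n.asIdeal.comap iR).IsPrime := Ideal.IsPrime.comap iR
      obtain ⟨P, hP, hPle⟩ := Ideal.exists_minimalPrimes_le (I := (⊥ : Ideal B)) (J := n.asIdeal.comap iR) bot_le
      haveI := hP.1.1
      haveI : n.asIdeal.LiesOver (n.asIdeal.comap iR) := ⟨rfl⟩
      obtain ⟨Q, hQle, hQ, ho⟩ := Ideal.exists_ideal_le_liesOver_of_le (p := P) (q := n.asIdeal.comap iR) n.asIdeal hPle
      have hQP : Q.comap iR = P := ho.over.symm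
      exact ⟨⟨Q, hQ, hQP ▸ hP⟩, (hm2uniq _ n hQle).symm⟩
  exact ⟨(Equiv.ofBijective m1 hm1).symm.trans (Equiv.ofBijective m2 hm2)⟩

end Groth.Agent.BrnchLib
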