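import Groth.Agent.BrnchLib.DimOne
import Groth.Agent.BrnchLib.Colon

/-!
# A henselian ring does not let its completion split over a prime
-/

universe u

set_option linter.style.haveILetI false

open IsLocalRing Polynomial

namespace Groth.Agent.BrnchLib

variable {S T : Type u} [CommRing S] [CommRing T] [IsLocalRing T] (ψ : S →+* T)

/-- If two closed sets of the completion of a henselian local ring meet only in the closed point
and cover the fibre over a nonclosed prime, they cannot both meet that fibre. -/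
theorem not_separated [HenselianLocalRing S] [IsNoetherianRing S] [IsNoetherianRing T]
    (hψ : letI := ψ.toAlgebra; Module.FaithfullyFlat S T)
    (hm : (maximalIdeal S).map ψ = maximalIdeal T)
    (hres : ∀ y : T, ∃ s, y - ψ s ∈ maximalIdeal T)
    (q : Ideal S) [q.IsPrime] (hq : q ≠ maximalIdeal S) (P Q : Ideal T) [P.IsPrime] [Q.IsPrime]
    (hP : P.comap ψ = q) (hQ : Q.comap ψ = q) (A B : Ideal T) (hA : A ≤ P) (hB : B ≤ Q)
    (hAB : A * B ≤ (q.map ψ).radical) (hrad : maximalIdeal T ≤ (A ⊔ B).radical) : False := by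
  classical
  have hcomap : ∀ I : Ideal S, (I.map ψ).comap ψ = I := fun I => by
    letI := ψ.toAlgebra
    haveI := hψ
    exact Ideal.comap_map_eq_self_of_faithfullyFlat (B := T) I
  let J := q.map ψ
  have hJP : J ≤ P := Ideal.map_le_iff_le_comap.2 hP.ge
  have hJQ : J ≤ Q := Ideal.map_le_iff_le_comap.2 hQ.ge
  -- make the product lie in `J`, and find a power of the maximal ideal in the sum
  obtain ⟨k, hk⟩ := Ideal.exists_pow_le_of_le_radical_of_fg hAB (IsNoetherian.noetherian _)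
  let Ak := A ^ (k + 1)
  let Bk := B ^ (k + 1)
  have hJ : Ak * Bk ≤ J := by
    show A ^ (k + 1) * B ^ (k + 1) ≤ J
    rw [← mul_pow]; exact (Ideal.pow_le_pow_right (by omega)).trans hk
  have hAkP : Ak ≤ P := (Ideal.pow_le_self (by omega)).trans hA
  have hBkQ : Bk ≤ Q := (Ideal.pow_le_self (by omega)).trans hB
  obtain ⟨n₀, hn₀⟩ := Ideal.exists_pow_le_of_le_radical_of_fg (I := maximalIdeal T) (J := Ak ⊔ Bk) (by
    refine hrad.trans (Ideal.radical_le_radical_iff.2 ?_)
    rw [Ideal.radical_eq_sInf]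
    exact le_sInf fun R ⟨hR, hRp⟩ => sup_le (hRp.le_of_pow_le (le_sup_left.trans hR))
      (hRp.le_of_pow_le (le_sup_right.trans hR))) (IsNoetherian.noetherian _)
  let n := n₀ + 1
  obtain ⟨G, hG⟩ := (IsNoetherian.noetherian (maximalIdeal S ^ n) : (maximalIdeal S ^ n).FG)
  let x : (↥G) → S := Subtype.val
  have hxI : Ideal.span (Set.range x) = maximalIdeal S ^ n := by
    rw [← hG]; exact congrArg Ideal.span Subtype.range_coe
  have hsplit : ∀ i, ∃ a ∈ Ak, ∃ a' ∈ Bk, a + a' = ψ (x i) := fun i => by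
    refine Submodule.mem_sup.1 (hn₀ (Ideal.pow_le_pow_right (by omega : n₀ ≤ n) ?_))
    rw [← hm, ← Ideal.map_pow]
    exact Ideal.mem_map_of_mem ψ (hxI ▸ Ideal.subset_span ⟨i, rfl⟩)
  choose a haA a' ha'B hsum using hsplit
  have hcross : ∀ i i', a i * a' i' ∈ J := fun i i' => hJ (Ideal.mul_mem_mul (haA i) (ha'B i'))
  obtain ⟨i₀, hi₀⟩ : ∃ i, x i ∉ q := by
    by_contra h
    push Not at h
    have h' : maximalIdeal S ^ n ≤ q := hxI ▸ Ideal.span_le.2 (Set.range_subset_iff.2 h)
    exact hq ((IsLocalRing.le_maximalIdeal (Ideal.IsPrime.ne_top inferInstance)).antisymm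
      (Ideal.IsPrime.le_of_pow_le h'))
  let t := x i₀
  -- the colon ideal
  let K := q ⊔ Ideal.span {t}
  let Cq := K.colon (Set.range x)
  have haC : a i₀ ∈ Cq.map ψ := by
    letI := ψ.toAlgebra
    haveI := hψ
    refine mem_map_colon_of_flat (B := T) K x (a i₀) fun i => ?_
    show a i₀ * ψ (x i) ∈ K.map ψ
    have : a i₀ * ψ (x i) = ψ t * a i + (a i₀ * a' i - a i * a' i₀) := by
      rw [← hsum i, ← hsum i₀]; ring
    rw [this, Ideal.map_sup, Ideal.map_span, Set.image_singleton]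
    exact add_mem (Ideal.mem_sup_right (Ideal.mul_mem_right _ _ (Ideal.mem_span_singleton_self _)))
      (Ideal.mem_sup_left (sub_mem (hcross _ _) (hcross _ _)))
  obtain ⟨b, hbC, hb⟩ : ∃ b ∈ Cq, a i₀ - ψ b ∈ ((maximalIdeal S ^ (n + n)) * Cq).map ψ := by
    suffices h : ∀ r ∈ Ideal.span (ψ '' (Cq : Set S)),
        ∃ b ∈ Cq, r - ψ b ∈ ((maximalIdeal S ^ (n + n)) * Cq).map ψ from h _ haC
    intro r hr
    induction hr using Submodule.span_induction with
    | mem r hr =>
      obtain ⟨u, hu, rfl⟩ := hr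
      exact ⟨u, hu, by rw [sub_self]; exact zero_mem _⟩
    | zero => exact ⟨0, zero_mem _, by rw [map_zero, sub_zero]; exact zero_mem _⟩
    | add r r' _ _ h h' =>
      obtain ⟨s₁, hs₁, h₁⟩ := h
      obtain ⟨s₂, hs₂, h₂⟩ := h'
      refine ⟨s₁ + s₂, add_mem hs₁ hs₂, ?_⟩
      have : r + r' - ψ (s₁ + s₂) = (r - ψ s₁) + (r' - ψ s₂) := by rw [map_add]; ring
      rw [this]; exact add_mem h₁ h₂
    | smul c r _ h =>
      obtain ⟨s', hs', h'⟩ := h
      obtain ⟨sc, hc⟩ := exists_sub_mem_map_pow ψ hm hres (n + n) c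
      refine ⟨sc * s', Cq.mul_mem_left _ hs', ?_⟩
      have : c • r - ψ (sc * s') = (c - ψ sc) * ψ s' + c * (r - ψ s') := by
        rw [map_mul, smul_eq_mul]; ring
      rw [this]
      refine add_mem ?_ (Ideal.mul_mem_left _ _ h')
      rw [Ideal.map_mul]
      exact Ideal.mul_mem_mul hc (Ideal.mem_map_of_mem ψ hs')
  have hIC : maximalIdeal S ^ (n + n) * Cq ≤ q ⊔ Ideal.span {t} * maximalIdeal S ^ n := by
    rw [pow_add, mul_assoc]
    have h1 : maximalIdeal S ^ n * Cq ≤ K := by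
      rw [Ideal.mul_le]
      intro r hr c hc
      rw [← hxI] at hr
      induction hr using Submodule.span_induction with
      | mem r hr => rw [mul_comm]; exact Submodule.mem_colon.1 hc r hr
      | zero => rw [zero_mul]; exact zero_mem _
      | add r r' _ _ h h' => rw [add_mul]; exact add_mem h h'
      | smul s r _ h => rw [smul_eq_mul, mul_assoc]; exact K.mul_mem_left _ h
    refine (Ideal.mul_mono_right h1).trans ?_
    rw [Ideal.mul_sup, mul_comm _ (Ideal.span _)]
    exact sup_le_sup_right Ideal.mul_le_right _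
  obtain ⟨j, hj, z, hz, hjz⟩ := Submodule.mem_sup.1 (show a i₀ - ψ b ∈ J ⊔ Ideal.span {ψ t} * (maximalIdeal S ^ n).map ψ by
    have h := Ideal.map_mono hIC hb
    rwa [Ideal.map_sup, Ideal.map_mul, Ideal.map_span, Set.image_singleton] at h)
  obtain ⟨δ, hδ, rfl⟩ := Ideal.mem_span_singleton_mul.1 hz
  have hδm : δ ∈ maximalIdeal T := hm ▸ Ideal.map_mono (Ideal.pow_le_self (by omega)) hδ
  obtain ⟨δ', hδ'm, hδ'⟩ : ∃ δ' ∈ maximalIdeal T, a i₀ * δ - ψ t * δ' ∈ J := by
    suffices h : ∀ r ∈ (maximalIdeal S ^ n).map ψ, ∃ δ' ∈ maximalIdeal T, a i₀ * r - ψ t * δ' ∈ J from h δ hδ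
    intro r hr
    rw [← hxI, Ideal.map_span] at hr
    induction hr using Submodule.span_induction with
    | mem r hr =>
      obtain ⟨_, ⟨i, rfl⟩, rfl⟩ := hr
      refine ⟨a i, IsLocalRing.le_maximalIdeal (Ideal.IsPrime.ne_top inferInstance) (hAkP (haA i)), ?_⟩
      have : a i₀ * ψ (x i) - ψ t * a i = a i₀ * a' i - a i * a' i₀ := by
        rw [← hsum i, ← hsum i₀]; ring
      rw [this]
      exact sub_mem (hcross _ _) (hcross _ _)
    | zero => exact ⟨0, zero_mem _, by simp⟩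
    | add r r' _ _ h h' =>
      obtain ⟨d₁, hd₁, h₁⟩ := h
      obtain ⟨d₂, hd₂, h₂⟩ := h'
      refine ⟨d₁ + d₂, add_mem hd₁ hd₂, ?_⟩
      have : a i₀ * (r + r') - ψ t * (d₁ + d₂) = (a i₀ * r - ψ t * d₁) + (a i₀ * r' - ψ t * d₂) := by ring
      rw [this]; exact add_mem h₁ h₂
    | smul c r _ h =>
      obtain ⟨d, hd, h'⟩ := h
      refine ⟨c * d, Ideal.mul_mem_left _ _ hd, ?_⟩
      have : a i₀ * (c • r) - ψ t * (c * d) = c * (a i₀ * r - ψ t * d) := by rw [smul_eq_mul]; ring
      rw [this]; exact J.mul_mem_left _ h'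
  have hh : b * (b - t) ∈ q ⊔ Ideal.span {t ^ 2} * maximalIdeal S := by
    rw [← hcomap (q ⊔ _), Ideal.mem_comap, Ideal.map_sup, Ideal.map_mul, Ideal.map_span, Set.image_singleton,
      hm, map_mul, map_sub, map_pow]
    have : ψ b * (ψ b - ψ t) = (-(a i₀ * a' i₀) - 2 * ψ t * (a i₀ * δ - ψ t * δ')
        + j * (j + 2 * ψ t * δ - 2 * a i₀ + ψ t)) + ψ t ^ 2 * (-2 * δ' + δ * δ + δ) := by
      have h1 : ψ b = a i₀ - j - ψ t * δ := by linear_combination hjz
      have h2 : a' i₀ = ψ t - a i₀ := by linear_combination hsum i₀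
      rw [h1, h2]; ring
    rw [this]
    refine add_mem (Ideal.mem_sup_left (add_mem (sub_mem (neg_mem (hcross _ _)) ?_) (J.mul_mem_right _ hj)))
      (Ideal.mem_sup_right (Ideal.mul_mem_mul (Ideal.mem_span_singleton_self _) ?_))
    · exact J.mul_mem_left _ hδ'
    · exact add_mem (add_mem (Ideal.mul_mem_left _ _ hδ'm) (Ideal.mul_mem_left _ _ hδm)) hδm
  obtain ⟨u, hu, v, hv, huv⟩ := Submodule.mem_sup.1 hh
  obtain ⟨d, hd, rfl⟩ := Ideal.mem_span_singleton_mul.1 hv
  obtain ⟨c₀, hc₀, -⟩ := HenselianLocalRing.is_henselian (X ^ 2 - X - Polynomial.C d) (by monicity!) 0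
    (by simpa using hd) (by simp)
  simp only [IsRoot, eval_sub, eval_pow, eval_X, eval_C] at hc₀
  have hprod : (b - t * c₀) * (b - t * (1 - c₀)) ∈ q := by
    have : (b - t * c₀) * (b - t * (1 - c₀)) = u := by
      linear_combination -huv + (-(t ^ 2)) * hc₀
    rwa [this]
  obtain ⟨c, hc⟩ : ∃ c, b - t * c ∈ q := by
    rcases Ideal.IsPrime.mem_or_mem inferInstance hprod with h | h
    · exact ⟨_, h⟩
    · exact ⟨_, h⟩
  let ε := ψ c + δ
  have hε : a i₀ - ψ t * ε ∈ J := by
    have : a i₀ - ψ t * ε = j + ψ (b - t * c) := by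
      simp only [ε, map_sub, map_mul]
      linear_combination -hjz
    rw [this]
    exact add_mem hj (Ideal.mem_map_of_mem ψ hc)
  have hεP : ε ∈ P := by
    refine (Ideal.IsPrime.mem_or_mem inferInstance ?_).resolve_left (fun h => hi₀ (hP ▸ h : x i₀ ∈ q))
    have := P.sub_mem (hAkP (haA i₀)) (hJP hε)
    rwa [sub_sub_cancel] at this
  have hεQ : 1 - ε ∈ Q := by
    refine (Ideal.IsPrime.mem_or_mem inferInstance ?_).resolve_left (fun h => hi₀ (hQ ▸ h : x i₀ ∈ q))
    have : ψ t * (1 - ε) = (a i₀ - ψ t * ε) + a' i₀ := by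
      linear_combination -(hsum i₀)
    rw [this]
    exact Q.add_mem (hJQ hε) (hBkQ (ha'B i₀))
  rcases IsLocalRing.isUnit_or_isUnit_one_sub_self ε with h | h
  · exact Ideal.IsPrime.ne_top inferInstance (Ideal.eq_top_of_isUnit_mem _ hεP h)
  · exact Ideal.IsPrime.ne_top inferInstance (Ideal.eq_top_of_isUnit_mem _ hεQ h)

/-- A minimal prime of dimension at most one is the only one over its trace. -/
theorem radical_map_eq_of_dim_one [HenselianLocalRing S] [IsNoetherianRing S] [IsNoetherianRing T]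
    (hψ : letI := ψ.toAlgebra; Module.FaithfullyFlat S T)
    (hm : (maximalIdeal S).map ψ = maximalIdeal T)
    (hres : ∀ y : T, ∃ s, y - ψ s ∈ maximalIdeal T)
    {P : Ideal T} (hP : P ∈ minimalPrimes T) (hdim : Ring.KrullDimLE 1 (T ⧸ P)) :
    ((P.comap ψ).map ψ).radical = P := by
  classical
  haveI := hP.1.1
  haveI hqp : (P.comap ψ).IsPrime := Ideal.IsPrime.comap ψ
  let J := (P.comap ψ).map ψ
  have hPJ : P ∈ J.minimalPrimes :=
    ⟨⟨hP.1.1, Ideal.map_comap_le⟩, fun R ⟨hR, _⟩ hle => hP.2 ⟨hR, bot_le⟩ hle⟩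
  have hfin : J.minimalPrimes.Finite := Ideal.finite_minimalPrimes_of_isNoetherianRing T J
  let O := hfin.toFinset.erase P
  let B : Ideal T := O.inf id
  have honly : ∀ R ∈ J.minimalPrimes, R = P := by
    intro Q hQ
    by_contra hne
    haveI := hQ.1.1
    obtain ⟨hQmin, hQc⟩ := (mem_minimalPrimes_map_iff ψ hψ (comap_mem_minimalPrimes ψ hψ hP)).1 hQ
    have hqm : P.comap ψ ≠ maximalIdeal S := fun h => by
      have e : maximalIdeal T ≤ Q := by rw [← hm, ← h]; exact hQ.1.2
      have e' : maximalIdeal T ≤ P := by rw [← hm, ← h]; exact Ideal.map_comap_le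
      exact hne (((IsLocalRing.le_maximalIdeal hQ.1.1.ne_top).antisymm e).trans
        ((IsLocalRing.le_maximalIdeal hP.1.1.ne_top).antisymm e').symm)
    refine not_separated ψ hψ hm hres (P.comap ψ) hqm P Q rfl hQc P B le_rfl
      (Finset.inf_le (f := id) (Finset.mem_erase.2 ⟨hne, hfin.mem_toFinset.2 hQ⟩)) ?_ ?_
    · rw [← Ideal.sInf_minimalPrimes]
      refine le_sInf fun R hR => ?_
      by_cases hRP : R = P
      · exact hRP ▸ Ideal.mul_le_left
      · exact Ideal.mul_le_right.trans (Finset.inf_le (f := id) (Finset.mem_erase.2 ⟨hRP, hfin.mem_toFinset.2 hR⟩))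
    · rw [Ideal.radical_eq_sInf]
      refine le_sInf fun R ⟨hR, hRp⟩ => ?_
      have hPR : P ≤ R := le_sup_left.trans hR
      by_contra hRm
      haveI := hRp
      haveI : (R.map (Ideal.Quotient.mk P)).IsPrime :=
        Ideal.map_isPrime_of_surjective Ideal.Quotient.mk_surjective (by rwa [Ideal.mk_ker])
      have hback : (R.map (Ideal.Quotient.mk P)).comap (Ideal.Quotient.mk P) = R := by
        rw [Ideal.comap_map_of_surjective _ Ideal.Quotient.mk_surjective, ← RingHom.ker_eq_comap_bot, Ideal.mk_ker]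
        exact sup_eq_left.2 hPR
      rcases Ring.krullDimLE_one_iff.1 hdim (R.map (Ideal.Quotient.mk P)) ‹_› with h | h
      · rw [IsDomain.minimalPrimes_eq_singleton_bot, Set.mem_singleton_iff] at h
        have hRP : R = P := by rw [← hback, h, ← RingHom.ker_eq_comap_bot, Ideal.mk_ker]
        subst hRP
        obtain ⟨P', hP'O, hP'⟩ := (Ideal.IsPrime.inf_le' hRp).1 (le_sup_right.trans hR : O.inf id ≤ R)
        obtain ⟨hne', hP'J⟩ := Finset.mem_erase.1 hP'O
        have hm' := ((mem_minimalPrimes_map_iff ψ hψ (comap_mem_minimalPrimes ψ hψ hP)).1 (hfin.mem_toFinset.1 hP'J)).1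
        exact hne' (le_antisymm hP' (hP.2 ⟨hm'.1.1, bot_le⟩ hP'))
      · have hmax : R.IsMaximal := hback ▸ Ideal.comap_isMaximal_of_surjective _ Ideal.Quotient.mk_surjective (H := h)
        exact hRm (IsLocalRing.eq_maximalIdeal hmax).ge
  rw [← Ideal.sInf_minimalPrimes]
  exact le_antisymm (sInf_le hPJ) (le_sInf fun R hR => (honly R hR).ge)

end Groth.Agent.BrnchLib
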