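import Groth.Agent.BrnchLib.Separate

/-!
# The henselization and the completion have the same connected punctured spectrum
-/

universe u

set_option linter.style.haveILetI false

open IsLocalRing

namespace Groth.Agent.BrnchLib

section

variable (A : Type u) [CommRing A] [IsLocalRing A] [IsNoetherianRing A] (S : Type u) [CommRing S]
  [IsLocalRing S] [Algebra A S] [IsLocalHom (algebraMap A S)] [_root_.Hensel.IsHenselization A S]
  (ψ : S →+* AdicCompletion (maximalIdeal A) A)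
  (hψ : ψ.comp (algebraMap A S) = algebraMap A (AdicCompletion (maximalIdeal A) A))

include hψ

omit [IsNoetherianRing A] in
theorem map_maximalIdeal_psi [IsNoetherianRing A] :
    (maximalIdeal S).map ψ = maximalIdeal (AdicCompletion (maximalIdeal A) A) := by
  rw [← Groth.Agent.Hensel.map_maximalIdeal_of_isHenselization (R := A) (S := S), Ideal.map_map, hψ]
  exact AdicCompletion.maximalIdeal_eq_map.symm

theorem exists_sub_psi_mem (y : AdicCompletion (maximalIdeal A) A) :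
    ∃ s, y - ψ s ∈ maximalIdeal (AdicCompletion (maximalIdeal A) A) := by
  obtain ⟨c, hc⟩ := (AdicCompletion.residueField_map_bijective_of_fg
    (R := A) (maximalIdeal A).fg_of_isNoetherianRing).2 (residue _ y)
  obtain ⟨a, rfl⟩ := residue_surjective c
  rw [ResidueField.map_residue] at hc
  refine ⟨algebraMap A S a, ?_⟩
  rw [← residue_eq_zero_iff, map_sub, ← RingHom.comp_apply ψ, hψ, hc, sub_self]

end

/-- Connectedness of the punctured spectrum passes between a henselian local ring and its completion. -/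
theorem isPreconnected_punctured_iff {S T : Type u} [CommRing S] [CommRing T] [IsLocalRing T]
    [HenselianLocalRing S] [IsNoetherianRing S] [IsNoetherianRing T] (ψ : S →+* T)
    (hψ : letI := ψ.toAlgebra; Module.FaithfullyFlat S T)
    (hm : (maximalIdeal S).map ψ = maximalIdeal T)
    (hres : ∀ y : T, ∃ s, y - ψ s ∈ maximalIdeal T) :
    IsPreconnected ({closedPoint T}ᶜ : Set (PrimeSpectrum T)) ↔
      IsPreconnected ({closedPoint S}ᶜ : Set (PrimeSpectrum S)) := by
  classical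
  let f := PrimeSpectrum.comap ψ
  have hsurj : Function.Surjective f := by
    letI := ψ.toAlgebra
    haveI := hψ
    exact PrimeSpectrum.comap_surjective_of_faithfullyFlat (B := T)
  have hmT : (maximalIdeal T).comap ψ = maximalIdeal S := by
    letI := ψ.toAlgebra
    haveI := hψ
    rw [← hm]
    exact Ideal.comap_map_eq_self_of_faithfullyFlat (B := T) _
  have hcl : ∀ P : PrimeSpectrum T, f P = closedPoint S ↔ P = closedPoint T := fun P => by
    refine ⟨fun h => PrimeSpectrum.ext ?_, fun h => h ▸ PrimeSpectrum.ext hmT⟩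
    refine (IsLocalRing.le_maximalIdeal P.isPrime.ne_top).antisymm ?_
    show maximalIdeal T ≤ P.asIdeal
    rw [← hm]
    exact Ideal.map_le_iff_le_comap.2 (congr(($h).asIdeal)).ge
  have himage : f '' ({closedPoint T}ᶜ : Set (PrimeSpectrum T)) = {closedPoint S}ᶜ := by
    ext q
    constructor
    · rintro ⟨P, hP, rfl⟩ h
      exact hP ((hcl P).1 h)
    · intro hq
      obtain ⟨P, rfl⟩ := hsurj q
      exact ⟨P, fun h => hq ((hcl P).2 h), rfl⟩
  refine ⟨fun h => himage ▸ h.image f (PrimeSpectrum.continuous_comap ψ).continuousOn, fun h => ?_⟩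
  rw [isPreconnected_closed_iff]
  intro t t' ht ht' hcov hne hne'
  by_contra hdis
  rw [Set.not_nonempty_iff_eq_empty] at hdis
  have hboth : ∀ P : PrimeSpectrum T, P ∈ t → P ∈ t' → P = closedPoint T := fun P h1 h2 => by
    by_contra hP
    exact Set.notMem_empty P (hdis ▸ ⟨hP, h1, h2⟩)
  obtain ⟨I, rfl⟩ := (PrimeSpectrum.isClosed_iff_zeroLocus_ideal t).1 ht
  obtain ⟨I', rfl⟩ := (PrimeSpectrum.isClosed_iff_zeroLocus_ideal t').1 ht'
  have hup : ∀ (K : Ideal T) (P R : PrimeSpectrum T), P.asIdeal ≤ R.asIdeal →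
      P ∈ PrimeSpectrum.zeroLocus (K : Set T) → R ∈ PrimeSpectrum.zeroLocus (K : Set T) :=
    fun K P R hle hP => (PrimeSpectrum.mem_zeroLocus _ _).2 (Set.Subset.trans ((PrimeSpectrum.mem_zeroLocus _ _).1 hP) hle)
  -- the fibres do not meet both sides
  have key : ∀ P Q : PrimeSpectrum T, P ≠ closedPoint T → P ∈ PrimeSpectrum.zeroLocus (I : Set T) →
      Q ∈ PrimeSpectrum.zeroLocus (I' : Set T) → f P = f Q → False := by
    intro P Q hP hPI hQI hfPQ
    refine not_separated ψ hψ hm hres (f P).asIdeal (fun h => hP ((hcl P).1 (PrimeSpectrum.ext h)))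
      P.asIdeal Q.asIdeal rfl (congr(($hfPQ).asIdeal)).symm I I' hPI hQI ?_ ?_
    · rw [Ideal.radical_eq_sInf]
      refine le_sInf fun R ⟨_, hR⟩ => ?_
      by_cases hR' : (⟨R, hR⟩ : PrimeSpectrum T) = closedPoint T
      · obtain rfl : R = maximalIdeal T := congr(($hR').asIdeal)
        exact (Ideal.mul_le_right).trans (le_trans hQI (IsLocalRing.le_maximalIdeal Q.isPrime.ne_top))
      · rcases hcov hR' with h | h
        · exact Ideal.mul_le_left.trans h
        · exact Ideal.mul_le_right.trans h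
    · rw [Ideal.radical_eq_sInf]
      refine le_sInf fun R ⟨hR, hRp⟩ => ?_
      exact (congr(($(hboth ⟨R, hRp⟩ (le_sup_left.trans hR) (le_sup_right.trans hR))).asIdeal)).ge
  let side : Ideal T → PrimeSpectrum S → Prop := fun K q =>
    ∃ P : PrimeSpectrum T, P ≠ closedPoint T ∧ P ∈ PrimeSpectrum.zeroLocus (K : Set T) ∧ f P = q
  have hside : ∀ q : PrimeSpectrum S, q ≠ closedPoint S → side I q ∨ side I' q := fun q hq => by
    obtain ⟨P, rfl⟩ := hsurj q
    have hP : P ≠ closedPoint T := fun h => hq ((hcl P).2 h)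
    rcases hcov hP with h | h
    · exact Or.inl ⟨P, hP, h, rfl⟩
    · exact Or.inr ⟨P, hP, h, rfl⟩
  have hexcl : ∀ q, side I q → ¬ side I' q := by
    rintro q ⟨P, hP, hPI, hPq⟩ ⟨Q, -, hQI, hQq⟩
    exact key P Q hP hPI hQI (hPq.trans hQq.symm)
  have hdown : ∀ (q q₁ : PrimeSpectrum S), q.asIdeal ≤ q₁.asIdeal → q₁ ≠ closedPoint S →
      (side I q → side I q₁) ∧ (side I' q → side I' q₁) := by
    intro q q₁ hle hq₁
    obtain ⟨Q₁, rfl⟩ := hsurj q₁
    have hQ₁ : Q₁ ≠ closedPoint T := fun h => hq₁ ((hcl Q₁).2 h)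
    obtain ⟨Q, hQle, hQ⟩ : ∃ Q : PrimeSpectrum T, Q.asIdeal ≤ Q₁.asIdeal ∧ f Q = q := by
      letI := ψ.toAlgebra
      haveI := hψ
      haveI : Q₁.asIdeal.LiesOver (f Q₁).asIdeal := ⟨rfl⟩
      obtain ⟨P', hP'le, hP', ho⟩ := Ideal.exists_ideal_le_liesOver_of_le (p := q.asIdeal)
        (q := (f Q₁).asIdeal) Q₁.asIdeal hle
      exact ⟨⟨P', hP'⟩, hP'le, PrimeSpectrum.ext ho.over.symm⟩
    have hQne : Q ≠ closedPoint T := fun h => hQ₁ (PrimeSpectrum.ext
      ((IsLocalRing.le_maximalIdeal Q₁.isPrime.ne_top).antisymm ((congr(($h).asIdeal)).ge.trans hQle)))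
    constructor
    · intro hq
      refine ⟨Q₁, hQ₁, ?_, rfl⟩
      rcases hcov hQne with h | h
      · exact hup I Q Q₁ hQle h
      · exact absurd ⟨Q, hQne, h, hQ⟩ (hexcl q hq)
    · intro hq
      refine ⟨Q₁, hQ₁, ?_, rfl⟩
      rcases hcov hQne with h | h
      · exact absurd hq (hexcl q ⟨Q, hQne, h, hQ⟩)
      · exact hup I' Q Q₁ hQle h
  let Z : Ideal T → Set (PrimeSpectrum S) := fun K =>
    ⋃ μ ∈ {μ : Ideal S | μ ∈ minimalPrimes S ∧ ∃ h : μ.IsPrime, side K ⟨μ, h⟩}, PrimeSpectrum.zeroLocus (μ : Set S)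
  have hZ : ∀ K, IsClosed (Z K) := fun K =>
    ((minimalPrimes.finite_of_isNoetherianRing S).subset fun μ hμ => hμ.1).isClosed_biUnion
      fun μ _ => PrimeSpectrum.isClosed_zeroLocus _
  have hmin : ∀ q : PrimeSpectrum S, q ≠ closedPoint S → ∃ μ : PrimeSpectrum S, μ.asIdeal ∈ minimalPrimes S ∧
      μ.asIdeal ≤ q.asIdeal ∧ μ ≠ closedPoint S := fun q hq => by
    obtain ⟨μ, hμ, hle⟩ := Ideal.exists_minimalPrimes_le (I := (⊥ : Ideal S)) (J := q.asIdeal) bot_le
    exact ⟨⟨μ, hμ.1.1⟩, hμ, hle, fun h => hq (PrimeSpectrum.ext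
      ((IsLocalRing.le_maximalIdeal q.isPrime.ne_top).antisymm ((congr(($h).asIdeal)).ge.trans hle)))⟩
  have hcovS : ({closedPoint S}ᶜ : Set (PrimeSpectrum S)) ⊆ Z I ∪ Z I' := fun q hq => by
    obtain ⟨μ, hμ, hle, hμne⟩ := hmin q hq
    rcases hside μ hμne with h | h
    · exact Or.inl (Set.mem_biUnion (x := μ.asIdeal) ⟨hμ, μ.isPrime, h⟩ hle)
    · exact Or.inr (Set.mem_biUnion (x := μ.asIdeal) ⟨hμ, μ.isPrime, h⟩ hle)
  have hZside : ∀ q : PrimeSpectrum S, q ≠ closedPoint S → (q ∈ Z I → side I q) ∧ (q ∈ Z I' → side I' q) :=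
    fun q hq => ⟨fun hqZ => by
      obtain ⟨μ, ⟨-, hμp, hμs⟩, hle⟩ := Set.mem_iUnion₂.1 hqZ
      exact (hdown ⟨μ, hμp⟩ q hle hq).1 hμs, fun hqZ => by
      obtain ⟨μ, ⟨-, hμp, hμs⟩, hle⟩ := Set.mem_iUnion₂.1 hqZ
      exact (hdown ⟨μ, hμp⟩ q hle hq).2 hμs⟩
  have hneS : ∀ K, (K = I ∨ K = I') → (({closedPoint T}ᶜ : Set (PrimeSpectrum T)) ∩ PrimeSpectrum.zeroLocus (K : Set T)).Nonempty →
      (({closedPoint S}ᶜ : Set (PrimeSpectrum S)) ∩ Z K).Nonempty := by
    rintro K hK ⟨P, hP, hPK⟩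
    have hq : f P ≠ closedPoint S := fun h => hP ((hcl P).1 h)
    refine ⟨f P, hq, ?_⟩
    rcases hcovS hq with h | h <;> rcases hK with rfl | rfl
    · exact h
    · exact absurd ⟨P, hP, hPK, rfl⟩ (hexcl _ ((hZside _ hq).1 h))
    · exact absurd ((hZside _ hq).2 h) (hexcl _ ⟨P, hP, hPK, rfl⟩)
    · exact h
  obtain ⟨q, hq, hq1, hq2⟩ := isPreconnected_closed_iff.1 h _ _ (hZ I) (hZ I') hcovS
    (hneS I (Or.inl rfl) hne) (hneS I' (Or.inr rfl) hne')
  exact hexcl q ((hZside q hq).1 hq1) ((hZside q hq).2 hq2)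

end Groth.Agent.BrnchLib
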