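import Groth.Agent.BrnchLib.SmoothBranch

/-! The number of branches is invariant under smooth maps. -/

set_option autoImplicit false
set_option linter.style.haveILetI false
set_option maxHeartbeats 800000
set_option synthInstance.maxHeartbeats 100000

universe u

open IsLocalRing TensorProduct

namespace Groth.Agent.BrnchLib

theorem bijOn_minimalPrimes_equiv {B B' : Type u} [CommRing B] [CommRing B'] (e : B ≃+* B') :
    Set.BijOn (Ideal.comap e.toRingHom) (minimalPrimes B') (minimalPrimes B) := by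
  have hinv : ∀ I : Ideal B', (I.comap e.toRingHom).comap e.symm.toRingHom = I := fun I => by
    ext x
    rw [Ideal.mem_comap, Ideal.mem_comap]
    show e (e.symm x) ∈ I ↔ _
    rw [e.apply_symm_apply]
  have hinv' : ∀ I : Ideal B, (I.comap e.symm.toRingHom).comap e.toRingHom = I := fun I => by
    ext x
    rw [Ideal.mem_comap, Ideal.mem_comap]
    show e.symm (e x) ∈ I ↔ _
    rw [e.symm_apply_apply]
  refine ⟨fun Q hQ => ?_, fun Q _ Q' _ h => by rw [← hinv Q, ← hinv Q']; exact congrArg _ h,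
    fun P hP => ⟨P.comap e.symm.toRingHom, ?_, hinv' P⟩⟩
  · haveI := hQ.1.1
    refine ⟨⟨Ideal.IsPrime.comap _, bot_le⟩, fun U ⟨hU, _⟩ hle => ?_⟩
    haveI := hU
    have := hQ.2 ⟨Ideal.IsPrime.comap e.symm.toRingHom, bot_le⟩ ((Ideal.comap_mono hle).trans (hinv Q).le)
    exact (Ideal.comap_mono this).trans (hinv' U).le
  · haveI := hP.1.1
    refine ⟨⟨Ideal.IsPrime.comap _, bot_le⟩, fun U ⟨hU, _⟩ hle => ?_⟩
    haveI := hU
    have := hP.2 ⟨Ideal.IsPrime.comap e.toRingHom, bot_le⟩ ((Ideal.comap_mono hle).trans (hinv' P).le)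
    exact (Ideal.comap_mono this).trans (hinv U).le

theorem isLocalHom_quotient {A B : Type u} [CommRing A] [CommRing B] [IsLocalRing B] [Algebra A B]
    [IsLocalHom (algebraMap A B)] (I : Ideal A) [Nontrivial (B ⧸ I.map (algebraMap A B))] :
    IsLocalHom (algebraMap (A ⧸ I) (B ⧸ I.map (algebraMap A B))) := ⟨fun x hx => by
  obtain ⟨a, rfl⟩ := Ideal.Quotient.mk_surjective x
  haveI : IsLocalHom (Ideal.Quotient.mk (I.map (algebraMap A B))) := .of_surjective _ Ideal.Quotient.mk_surjective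
  have h1 : IsUnit (algebraMap A B a) :=
    (isUnit_map_iff (Ideal.Quotient.mk (I.map (algebraMap A B))) _).1 hx
  exact ((isUnit_map_iff (algebraMap A B) a).1 h1).map _⟩

variable {R S : Type u} [CommRing R] [CommRing S] [Algebra R S] [Algebra.Smooth R S]
  {Rh Sh : Type u} [CommRing Rh] [IsLocalRing Rh] [Algebra R Rh] [CommRing Sh] [IsLocalRing Sh]
  [Algebra S Sh] [Algebra R Sh] [IsScalarTower R S Sh] [Algebra Rh Sh] [IsScalarTower R Rh Sh]
  [IsLocalHom (algebraMap Rh Sh)]


theorem tensorPt_left (a : Rh) :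
    Groth.Agent.Hensel.tensorPt R S Rh Sh ((Algebra.TensorProduct.includeLeftRingHom : Rh →+* Rh ⊗[R] S) a) = algebraMap Rh Sh a := by
  show Groth.Agent.Hensel.tensorPt R S Rh Sh (a ⊗ₜ[R] (1 : S)) = _
  rw [Algebra.TensorProduct.lift_tmul, map_one, mul_one]
  rfl

theorem map_le_tensorPrime (P : Ideal Rh) [P.IsPrime] : P.map (Algebra.TensorProduct.includeLeftRingHom : Rh →+* Rh ⊗[R] S) ≤ (Groth.Agent.Hensel.tensorPrime R S Rh Sh) :=
  Ideal.map_le_iff_le_comap.2 fun a ha => by
    show Groth.Agent.Hensel.tensorPt R S Rh Sh ((Algebra.TensorProduct.includeLeftRingHom : Rh →+* Rh ⊗[R] S) a) ∈ maximalIdeal Sh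
    rw [tensorPt_left]
    exact IsLocalRing.le_maximalIdeal (Ideal.IsPrime.ne_top ‹P.IsPrime›) ha |>
      fun h hu => h ((isUnit_map_iff (algebraMap Rh Sh) a).1 hu)

theorem redBase_comap (P : Ideal Rh) [P.IsPrime] (Q' : Ideal ((Rh ⧸ P) ⊗[R] S))
    (hQ' : Q'.comap (redBase R S P) = (Groth.Agent.Hensel.tensorPrime R S Rh Sh)) : Q'.comap (algebraMap (Rh ⧸ P) _) = maximalIdeal (Rh ⧸ P) := by
  haveI : IsLocalHom (Ideal.Quotient.mk P) := .of_surjective _ Ideal.Quotient.mk_surjective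
  ext x
  obtain ⟨a, rfl⟩ := Ideal.Quotient.mk_surjective x
  have e : algebraMap (Rh ⧸ P) ((Rh ⧸ P) ⊗[R] S) (Ideal.Quotient.mk P a) = redBase R S P ((Algebra.TensorProduct.includeLeftRingHom : Rh →+* Rh ⊗[R] S) a) := by
    simp [redBase]
  rw [Ideal.mem_comap, e, ← Ideal.mem_comap, hQ', IsLocalRing.mem_maximalIdeal, mem_nonunits_iff,
    isUnit_map_iff, ← mem_nonunits_iff, ← IsLocalRing.mem_maximalIdeal]
  show Groth.Agent.Hensel.tensorPt R S Rh Sh ((Algebra.TensorProduct.includeLeftRingHom : Rh →+* Rh ⊗[R] S) a) ∈ maximalIdeal Sh ↔ _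
  rw [tensorPt_left, IsLocalRing.mem_maximalIdeal, mem_nonunits_iff, isUnit_map_iff,
    ← mem_nonunits_iff, ← IsLocalRing.mem_maximalIdeal]

variable (E : Type u) [CommRing E] [IsLocalRing E] [Algebra (Localization.AtPrime (Groth.Agent.Hensel.tensorPrime R S Rh Sh)) E]
  [IsLocalHom (algebraMap (Localization.AtPrime (Groth.Agent.Hensel.tensorPrime R S Rh Sh)) E)]

/-- The bijection, given the reduction modulo each minimal prime. -/
theorem encard_minimalPrimes_eq (hH : Groth.Agent.Hensel.IsHenzLike (Localization.AtPrime (Groth.Agent.Hensel.tensorPrime R S Rh Sh)) E)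
    (e : E ≃+* Sh) (he : ∀ d, e (Groth.Agent.Hensel.toE R S Rh Sh E d) = Groth.Agent.Hensel.tensorPt R S Rh Sh d)
    (huniq : ∀ P ∈ minimalPrimes Rh, CAlgX.HasUniqueMinimalPrime
      (E ⧸ (P.map ((algebraMap (Rh ⊗[R] S) (Localization.AtPrime (Groth.Agent.Hensel.tensorPrime R S Rh Sh))).comp (Algebra.TensorProduct.includeLeftRingHom : Rh →+* Rh ⊗[R] S))).map
        (algebraMap (Localization.AtPrime (Groth.Agent.Hensel.tensorPrime R S Rh Sh)) E))) :
    (minimalPrimes Rh).encard = (minimalPrimes Sh).encard := by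
  let φ : Rh →+* E := (Groth.Agent.Hensel.toE R S Rh Sh E).comp (Algebra.TensorProduct.includeLeftRingHom : Rh →+* Rh ⊗[R] S)
  have heφ : e.toRingHom.comp φ = algebraMap Rh Sh := RingHom.ext fun a => (he _).trans (tensorPt_left a)
  haveI : IsLocalHom φ := ⟨fun a ha => (isUnit_map_iff (algebraMap Rh Sh) a).1 (heφ ▸ ha.map e.toRingHom)⟩
  have hflat : φ.Flat := by
    haveI := hH.faithfullyFlat
    refine RingHom.Flat.comp ?_ (RingHom.Flat.comp ?_ ?_)
    · exact RingHom.flat_algebraMap_iff.2 (inferInstance : Module.Flat Rh (Rh ⊗[R] S))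
    · exact RingHom.flat_algebraMap_iff.2
        (inferInstance : Module.Flat (Rh ⊗[R] S) (Localization.AtPrime (Groth.Agent.Hensel.tensorPrime R S Rh Sh)))
    · exact RingHom.flat_algebraMap_iff.2 inferInstance
  letI : Algebra Rh E := φ.toAlgebra
  haveI : Module.Flat Rh E := hflat
  haveI : IsLocalHom (algebraMap Rh E) := ‹IsLocalHom φ›
  haveI : Module.FaithfullyFlat Rh E := Module.FaithfullyFlat.of_flat_of_isLocalHom
  have h1 : Set.BijOn (Ideal.comap (algebraMap Rh E)) (minimalPrimes E) (minimalPrimes Rh) :=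
    bijOn_minimalPrimes_of_unique fun P hP => by
      have := huniq P hP
      rwa [Ideal.map_map, ← RingHom.comp_assoc] at this
  rw [← h1.image_eq, h1.injOn.encard_image, ← (bijOn_minimalPrimes_equiv e).image_eq,
    (bijOn_minimalPrimes_equiv e).injOn.encard_image]

end Groth.Agent.BrnchLib
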