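import Groth.Agent.BrnchLib.SmoothCount

/-! The number of (geometric) branches is invariant under smooth maps (S2129, S2130). -/

set_option autoImplicit false
set_option linter.style.haveILetI false
set_option maxHeartbeats 1000000
set_option synthInstance.maxHeartbeats 100000

universe u

open IsLocalRing TensorProduct

namespace Groth.Agent.BrnchLib

theorem exists_pow_mem_range {F L : Type u} [CommRing F] [CommRing L] (g : F →+* L) (p : ℕ) [ExpChar L p]
    {x y : L} (hx : ∃ (n : ℕ) (a : F), x ^ p ^ n = g a) (hy : ∃ (n : ℕ) (a : F), y ^ p ^ n = g a) :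
    (∃ (n : ℕ) (a : F), (x * y) ^ p ^ n = g a) ∧ ∃ (n : ℕ) (a : F), (x + y) ^ p ^ n = g a := by
  obtain ⟨n, a, ha⟩ := hx
  obtain ⟨m, b, hb⟩ := hy
  refine ⟨⟨n + m, a ^ p ^ m * b ^ p ^ n, ?_⟩, n + m, a ^ p ^ m + b ^ p ^ n, ?_⟩
  · rw [map_mul, map_pow, map_pow, ← ha, ← hb, mul_pow, ← pow_mul, ← pow_mul, ← pow_add, ← pow_add, add_comm m n]
  · rw [map_add, map_pow, map_pow, ← ha, ← hb, add_pow_expChar_pow (R := L) (p := p), ← pow_mul, ← pow_mul,
      ← pow_add, ← pow_add, add_comm m n]

/-- The number of branches along a smooth map with purely inseparable residue extension. -/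
theorem encard_minimalPrimes_henz {R S Ah Bh : Type u} [CommRing R] [CommRing S]
    [Algebra R S] [Algebra.Smooth R S] (q : Ideal S) [q.IsPrime] (p : Ideal R) [p.IsPrime] [q.LiesOver p]
    (hpi : @IsPurelyInseparable p.ResidueField q.ResidueField _ _
      (Ideal.ResidueField.mapₐ p q (Algebra.ofId R S) (q.over_def p)).toRingHom.toAlgebra)
    [CommRing Ah] [IsLocalRing Ah] [Algebra (Localization.AtPrime p) Ah]
    [IsLocalHom (algebraMap (Localization.AtPrime p) Ah)] [_root_.Hensel.IsHenselization (Localization.AtPrime p) Ah]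
    [CommRing Bh] [IsLocalRing Bh] [Algebra (Localization.AtPrime q) Bh]
    [IsLocalHom (algebraMap (Localization.AtPrime q) Bh)] [_root_.Hensel.IsHenselization (Localization.AtPrime q) Bh] :
    (minimalPrimes Ah).encard = (minimalPrimes Bh).encard := by
  haveI : HenselianLocalRing Ah := _root_.Hensel.IsHenselization.henselian (R := Localization.AtPrime p)
  haveI : HenselianLocalRing Bh := _root_.Hensel.IsHenselization.henselian (R := Localization.AtPrime q)
  letI : Algebra R Ah := ((algebraMap (Localization.AtPrime p) Ah).comp (algebraMap R _)).toAlgebra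
  haveI : IsScalarTower R (Localization.AtPrime p) Ah := .of_algebraMap_eq fun _ => rfl
  letI : Algebra S Bh := ((algebraMap (Localization.AtPrime q) Bh).comp (algebraMap S _)).toAlgebra
  haveI : IsScalarTower S (Localization.AtPrime q) Bh := .of_algebraMap_eq fun _ => rfl
  letI : Algebra R Bh := ((algebraMap S Bh).comp (algebraMap R S)).toAlgebra
  haveI : IsScalarTower R S Bh := .of_algebraMap_eq fun _ => rfl
  have hcom : (maximalIdeal Bh).comap (algebraMap R Bh) = p := by
    rw [IsScalarTower.algebraMap_eq R S Bh, ← Ideal.comap_comap,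
      Groth.Agent.Hensel.comap_algebraMap_atPrime S q Bh]
    exact (q.over_def p).symm
  obtain ⟨g, hg, hgl⟩ := Groth.Agent.Hensel.henz_lift (p := p) (Rh := Ah) (algebraMap R Bh) hcom
  letI : Algebra Ah Bh := g.toAlgebra
  haveI : IsScalarTower R Ah Bh := .of_algebraMap_eq fun r => (RingHom.congr_fun hg r).symm
  haveI : IsLocalHom (algebraMap Ah Bh) := hgl
  let Qt := Groth.Agent.Hensel.tensorPrime R S Ah Bh
  let DQ := Localization.AtPrime Qt
  let E := Groth.Agent.Hensel.LocalHenz DQ
  obtain ⟨e, he⟩ := Groth.Agent.Hensel.henz_tensor R S p q Ah Bh E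
  refine encard_minimalPrimes_eq E (Groth.Agent.Hensel.isHenzLike_of_isHenselization DQ E) e he fun P hP => ?_
  haveI := hP.1.1
  obtain ⟨Q', hQ'p, hQ', ⟨ε⟩⟩ := exists_redBase_equiv R S P Qt (map_le_tensorPrime P)
  let I : Ideal DQ :=
    P.map ((algebraMap (Ah ⊗[R] S) DQ).comp (Algebra.TensorProduct.includeLeftRingHom : Ah →+* Ah ⊗[R] S))
  haveI hloc : IsLocalRing (DQ ⧸ I) := ε.symm.isLocalRing
  have hI : I ≤ maximalIdeal DQ := IsLocalRing.le_maximalIdeal fun h =>
    not_subsingleton (DQ ⧸ I) (Ideal.Quotient.subsingleton_iff.2 h)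
  have hJ : I.map (algebraMap DQ E) ≤ maximalIdeal E :=
    (Ideal.map_mono hI).trans (Ideal.map_le_iff_le_comap.2 (IsLocalRing.maximalIdeal_comap (algebraMap DQ E)).ge)
  haveI : Nontrivial (E ⧸ I.map (algebraMap DQ E)) :=
    Ideal.Quotient.nontrivial_iff.2 (ne_top_of_le_ne_top (maximalIdeal.isMaximal E).ne_top hJ)
  haveI : IsLocalRing (E ⧸ I.map (algebraMap DQ E)) :=
    IsLocalRing.of_surjective' (Ideal.Quotient.mk _) Ideal.Quotient.mk_surjective
  haveI := isLocalHom_quotient (B := E) I
  haveI := Groth.Agent.S13598.result (A := DQ) (S := E) I hI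
  refine hasUniqueMinimalPrime_iff_card.2 ?_
  rw [card_minimalPrimes_henselization (DQ ⧸ I) (E ⧸ I.map (algebraMap DQ E)), isUnibranch_iff]
  refine isUnibranch_of_equiv (A := Localization.AtPrime Q') ε.symm ?_
  haveI : HenselianLocalRing (Ah ⧸ P) := by
    haveI : IsLocalRing (Ah ⧸ P) := IsLocalRing.of_surjective' (Ideal.Quotient.mk P) Ideal.Quotient.mk_surjective
    exact Groth.Agent.Hensel.henselianLocalRing_of_isIntegral_local Ah (Ah ⧸ P)
  refine isUnibranch_of_smooth_henselian (Ah ⧸ P) ((Ah ⧸ P) ⊗[R] S) Q' (redBase_comap P Q' hQ') fun c => ?_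
  obtain ⟨d, rfl⟩ := redBase_surjective R S P c
  -- work in the residue field of `Bh`
  let ρ : Ah ⊗[R] S →+* ResidueField Bh := (residue Bh).comp (Groth.Agent.Hensel.tensorPt R S Ah Bh).toRingHom
  let γ : Ah →+* ResidueField Bh := (residue Bh).comp (algebraMap Ah Bh)
  set ℓ := ringExpChar (ResidueField (Ah ⧸ P)) with hℓ
  haveI : IsLocalHom (Ideal.Quotient.mk P) := .of_surjective _ Ideal.Quotient.mk_surjective
  haveI : ExpChar (ResidueField (Ah ⧸ P)) ℓ := ringExpChar.expChar _
  haveI : ExpChar (ResidueField Ah) ℓ :=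
    (RingHom.expChar_iff (ResidueField.map (Ideal.Quotient.mk P)) (RingHom.injective _) ℓ).mpr inferInstance
  haveI : ExpChar (ResidueField Bh) ℓ :=
    (RingHom.expChar_iff (ResidueField.map (algebraMap Ah Bh)) (RingHom.injective _) ℓ).mp inferInstance
  suffices h : ∃ (n : ℕ) (a : Ah), ρ d ^ ℓ ^ n = γ a by
    obtain ⟨n, a, ha⟩ := h
    refine ⟨n, Ideal.Quotient.mk P a, ?_⟩
    have ea : algebraMap (Ah ⧸ P) ((Ah ⧸ P) ⊗[R] S) (Ideal.Quotient.mk P a) =
        redBase R S P ((Algebra.TensorProduct.includeLeftRingHom : Ah →+* Ah ⊗[R] S) a) := by simp [redBase]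
    rw [ea, ← map_pow, ← map_sub, ← Ideal.mem_comap, hQ']
    show Groth.Agent.Hensel.tensorPt R S Ah Bh _ ∈ maximalIdeal Bh
    rw [← residue_eq_zero_iff, map_sub, map_sub, sub_eq_zero, tensorPt_left, map_pow, map_pow]
    exact ha
  induction d using TensorProduct.induction_on with
  | zero => exact ⟨0, 0, by simp⟩
  | add x y hx hy => rw [map_add]; exact (exists_pow_mem_range γ ℓ hx hy).2
  | tmul a s =>
    have e1 : ρ (a ⊗ₜ[R] s) = γ a * residue Bh (algebraMap S Bh s) := by
      show residue Bh (Groth.Agent.Hensel.tensorPt R S Ah Bh (a ⊗ₜ[R] s)) = _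
      rw [Algebra.TensorProduct.lift_tmul, map_mul]
      rfl
    rw [e1]
    refine (exists_pow_mem_range γ ℓ ⟨0, a, by simp⟩ ?_).1
    letI : Algebra p.ResidueField q.ResidueField :=
      (Ideal.ResidueField.mapₐ p q (Algebra.ofId R S) (q.over_def p)).toRingHom.toAlgebra
    haveI := hpi
    obtain ⟨n, x, hx⟩ := IsPurelyInseparable.pow_mem p.ResidueField (ringExpChar p.ResidueField)
      (algebraMap S q.ResidueField s)
    let ξ : q.ResidueField →+* ResidueField Bh := ResidueField.map (algebraMap (Localization.AtPrime q) Bh)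
    haveI : ExpChar (ResidueField Bh) (ringExpChar p.ResidueField) :=
      (RingHom.expChar_iff (ξ.comp (algebraMap p.ResidueField q.ResidueField)) (RingHom.injective _) _).mp
        (ringExpChar.expChar p.ResidueField)
    have hℓ' : ringExpChar p.ResidueField = ℓ :=
      (ringExpChar.eq (ResidueField Bh) _).symm.trans (ringExpChar.eq (ResidueField Bh) ℓ)
    obtain ⟨z, hz⟩ := residue_surjective x
    refine ⟨n, algebraMap (Localization.AtPrime p) Ah z, ?_⟩
    have h1 : residue Bh (algebraMap S Bh s) = ξ (algebraMap S q.ResidueField s) := rfl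
    have h2 : ξ.comp ((algebraMap p.ResidueField q.ResidueField).comp (residue (Localization.AtPrime p))) =
        γ.comp (algebraMap (Localization.AtPrime p) Ah) := by
      refine IsLocalization.ringHom_ext p.primeCompl (RingHom.ext fun r => ?_)
      show ξ (Ideal.ResidueField.mapₐ p q (Algebra.ofId R S) (q.over_def p) (algebraMap R p.ResidueField r)) =
        residue Bh (g (algebraMap R Ah r))
      rw [AlgHom.commutes, ← RingHom.comp_apply g, hg]
      rfl
    rw [← hℓ', h1, ← map_pow, ← hx, ← hz]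
    exact RingHom.congr_fun h2 z

/-- The number of geometric branches along a smooth map. -/
theorem encard_minimalPrimes_strict {R S Ash Bsh : Type u} [CommRing R] [CommRing S] [Algebra R S]
    [Algebra.Smooth R S] (q : Ideal S) [q.IsPrime] (p : Ideal R) [p.IsPrime] [q.LiesOver p]
    [CommRing Ash] [IsLocalRing Ash] [Algebra (Localization.AtPrime p) Ash]
    [IsLocalHom (algebraMap (Localization.AtPrime p) Ash)]
    [_root_.Hensel.IsStrictHenselization (Localization.AtPrime p) Ash]
    [CommRing Bsh] [IsLocalRing Bsh] [Algebra (Localization.AtPrime q) Bsh]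
    [IsLocalHom (algebraMap (Localization.AtPrime q) Bsh)]
    [_root_.Hensel.IsStrictHenselization (Localization.AtPrime q) Bsh] :
    (minimalPrimes Ash).encard = (minimalPrimes Bsh).encard := by
  haveI : HenselianLocalRing Ash := _root_.Hensel.IsStrictHenselization.henselian (R := Localization.AtPrime p)
  haveI : HenselianLocalRing Bsh := _root_.Hensel.IsStrictHenselization.henselian (R := Localization.AtPrime q)
  letI : Algebra R Ash := ((algebraMap (Localization.AtPrime p) Ash).comp (algebraMap R _)).toAlgebra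
  haveI : IsScalarTower R (Localization.AtPrime p) Ash := .of_algebraMap_eq fun _ => rfl
  letI : Algebra S Bsh := ((algebraMap (Localization.AtPrime q) Bsh).comp (algebraMap S _)).toAlgebra
  haveI : IsScalarTower S (Localization.AtPrime q) Bsh := .of_algebraMap_eq fun _ => rfl
  letI : Algebra R Bsh := ((algebraMap S Bsh).comp (algebraMap R S)).toAlgebra
  haveI : IsScalarTower R S Bsh := .of_algebraMap_eq fun _ => rfl
  have hcom : (maximalIdeal Bsh).comap (algebraMap R Bsh) = p := by
    rw [IsScalarTower.algebraMap_eq R S Bsh, ← Ideal.comap_comap,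
      Groth.Agent.Hensel.comap_algebraMap_atPrime S q Bsh]
    exact (q.over_def p).symm
  have hA : IsSepClosure (ResidueField (Localization.AtPrime p)) (ResidueField Ash) :=
    _root_.Hensel.IsStrictHenselization.isSepClosure
  have hB : IsSepClosure (ResidueField (Localization.AtPrime q)) (ResidueField Bsh) :=
    _root_.Hensel.IsStrictHenselization.isSepClosure
  haveI := hA.separable
  haveI := hA.sep_closed
  haveI := hB.sep_closed
  obtain ⟨F, hF, hFl⟩ := Groth.Agent.Hensel.exists_localization_lift (p := p) (algebraMap R Bsh) hcom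
  letI : Algebra (ResidueField (Localization.AtPrime p)) (ResidueField Bsh) := (ResidueField.map F).toAlgebra
  let τ : ResidueField Ash →ₐ[ResidueField (Localization.AtPrime p)] ResidueField Bsh :=
    IsSepClosed.lift
  have hτ : ∀ r : R, τ.toRingHom (residue Ash (algebraMap R Ash r)) = residue Bsh (algebraMap R Bsh r) := fun r =>
    (τ.commutes (residue _ (algebraMap R (Localization.AtPrime p) r))).trans
      (congrArg (residue Bsh) (RingHom.congr_fun hF r))
  obtain ⟨g, hg, hgl, -⟩ :=
    Groth.Agent.Hensel.strict_lift (p := p) (Rh := Ash) (algebraMap R Bsh) hcom τ.toRingHom hτ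
  letI : Algebra Ash Bsh := g.toAlgebra
  haveI : IsScalarTower R Ash Bsh := .of_algebraMap_eq fun r => (RingHom.congr_fun hg r).symm
  haveI : IsLocalHom (algebraMap Ash Bsh) := hgl
  let Qt := Groth.Agent.Hensel.tensorPrime R S Ash Bsh
  let DQ := Localization.AtPrime Qt
  let E := Groth.Agent.Hensel.StrictHenz DQ
  obtain ⟨e, he⟩ := Groth.Agent.Hensel.strict_tensor R S p q Ash Bsh E
  refine encard_minimalPrimes_eq E (Groth.Agent.Hensel.isHenzLike_of_isStrictHenselization DQ E) e he fun P hP => ?_
  haveI := hP.1.1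
  obtain ⟨Q', hQ'p, hQ', ⟨ε⟩⟩ := exists_redBase_equiv R S P Qt (map_le_tensorPrime P)
  let I : Ideal DQ :=
    P.map ((algebraMap (Ash ⊗[R] S) DQ).comp (Algebra.TensorProduct.includeLeftRingHom : Ash →+* Ash ⊗[R] S))
  haveI hloc : IsLocalRing (DQ ⧸ I) := ε.symm.isLocalRing
  have hI : I ≤ maximalIdeal DQ := IsLocalRing.le_maximalIdeal fun h =>
    not_subsingleton (DQ ⧸ I) (Ideal.Quotient.subsingleton_iff.2 h)
  have hJ : I.map (algebraMap DQ E) ≤ maximalIdeal E :=
    (Ideal.map_mono hI).trans (Ideal.map_le_iff_le_comap.2 (IsLocalRing.maximalIdeal_comap (algebraMap DQ E)).ge)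
  haveI : Nontrivial (E ⧸ I.map (algebraMap DQ E)) :=
    Ideal.Quotient.nontrivial_iff.2 (ne_top_of_le_ne_top (maximalIdeal.isMaximal E).ne_top hJ)
  haveI : IsLocalRing (E ⧸ I.map (algebraMap DQ E)) :=
    IsLocalRing.of_surjective' (Ideal.Quotient.mk _) Ideal.Quotient.mk_surjective
  haveI := isLocalHom_quotient (B := E) I
  haveI := isStrictHenselization_quotient (A := DQ) (S := E) I
  refine hasUniqueMinimalPrime_iff_card.2 ?_
  rw [card_minimalPrimes_strictHenselization (DQ ⧸ I) (E ⧸ I.map (algebraMap DQ E)), isGeomUnibranch_iff]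
  refine UnibEtale.isGeomUnibranch_of_ringEquiv (A := Localization.AtPrime Q') ε.symm ?_
  haveI : IsLocalRing (Ash ⧸ P) := IsLocalRing.of_surjective' (Ideal.Quotient.mk P) Ideal.Quotient.mk_surjective
  haveI : HenselianLocalRing (Ash ⧸ P) :=
    Groth.Agent.Hensel.henselianLocalRing_of_isIntegral_local Ash (Ash ⧸ P)
  haveI : IsLocalHom (Ideal.Quotient.mk P) := .of_surjective _ Ideal.Quotient.mk_surjective
  haveI : IsSepClosed (ResidueField (Ash ⧸ P)) :=
    Groth.Agent.Hensel.isSepClosed_of_ringEquiv (RingEquiv.ofBijective (ResidueField.map (Ideal.Quotient.mk P))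
      ⟨RingHom.injective _, fun z => by
        obtain ⟨z, rfl⟩ := residue_surjective z
        obtain ⟨a, rfl⟩ := Ideal.Quotient.mk_surjective z
        exact ⟨residue Ash a, ResidueField.map_residue _ a⟩⟩)
  refine (Unib7.isGeomUnibranch_of_smooth (maximalIdeal (Ash ⧸ P)) ?_ Q' (redBase_comap P Q' hQ')).2
  exact UnibEtale.isGeomUnibranch_of_ringEquiv
    (IsLocalization.atUnits (Ash ⧸ P) (maximalIdeal (Ash ⧸ P)).primeCompl
      (S := Localization.AtPrime (maximalIdeal (Ash ⧸ P)))
      fun x hx => (IsLocalRing.notMem_maximalIdeal).1 hx).toRingEquiv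
    (Unib7.isGeomUnibranch_of_strictlyHenselian (Ash ⧸ P))

end Groth.Agent.BrnchLib
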