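import Groth.Agent.IntBC.Branch
import Groth.Agent.Hensel.IntegralStrict
import Groth.Agent.S1182
import Groth.Prelude.Def_CAlg2
import Mathlib

/-! Smooth algebras over henselian domains are unibranch at primes with radicial residue extension. -/

set_option autoImplicit false
set_option linter.style.haveILetI false

universe u

open IsLocalRing TensorProduct

namespace Groth.Agent.BrnchLib

set_option synthInstance.maxHeartbeats 200000 in
theorem isUnibranch_of_integral_normal (O : Type u) [CommRing O] [IsDomain O] [IsLocalRing O]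
    (N : Type u) [CommRing N] [IsDomain N] [IsLocalRing N] [IsIntegrallyClosed N] [Algebra O N]
    [Algebra.IsIntegral O N] (hinj : Function.Injective (algebraMap O N)) : CAlg2.IsUnibranch O := by
  haveI : (nilradical O).IsPrime := by rw [nilradical_eq_zero]; exact Ideal.bot_prime
  haveI hdom : IsDomain (CAlg2.red O) := (Ideal.Quotient.isDomain_iff_prime _).2 inferInstance
  refine ⟨hdom, ?_⟩
  let K := FractionRing (CAlg2.red O)
  let L := FractionRing N
  -- the reduction maps to `N`
  let g : CAlg2.red O →+* N := Ideal.Quotient.lift _ (algebraMap O N) fun a ha => by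
    rw [nilradical_eq_zero] at ha
    rw [Ideal.mem_bot.1 ha, map_zero]
  have hg : Function.Injective g := (injective_iff_map_eq_zero g).2 fun x hx => by
    obtain ⟨x, rfl⟩ := Ideal.Quotient.mk_surjective x
    rw [show x = 0 from hinj (hx.trans (map_zero _).symm), map_zero]
  letI : Algebra (CAlg2.red O) L := ((algebraMap N L).comp g).toAlgebra
  haveI : FaithfulSMul (CAlg2.red O) L :=
    (faithfulSMul_iff_algebraMap_injective _ _).2 ((IsFractionRing.injective N L).comp hg)
  letI : Algebra K L := FractionRing.liftAlgebra (CAlg2.red O) L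
  haveI : IsScalarTower (CAlg2.red O) K L := FractionRing.isScalarTower_liftAlgebra (CAlg2.red O) L
  have hmem : ∀ x : CAlg2.normRed O, algebraMap K L x.1 ∈ (algebraMap N L).range := fun x => by
    have hx : IsIntegral (CAlg2.red O) (algebraMap K L x.1) := x.2.map (IsScalarTower.toAlgHom (CAlg2.red O) K L)
    obtain ⟨P, hP, he⟩ := hx
    have h1 : IsIntegral N (algebraMap K L x.1) :=
      ⟨P.map g, hP.map g, by rw [Polynomial.eval₂_map]; exact he⟩
    obtain ⟨y, hy⟩ := IsIntegrallyClosed.isIntegral_iff.1 h1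
    exact ⟨y, hy⟩
  choose ψ hψ using hmem
  let Ψ : CAlg2.normRed O →+* N :=
    { toFun := ψ
      map_one' := IsFractionRing.injective N L (by rw [hψ, map_one]; exact map_one _)
      map_mul' := fun a b => IsFractionRing.injective N L (by rw [map_mul, hψ, hψ, hψ]; exact map_mul _ _ _)
      map_zero' := IsFractionRing.injective N L (by rw [hψ, map_zero]; exact map_zero _)
      map_add' := fun a b => IsFractionRing.injective N L (by rw [map_add, hψ, hψ, hψ]; exact map_add _ _ _) }
  have hΨ : Function.Injective Ψ := fun a b h => Subtype.ext ((algebraMap K L).injective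
    (by rw [← hψ, ← hψ]; exact congrArg _ h))
  letI : Algebra (CAlg2.normRed O) N := Ψ.toAlgebra
  have hcomp : ∀ o : CAlg2.red O, Ψ (algebraMap _ (CAlg2.normRed O) o) = g o := fun o =>
    IsFractionRing.injective N L ((hψ _).trans (IsScalarTower.algebraMap_apply (CAlg2.red O) K L o).symm)
  haveI : Algebra.IsIntegral (CAlg2.normRed O) N := ⟨fun y => by
    obtain ⟨P, hP, he⟩ := Algebra.IsIntegral.isIntegral (R := O) y
    refine ⟨P.map ((algebraMap _ (CAlg2.normRed O)).comp (Ideal.Quotient.mk (nilradical O))), hP.map _, ?_⟩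
    rw [Polynomial.eval₂_map]
    refine Eq.trans ?_ he
    congr 1
    exact RingHom.ext fun o => hcomp (Ideal.Quotient.mk _ o)⟩
  -- going up
  haveI : Nontrivial (CAlg2.normRed O) := inferInstance
  refine IsLocalRing.of_unique_max_ideal ⟨(maximalIdeal N).comap Ψ,
    Ideal.isMaximal_comap_of_isIntegral_of_isMaximal (R := CAlg2.normRed O) (maximalIdeal N), fun m hm => ?_⟩
  haveI := hm
  obtain ⟨M, -, hMp, hM⟩ := Ideal.exists_ideal_over_prime_of_isIntegral m (⊥ : Ideal N) fun x hx => by
    rw [show x = 0 from hΨ ((Ideal.mem_bot.1 hx).trans (map_zero _).symm)]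
    exact m.zero_mem
  haveI : M.IsMaximal := Ideal.isMaximal_of_isIntegral_of_isMaximal_comap (R := CAlg2.normRed O) M (hM ▸ hm)
  rw [← hM, IsLocalRing.eq_maximalIdeal ‹M.IsMaximal›]
  rfl

/-- `isUnibranch_of_smooth_henselian` for a given normalization. -/
theorem isUnibranch_of_smooth_of_normal (D : Type u) [CommRing D] [IsLocalRing D]
    (N : Type u) [CommRing N] [IsDomain N] [IsLocalRing N] [IsIntegrallyClosed N] [Algebra D N]
    [Algebra.IsIntegral D N] (hDN : Function.Injective (algebraMap D N))
    (C : Type u) [CommRing C] [Algebra D C] [Algebra.Smooth D C] (Q : Ideal C) [Q.IsPrime]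
    (hQ : Q.comap (algebraMap D C) = maximalIdeal D)
    (hrad : ∀ c : C, ∃ (n : ℕ) (d : D), c ^ (ringExpChar (ResidueField D)) ^ n - algebraMap D C d ∈ Q) :
    CAlg2.IsUnibranch (Localization.AtPrime Q) := by
  letI : Algebra N (C ⊗[D] N) := Algebra.TensorProduct.rightAlgebra
  haveI : Algebra.Smooth N (C ⊗[D] N) := Algebra.Smooth.of_equiv (Algebra.TensorProduct.commRight D N C)
  have hnN : EGA4.IsNormalRing N := fun P _ => by
    have hP : P.primeCompl ≤ nonZeroDivisors N :=
      fun a ha => mem_nonZeroDivisors_of_ne_zero fun h => ha (h ▸ P.zero_mem)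
    exact ⟨IsLocalization.isDomain_localization hP,
      isIntegrallyClosed_of_isLocalization (Localization.AtPrime P) P.primeCompl hP⟩
  have hnT : EGA4.IsNormalRing (C ⊗[D] N) := (Groth.Agent.S1182.result N (C ⊗[D] N)).1 hnN
  have hCT : Function.Injective (algebraMap C (C ⊗[D] N)) :=
    Algebra.TensorProduct.includeLeft_injective (R := D) (S := D) (B := N) hDN
  let iR : N →+* (C ⊗[D] N) := (Algebra.TensorProduct.includeRight : N →ₐ[D] (C ⊗[D] N)).toRingHom
  have hcomm : iR.comp (algebraMap D N) = (algebraMap C (C ⊗[D] N)).comp (algebraMap D C) :=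
    (Algebra.TensorProduct.includeLeftRingHom_comp_algebraMap (R := D) (A := C) (B := N)).symm
  have hover : ∀ P : Ideal (C ⊗[D] N), P.IsPrime → P.comap (algebraMap C (C ⊗[D] N)) = Q → P.comap iR = maximalIdeal N := by
    intro P hP hPQ
    haveI := hP
    haveI : (P.comap iR).IsPrime := Ideal.IsPrime.comap iR
    refine IsLocalRing.eq_maximalIdeal (Ideal.isMaximal_of_isIntegral_of_isMaximal_comap (R := D) _ ?_)
    rw [Ideal.comap_comap, hcomm, ← Ideal.comap_comap, hPQ, hQ]
    infer_instance
  -- the residue fields over the closed point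
  let p := ringExpChar (ResidueField D)
  haveI : ExpChar (ResidueField D) p := ringExpChar.expChar _
  have hp : 0 < p := expChar_pos (ResidueField D) p
  have hexp : ∀ P : Ideal (C ⊗[D] N), P.IsPrime → P.comap (algebraMap C (C ⊗[D] N)) = Q → ExpChar ((C ⊗[D] N) ⧸ P) p := fun P hP hPQ => by
    haveI := hP
    let χ : ResidueField D →+* (C ⊗[D] N) ⧸ P :=
      Ideal.Quotient.lift _ ((Ideal.Quotient.mk P).comp ((algebraMap C (C ⊗[D] N)).comp (algebraMap D C))) fun d hd => by
        rw [← hQ, Ideal.mem_comap, ← hPQ, Ideal.mem_comap] at hd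
        exact Ideal.Quotient.eq_zero_iff_mem.2 hd
    exact (RingHom.expChar_iff χ χ.injective p).mp inferInstance
  obtain ⟨P, -, hPp, hPQ⟩ := Ideal.exists_ideal_over_prime_of_isIntegral Q (⊥ : Ideal (C ⊗[D] N)) fun x hx => by
    rw [show x = 0 from hCT ((Ideal.mem_bot.1 hx).trans (map_zero _).symm)]
    exact Q.zero_mem
  haveI := hPp
  have huniq : ∀ P' : Ideal (C ⊗[D] N), P'.IsPrime → P'.comap (algebraMap C (C ⊗[D] N)) = Q → P' = P := by
    have key : ∀ x : (C ⊗[D] N), ∃ (n : ℕ) (y : N), ∀ P' : Ideal (C ⊗[D] N), P'.IsPrime → P'.comap (algebraMap C (C ⊗[D] N)) = Q →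
        x ^ p ^ n - iR y ∈ P' := fun x => by
      induction x using TensorProduct.induction_on with
      | zero => exact ⟨0, 0, fun P' _ _ => by simp⟩
      | tmul c y =>
        obtain ⟨n, d, hd⟩ := hrad c
        refine ⟨n, algebraMap D N d * y ^ p ^ n, fun P' _ hP' => ?_⟩
        have e : c ⊗ₜ[D] y = algebraMap C (C ⊗[D] N) c * iR y := by simp [iR]
        rw [e, mul_pow, map_mul iR, map_pow iR, ← RingHom.comp_apply iR, hcomm, RingHom.comp_apply, ← sub_mul,
          ← map_pow, ← map_sub]
        exact P'.mul_mem_right _ (hP'.ge hd)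
      | add a b ha hb =>
        obtain ⟨n, y, ha⟩ := ha
        obtain ⟨m, z, hb⟩ := hb
        refine ⟨n + m, y ^ p ^ m + z ^ p ^ n, fun P' hP'p hP' => ?_⟩
        haveI := hexp P' hP'p hP'
        rw [← Ideal.Quotient.eq_zero_iff_mem, map_sub, sub_eq_zero]
        have h1 := Ideal.Quotient.eq.2 (ha P' hP'p hP')
        have h2 := Ideal.Quotient.eq.2 (hb P' hP'p hP')
        simp only [map_pow, map_add] at h1 h2 ⊢
        rw [add_pow_expChar_pow (R := (C ⊗[D] N) ⧸ P') (p := p)]
        conv_lhs => arg 1; rw [pow_add, pow_mul, h1]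
        conv_lhs => arg 2; rw [add_comm n m, pow_add, pow_mul, h2]
    intro P' hP'p hP'
    have h0 : ∀ A B : Ideal (C ⊗[D] N), A.IsPrime → B.IsPrime → A.comap (algebraMap C (C ⊗[D] N)) = Q →
        B.comap (algebraMap C (C ⊗[D] N)) = Q → A ≤ B := fun A B hA hB eA eB => by
      letI : Algebra N (C ⊗[D] N) := Algebra.TensorProduct.rightAlgebra
      intro t ht
      obtain ⟨n, y, hy⟩ := key t
      have hyA : iR y ∈ A := by
        have := sub_mem (A.pow_mem_of_mem ht _ (pow_pos hp n)) (hy A hA eA)
        rwa [sub_sub_cancel] at this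
      have hym : y ∈ maximalIdeal N := (hover A hA eA) ▸ hyA
      rw [← hover B hB eB, Ideal.mem_comap] at hym
      have := add_mem (hy B hB eB) hym
      rw [sub_add_cancel] at this
      exact hB.mem_of_pow_mem _ this
    exact le_antisymm (h0 _ _ hP'p hPp hP' hPQ) (h0 _ _ hPp hP'p hPQ hP')
  -- the local map
  let CQ := Localization.AtPrime Q
  let TP := Localization.AtPrime P
  let lr : CQ →+* TP := Localization.localRingHom Q P (algebraMap C (C ⊗[D] N)) hPQ.symm
  haveI : IsDomain TP := (hnT P).1
  haveI : IsIntegrallyClosed TP := (hnT P).2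
  have hlrinj : Function.Injective lr := (injective_iff_map_eq_zero lr).2 fun a ha => by
    obtain ⟨r, s, rfl⟩ := IsLocalization.exists_mk'_eq Q.primeCompl a
    rw [Localization.localRingHom_mk'] at ha
    obtain ⟨m, hm⟩ := (IsLocalization.mk'_eq_zero_iff _ _).1 ha
    obtain ⟨d, hd, t, ht⟩ := IntBC.exists_mul_eq_algebraMap Q P huniq m m.2
    rw [IsLocalization.mk'_eq_zero_iff]
    exact ⟨⟨d, hd⟩, hCT (by rw [map_mul, ← ht, map_zero]; linear_combination t * hm)⟩
  haveI : IsDomain CQ := hlrinj.isDomain
  letI : Algebra CQ TP := lr.toAlgebra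
  haveI : Algebra.IsIntegral CQ TP := ⟨fun z => by
    obtain ⟨t, s, rfl⟩ := IsLocalization.exists_mk'_eq P.primeCompl z
    obtain ⟨d, hd, t', ht'⟩ := IntBC.exists_mul_eq_algebraMap Q P huniq s s.2
    have hnum : lr.IsIntegralElem (algebraMap (C ⊗[D] N) TP (t * t')) := by
      obtain ⟨F, hF, he⟩ := Algebra.IsIntegral.isIntegral (R := C) (t * t')
      refine ⟨F.map (algebraMap C CQ), hF.map _, ?_⟩
      rw [Polynomial.eval₂_map, show lr.comp (algebraMap C CQ) = (algebraMap (C ⊗[D] N) TP).comp (algebraMap C (C ⊗[D] N)) from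
        RingHom.ext fun r => Localization.localRingHom_to_map Q P (algebraMap C (C ⊗[D] N)) hPQ.symm r, ← Polynomial.hom_eval₂, he, map_zero]
    suffices e : IsLocalization.mk' TP t s =
        algebraMap (C ⊗[D] N) TP (t * t') * lr (IsLocalization.mk' CQ 1 (⟨d, hd⟩ : Q.primeCompl)) by
      rw [e]; exact hnum.mul lr lr.isIntegralElem_map
    rw [Localization.localRingHom_mk', ← IsLocalization.mk'_one (M := P.primeCompl) TP (t * t'),
      ← IsLocalization.mk'_mul, IsLocalization.mk'_eq_iff_eq]
    simp only [Submonoid.coe_mul, OneMemClass.coe_one, one_mul, map_one, mul_one]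
    rw [show algebraMap C (C ⊗[D] N) d = s * t' from ht'.symm]
    ring_nf⟩
  exact isUnibranch_of_integral_normal CQ TP hlrinj


/-- A smooth algebra over a henselian domain is unibranch at a prime over the closed point whose residue
extension is purely inseparable. -/
theorem isUnibranch_of_smooth_henselian (D : Type u) [CommRing D] [IsDomain D] [HenselianLocalRing D]
    (C : Type u) [CommRing C] [Algebra D C] [Algebra.Smooth D C] (Q : Ideal C) [Q.IsPrime]
    (hQ : Q.comap (algebraMap D C) = maximalIdeal D)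
    (hrad : ∀ c : C, ∃ (n : ℕ) (d : D), c ^ (ringExpChar (ResidueField D)) ^ n - algebraMap D C d ∈ Q) :
    CAlg2.IsUnibranch (Localization.AtPrime Q) := by
  let K := FractionRing D
  let N := integralClosure D K
  haveI : IsFractionRing N K := integralClosure.isFractionRing_of_finite_extension K K
  haveI : IsIntegrallyClosed N := integralClosure.isIntegrallyClosedOfFiniteExtension K
  haveI : IsLocalRing N := Groth.Agent.Hensel.isLocalRing_of_isIntegral_domain D N
  have hDN : Function.Injective (algebraMap D N) := fun a b h =>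
    IsFractionRing.injective D K (congrArg Subtype.val h)
  exact isUnibranch_of_smooth_of_normal D N hDN C Q hQ hrad

end Groth.Agent.BrnchLib
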